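import Mathlib

set_option autoImplicit false

namespace Cfsg.Agent.Helper78

open Subgroup
open scoped Pointwise commutatorElement

universe u

/-- The Frobenius hypothesis: every element of order prime to `p` normalizing a `p`-subgroup
centralizes it. -/
def FrobHyp (p : ℕ) (G : Type u) [Group G] : Prop :=
  ∀ Q : Subgroup G, IsPGroup p Q → ∀ g ∈ normalizer (Q : Set G), (orderOf g).Coprime p →
    g ∈ centralizer (Q : Set G)

variable {G : Type u} [Group G] {p : ℕ}

theorem mem_smul_sylow' {g x : G} {P : Sylow p G} :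
    x ∈ ((g • P : Sylow p G) : Subgroup G) ↔ g⁻¹ * x * g ∈ (P : Subgroup G) := by
  rw [Sylow.coe_subgroup_smul, Subgroup.mem_pointwise_smul_iff_inv_smul_mem]
  simp [MulAut.smul_def]

theorem FrobHyp.pow_mem_centralizer [Fact p.Prime] [Finite G] (h : FrobHyp p G) (D : Subgroup G)
    (hD : IsPGroup p D) {n : G} (hn : n ∈ normalizer (D : Set G)) :
    ∃ k : ℕ, n ^ (p ^ k) ∈ centralizer (D : Set G) := by
  have hp := (Fact.out : p.Prime)
  have hpos : orderOf n ≠ 0 := (orderOf_pos n).ne'
  refine ⟨(orderOf n).factorization p, h D hD _ (pow_mem hn _) ?_⟩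
  rw [orderOf_pow_of_dvd (pow_ne_zero _ hp.ne_zero) (Nat.ordProj_dvd _ _)]
  exact (Nat.coprime_ordCompl hp hpos).symm

theorem FrobHyp.exists_mul_of_mem_normalizer [Fact p.Prime] [Finite G] (h : FrobHyp p G)
    (D : Subgroup G) (hD : IsPGroup p D) (R : Sylow p (normalizer (D : Set G)))
    (n : normalizer (D : Set G)) :
    ∃ c r : normalizer (D : Set G), (c : G) ∈ centralizer (D : Set G) ∧ r ∈ R ∧ n = c * r := by
  have hp := (Fact.out : p.Prime)
  let N := normalizer (D : Set G)
  let C : Subgroup N := (centralizer (D : Set G)).subgroupOf N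
  have hCn : C.Normal := normal_subgroupOf_centralizer_normalizer _
  have hq : IsPGroup p (N ⧸ C) := by
    intro x
    obtain ⟨y, rfl⟩ := QuotientGroup.mk_surjective x
    obtain ⟨k, hk⟩ := h.pow_mem_centralizer D hD y.2
    refine ⟨k, ?_⟩
    rw [← QuotientGroup.mk_pow, QuotientGroup.eq_one_iff]
    exact hk
  obtain ⟨j, hj⟩ := IsPGroup.iff_card.mp hq
  have hidx : C.index = p ^ j := by rw [Subgroup.index_eq_card]; exact hj
  have h1 : (C ⊔ (R : Subgroup N)).index ∣ p ^ j := hidx ▸ Subgroup.index_dvd_of_le le_sup_left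
  have h2 : (C ⊔ (R : Subgroup N)).index ∣ (R : Subgroup N).index :=
    Subgroup.index_dvd_of_le le_sup_right
  have h3 : (C ⊔ (R : Subgroup N)).index = 1 := by
    have hcop : Nat.Coprime (p ^ j) (R : Subgroup N).index :=
      Nat.Coprime.pow_left _ ((Nat.Prime.coprime_iff_not_dvd hp).mpr R.not_dvd_index)
    exact Nat.eq_one_of_dvd_coprimes hcop h1 h2
  have h4 : C ⊔ (R : Subgroup N) = ⊤ := Subgroup.index_eq_one.mp h3
  have hn : n ∈ C ⊔ (R : Subgroup N) := h4 ▸ mem_top n
  rw [← SetLike.mem_coe, Subgroup.normal_mul] at hn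
  obtain ⟨c, hc, r, hr, rfl⟩ := Set.mem_mul.mp hn
  exact ⟨c, r, hc, hr, rfl⟩

theorem FrobHyp.exists_sylow_conj [Fact p.Prime] [Finite G] (h : FrobHyp p G) (D : Subgroup G)
    (hD : IsPGroup p D) (A A' : Subgroup G) (hA : IsPGroup p A) (hA' : IsPGroup p A')
    (hAN : A ≤ normalizer (D : Set G)) (hA'N : A' ≤ normalizer (D : Set G)) :
    ∃ c ∈ centralizer (D : Set G), ∃ S₂ : Sylow p G,
      (∀ a ∈ A, c * a * c⁻¹ ∈ (S₂ : Subgroup G)) ∧ A' ≤ (S₂ : Subgroup G) := by
  obtain ⟨R, hR⟩ := (hA.comap_subtype (K := normalizer (D : Set G))).exists_le_sylow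
  obtain ⟨R', hR'⟩ := (hA'.comap_subtype (K := normalizer (D : Set G))).exists_le_sylow
  obtain ⟨n, hn⟩ := MulAction.exists_smul_eq (normalizer (D : Set G)) R R'
  obtain ⟨c, r, hc, hr, rfl⟩ := h.exists_mul_of_mem_normalizer D hD R n
  have hrR : r • R = R := Sylow.smul_eq_iff_mem_normalizer.mpr (le_normalizer hr)
  rw [mul_smul, hrR] at hn
  obtain ⟨S₂, hS₂⟩ := (R'.2.map (normalizer (D : Set G)).subtype).exists_le_sylow
  refine ⟨c, hc, S₂, ?_, ?_⟩
  · intro a ha
    apply hS₂
    refine ⟨c * ⟨a, hAN ha⟩ * c⁻¹, ?_, by simp⟩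
    rw [SetLike.mem_coe, ← hn, mem_smul_sylow']
    have : c⁻¹ * (c * ⟨a, hAN ha⟩ * c⁻¹) * c = ⟨a, hAN ha⟩ := by group
    rw [this]
    exact hR ha
  · intro a ha
    apply hS₂
    exact ⟨⟨a, hA'N ha⟩, hR' ha, rfl⟩

theorem card_lt_card_of_lt [Finite G] {H K : Subgroup G} (h : H < K) : Nat.card H < Nat.card K := by
  by_contra hlt
  exact h.ne (Subgroup.eq_of_le_of_card_ge h.le (not_lt.mp hlt))

theorem exists_mem_normalizer_not_mem [Fact p.Prime] [Finite G] (S : Subgroup G)
    (hS : IsPGroup p S) (D : Subgroup G) (hDS : D < S) :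
    ∃ s ∈ S, s ∉ D ∧ s ∈ normalizer (D : Set G) := by
  have : Group.IsNilpotent S := hS.isNilpotent
  have hnc : NormalizerCondition S := Group.normalizerCondition_of_isNilpotent
  have hlt : D.subgroupOf S < ⊤ := by
    rw [lt_top_iff_ne_top, Ne, Subgroup.subgroupOf_eq_top]
    exact not_le_of_gt hDS
  obtain ⟨s, hs, hsD⟩ := SetLike.exists_of_lt (hnc _ hlt)
  refine ⟨s, s.2, fun hs' => hsD (Subgroup.mem_subgroupOf.mpr hs'), ?_⟩
  rw [mem_normalizer_iff] at hs ⊢
  intro x
  constructor
  · intro hx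
    exact Subgroup.mem_subgroupOf.mp ((hs ⟨x, hDS.le hx⟩).mp (Subgroup.mem_subgroupOf.mpr hx))
  · intro hx
    have hxS : x ∈ S := by
      have h1 : (s : G) * x * (s : G)⁻¹ ∈ S := hDS.le hx
      have : x = (s : G)⁻¹ * ((s : G) * x * (s : G)⁻¹) * (s : G) := by group
      rw [this]
      exact mul_mem (mul_mem (inv_mem s.2) h1) s.2
    exact Subgroup.mem_subgroupOf.mp ((hs ⟨x, hxS⟩).mpr (Subgroup.mem_subgroupOf.mpr hx))

theorem FrobHyp.exists_centralizer_smul_eq [Fact p.Prime] [Finite G] (h : FrobHyp p G) :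
    ∀ (k : ℕ) (S T : Sylow p G),
      Nat.card (S : Subgroup G) - Nat.card ((S : Subgroup G) ⊓ T : Subgroup G) = k →
      ∃ c ∈ centralizer (((S : Subgroup G) ⊓ T : Subgroup G) : Set G), c • S = T := by
  intro k
  induction k using Nat.strong_induction_on with
  | _ k ih =>
    intro S T hk
    by_cases hST : S = T
    · exact ⟨1, one_mem _, by rw [one_smul, hST]⟩
    have hDS : (S : Subgroup G) ⊓ T < S := lt_of_le_of_ne inf_le_left (fun hD => hST (by
      have hle : (S : Subgroup G) ≤ T := hD ▸ inf_le_right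
      exact Sylow.ext (S.3 T.2 hle).symm))
    have hDT : (S : Subgroup G) ⊓ T < T := lt_of_le_of_ne inf_le_right (fun hD => hST (by
      have hle : (T : Subgroup G) ≤ S := hD ▸ inf_le_left
      exact Sylow.ext (T.3 S.2 hle)))
    set D : Subgroup G := (S : Subgroup G) ⊓ T with hDdef
    have hDp : IsPGroup p D := S.2.to_le inf_le_left
    obtain ⟨s, hsS, hsD, hsN⟩ := exists_mem_normalizer_not_mem (S : Subgroup G) S.2 D hDS
    obtain ⟨t, htT, htD, htN⟩ := exists_mem_normalizer_not_mem (T : Subgroup G) T.2 D hDT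
    set A : Subgroup G := (S : Subgroup G) ⊓ normalizer (D : Set G) with hAdef
    set A' : Subgroup G := (T : Subgroup G) ⊓ normalizer (D : Set G) with hA'def
    have hDA : D < A := lt_of_le_of_ne (le_inf hDS.le le_normalizer)
      (fun hD => hsD (hD ▸ (⟨hsS, hsN⟩ : s ∈ A)))
    have hDA' : D < A' := lt_of_le_of_ne (le_inf hDT.le le_normalizer)
      (fun hD => htD (hD ▸ (⟨htT, htN⟩ : t ∈ A')))
    obtain ⟨c, hc, S₂, hcA, hA'S₂⟩ := h.exists_sylow_conj D hDp A A' (S.2.to_le inf_le_left)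
      (T.2.to_le inf_le_left) inf_le_right inf_le_right
    have hcardS : ∀ Q : Sylow p G, Nat.card (Q : Subgroup G) = Nat.card (S : Subgroup G) := by
      intro Q
      rw [Sylow.card_eq_multiplicity, Sylow.card_eq_multiplicity]
    -- the conjugate of A
    set Ac : Subgroup G := A.map (MulAut.conj c).toMonoidHom with hAcdef
    have hAc_card : Nat.card Ac = Nat.card A :=
      Subgroup.card_map_of_injective (MulAut.conj c).injective
    have hAc_le : Ac ≤ ((c • S : Sylow p G) : Subgroup G) ⊓ S₂ := by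
      rintro _ ⟨a, ha, rfl⟩
      refine ⟨mem_smul_sylow'.mpr ?_, ?_⟩
      · have : c⁻¹ * ((MulAut.conj c).toMonoidHom a) * c = a := by
          simp [MulAut.conj_apply]; group
        rw [this]
        exact ha.1
      · show (MulAut.conj c) a ∈ (S₂ : Subgroup G)
        rw [MulAut.conj_apply]
        exact hcA a ha
    have hD_le_Ac : D ≤ Ac := by
      intro d hd
      refine ⟨c⁻¹ * d * c, hDA.le ?_, ?_⟩
      · have : c⁻¹ * d * c = d := by
          have := hc d hd
          rw [mul_assoc, this]; group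
        rw [this]; exact hd
      · simp [MulAut.conj_apply]; group
    have hkpos : Nat.card D < Nat.card (S : Subgroup G) := card_lt_card_of_lt hDS
    -- first application of the induction hypothesis
    have hm1 : Nat.card ((c • S : Sylow p G) : Subgroup G) -
        Nat.card ((((c • S : Sylow p G) : Subgroup G) ⊓ S₂ : Subgroup G)) < k := by
      have h1 : Nat.card A ≤ Nat.card ((((c • S : Sylow p G) : Subgroup G) ⊓ S₂ : Subgroup G)) :=
        hAc_card ▸ Subgroup.card_le_of_le hAc_le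
      have h2 := card_lt_card_of_lt hDA
      rw [hcardS]
      omega
    obtain ⟨c₁, hc₁, hc₁S⟩ := ih _ hm1 (c • S) S₂ rfl
    have hm2 : Nat.card (S₂ : Subgroup G) -
        Nat.card (((S₂ : Subgroup G) ⊓ T : Subgroup G)) < k := by
      have h1 : Nat.card A' ≤ Nat.card (((S₂ : Subgroup G) ⊓ T : Subgroup G)) :=
        Subgroup.card_le_of_le (le_inf hA'S₂ inf_le_left)
      have h2 := card_lt_card_of_lt hDA'
      rw [hcardS]
      omega
    obtain ⟨c₂, hc₂, hc₂S⟩ := ih _ hm2 S₂ T rfl
    refine ⟨c₂ * c₁ * c, ?_, ?_⟩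
    · refine mul_mem (mul_mem ?_ ?_) hc
      · exact Subgroup.centralizer_le (SetLike.coe_subset_coe.mpr
          (le_inf ((hDA'.le.trans hA'S₂)) hDT.le)) hc₂
      · exact Subgroup.centralizer_le (SetLike.coe_subset_coe.mpr
          (hD_le_Ac.trans hAc_le)) hc₁
    · rw [mul_smul, mul_smul, hc₁S, hc₂S]

/-- Under the Frobenius hypothesis a Sylow `p`-subgroup controls fusion of its elements. -/
theorem FrobHyp.control [Fact p.Prime] [Finite G] (h : FrobHyp p G) (P : Sylow p G) {x : G}
    (hx : x ∈ (P : Subgroup G)) (g : G) (hg : g * x * g⁻¹ ∈ (P : Subgroup G)) :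
    ∃ u ∈ (P : Subgroup G), g * x * g⁻¹ = u * x * u⁻¹ := by
  have hx' : x ∈ ((g⁻¹ • P : Sylow p G) : Subgroup G) := by
    rw [mem_smul_sylow', inv_inv]; exact hg
  obtain ⟨c, hc, hcP⟩ := h.exists_centralizer_smul_eq _ P (g⁻¹ • P) rfl
  have hcx : x * c = c * x := hc x ⟨hx, hx'⟩
  have hn : g * c ∈ normalizer ((P : Subgroup G) : Set G) :=
    (Sylow.smul_eq_iff_mem_normalizer (g := g * c) (P := P)).mp
      (by rw [mul_smul, hcP, smul_inv_smul])
  obtain ⟨c', r, hc', hr, hnr⟩ :=
    h.exists_mul_of_mem_normalizer P P.2 (P.subtype le_normalizer) ⟨g * c, hn⟩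
  have hgc : g * c = (c' : G) * (r : G) := congrArg Subtype.val hnr
  have hrP : (r : G) ∈ (P : Subgroup G) := by
    have hr' : r ∈ ((P.subtype le_normalizer : Sylow p _) : Subgroup _) := hr
    rw [Sylow.coe_subtype] at hr'
    exact Subgroup.mem_subgroupOf.mp hr'
  refine ⟨r, hrP, ?_⟩
  have h1 : g * x * g⁻¹ = (g * c) * x * (g * c)⁻¹ := by
    have : c * x * c⁻¹ = x := by rw [← hcx]; group
    calc g * x * g⁻¹ = g * (c * x * c⁻¹) * g⁻¹ := by rw [this]
      _ = _ := by group
  rw [h1, hgc]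
  have h2 : (r : G) * x * (r : G)⁻¹ ∈ (P : Subgroup G) := mul_mem (mul_mem hrP hx) (inv_mem hrP)
  have h3 := hc' _ h2
  calc (c' : G) * r * x * ((c' : G) * r)⁻¹ = c' * (r * x * (r : G)⁻¹) * (c' : G)⁻¹ := by group
    _ = (r * x * (r : G)⁻¹) * c' * (c' : G)⁻¹ := by rw [h3]
    _ = _ := by group

/-- If `P` controls fusion of its elements then the focal subgroup of `P` is its commutator. -/
theorem focalSubgroupOf_eq_commutator_of_control (P : Subgroup G)
    (hctrl : ∀ x ∈ P, ∀ g : G, g * x * g⁻¹ ∈ P → ∃ u ∈ P, g * x * g⁻¹ = u * x * u⁻¹) :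
    P.focalSubgroupOf = commutator P := by
  apply le_antisymm
  · rw [focalSubgroupOf_eq_closure, closure_le]
    rintro g ⟨x, hx, u, hg⟩
    have hconj : u * x⁻¹ * u⁻¹ ∈ P := by
      have : u * x⁻¹ * u⁻¹ = x⁻¹ * ⁅x, u⁆ := by rw [commutatorElement_def]; group
      rw [this, ← hg]; exact mul_mem (inv_mem hx) g.2
    obtain ⟨v, hv, hv'⟩ := hctrl x⁻¹ (inv_mem hx) u hconj
    have : g = ⁅(⟨x, hx⟩ : P), ⟨v, hv⟩⁆ := by
      apply Subtype.ext
      rw [hg]
      simp only [commutatorElement_def, Subgroup.coe_mul, Subgroup.coe_inv]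
      rw [mul_assoc x u, mul_assoc x (u * x⁻¹), hv']
      group
    rw [this]
    exact commutator_mem_commutator (mem_top _) (mem_top _)
  · exact commutator_le_focalSubgroupOf P

theorem FrobHyp.subgroup (h : FrobHyp p G) (H : Subgroup G) : FrobHyp p H := by
  intro Q hQ g hg hcop
  have h1 := h (Q.map H.subtype) (hQ.map _) (g : G) ?_ ?_
  · rw [mem_centralizer_iff] at h1 ⊢
    intro y hy
    exact Subtype.ext (h1 y ⟨y, hy, rfl⟩)
  · rw [mem_normalizer_iff] at hg ⊢
    intro y
    constructor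
    · rintro ⟨z, hz, rfl⟩
      exact ⟨g * z * g⁻¹, (hg z).mp hz, by simp⟩
    · rintro ⟨z, hz, hzy⟩
      have : y = ((g⁻¹ * z * g : H) : G) := by
        simp only [Subgroup.coe_mul, Subgroup.coe_inv]
        rw [show (H.subtype z : G) = (z : G) from rfl] at hzy
        rw [hzy]; group
      refine ⟨g⁻¹ * z * g, ?_, this.symm⟩
      apply (hg _).mpr
      have hz' : z ∈ Q := hz
      convert hz' using 1
      group
  · rwa [Subgroup.orderOf_coe]

theorem mem_of_coprime_orderOf_of_index [Finite G] (K : Subgroup G) [K.Normal] {k : ℕ}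
    (hK : K.index = p ^ k) {y : G} (hy : (orderOf y).Coprime p) : y ∈ K := by
  rw [← QuotientGroup.eq_one_iff]
  have h1 : orderOf (y : G ⧸ K) ∣ orderOf y :=
    orderOf_dvd_of_pow_eq_one (by rw [← QuotientGroup.mk_pow, pow_orderOf_eq_one]; rfl)
  have h2 : orderOf (y : G ⧸ K) ∣ p ^ k := by
    rw [← hK, Subgroup.index_eq_card]; exact orderOf_dvd_natCard _
  have : orderOf (y : G ⧸ K) = 1 := Nat.eq_one_of_dvd_coprimes (hy.pow_right k) h1 h2
  exact orderOf_eq_one_iff.mp this

/-- If a Sylow `p`-subgroup `P` controls fusion of its elements (in every subgroup... here: under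
the Frobenius hypothesis, which is inherited by subgroups), there is a normal subgroup of order
prime to `p` and index a power of `p`. -/
theorem FrobHyp.exists_normal_aux [Fact p.Prime] :
    ∀ (n : ℕ) (G : Type u) [Group G] [Finite G], Nat.card G = n → FrobHyp p G →
      ∃ K : Subgroup G, K.Normal ∧ (Nat.card K).Coprime p ∧ ∃ k : ℕ, K.index = p ^ k := by
  have hp := (Fact.out : p.Prime)
  intro n
  induction n using Nat.strong_induction_on with
  | _ n ih =>
    intro G _ _ hn h
    obtain ⟨P⟩ : Nonempty (Sylow p G) := inferInstance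
    by_cases hP : (P : Subgroup G) = ⊥
    · refine ⟨⊤, inferInstance, ?_, 0, by simp⟩
      rw [Subgroup.card_top]
      have h1 : Nat.card (P : Subgroup G) = 1 := by rw [hP]; exact Subgroup.card_bot
      rw [Sylow.card_eq_multiplicity] at h1
      have h2 : (Nat.card G).factorization p = 0 := by
        by_contra h0
        have : 1 < p ^ (Nat.card G).factorization p := Nat.one_lt_pow h0 hp.one_lt
        omega
      rcases (Nat.factorization_eq_zero_iff _ _).mp h2 with h3 | h3 | h3
      · exact absurd hp h3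
      · exact ((Nat.Prime.coprime_iff_not_dvd hp).mpr h3).symm
      · exact absurd h3 Nat.card_pos.ne'
    · have hfoc : (P : Subgroup G).focalSubgroupOf = commutator (P : Subgroup G) :=
        focalSubgroupOf_eq_commutator_of_control _ (fun x hx g hg => h.control P hx g hg)
      have hnt : Nontrivial (P : Subgroup G) := (Subgroup.nontrivial_iff_ne_bot _).mpr hP
      have hnil : Group.IsNilpotent (P : Subgroup G) := P.2.isNilpotent
      have hlt : commutator (P : Subgroup G) < ⊤ :=
        Group.IsSolvable.commutator_lt_top_of_nontrivial (P : Subgroup G)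
      set H : Subgroup G := (P : Subgroup G).transferFocal.ker with hH
      have hsurj := Subgroup.transferFocal_surjective P
      have hHne : H ≠ ⊤ := by
        intro htop
        apply hlt.ne
        rw [← hfoc]
        rw [eq_top_iff]
        intro y _
        obtain ⟨g, hg⟩ := hsurj (y : (P : Subgroup G) ⧸ (P : Subgroup G).focalSubgroupOf)
        have : g ∈ H := htop ▸ mem_top g
        rw [hH, MonoidHom.mem_ker] at this
        rw [this] at hg
        exact (QuotientGroup.eq_one_iff y).mp hg.symm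
      have hcardH : Nat.card H < n := by
        rw [← hn, ← Subgroup.card_top (G := G)]
        exact card_lt_card_of_lt (lt_top_iff_ne_top.mpr hHne)
      obtain ⟨j, hj⟩ : ∃ j : ℕ, H.index = p ^ j := by
        have e := Subgroup.transferFocal.quotientKerMulEquivQuotientFocalSubroupOf P
        have hq : IsPGroup p ((P : Subgroup G) ⧸ (P : Subgroup G).focalSubgroupOf) :=
          P.2.to_quotient _
        obtain ⟨j, hj⟩ := IsPGroup.iff_card.mp hq
        exact ⟨j, by rw [Subgroup.index_eq_card, Nat.card_congr e.toEquiv, hj]⟩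
      obtain ⟨K₀, hK₀n, hK₀c, k₀, hK₀i⟩ := ih _ hcardH H rfl (h.subgroup H)
      refine ⟨K₀.map H.subtype, ?_, ?_, k₀ + j, ?_⟩
      · constructor
        rintro _ ⟨x₀, hx₀, rfl⟩ g
        have hHn : H.Normal := MonoidHom.normal_ker _
        have hy : g * (x₀ : G) * g⁻¹ ∈ H := hHn.conj_mem _ x₀.2 g
        refine ⟨⟨_, hy⟩, ?_, rfl⟩
        apply mem_of_coprime_orderOf_of_index K₀ hK₀i
        have h1 : orderOf (⟨_, hy⟩ : H) = orderOf x₀ := by
          rw [← Subgroup.orderOf_coe, ← Subgroup.orderOf_coe]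
          exact (MulAut.conj g).orderOf_eq (x₀ : G)
        rw [h1]
        exact Nat.Coprime.coprime_dvd_left (Subgroup.orderOf_dvd_natCard K₀ hx₀) hK₀c
      · rwa [Subgroup.card_map_of_injective H.subtype_injective]
      · rw [Subgroup.index_map_subtype, hK₀i, hj, pow_add]

theorem isComplement'_of_coprime_of_index [Fact p.Prime] [Finite G] (P : Sylow p G)
    (K : Subgroup G) (hc : (Nat.card K).Coprime p) {k : ℕ} (hk : K.index = p ^ k) :
    K.IsComplement' (P : Subgroup G) := by
  have hp := (Fact.out : p.Prime)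
  obtain ⟨m, hm⟩ := IsPGroup.iff_card.mp P.2
  have h1 : Nat.card K * p ^ k = Nat.card G := by rw [← hk]; exact K.card_mul_index
  have h2 : p ^ m * (P : Subgroup G).index = Nat.card G := by
    rw [← hm]; exact (P : Subgroup G).card_mul_index
  have hPi : ((P : Subgroup G).index).Coprime p :=
    ((Nat.Prime.coprime_iff_not_dvd hp).mpr P.not_dvd_index).symm
  have h3 : p ^ m ∣ p ^ k := by
    have : p ^ m ∣ Nat.card K * p ^ k := h1 ▸ (Dvd.intro _ h2)
    exact (Nat.Coprime.pow_left m hc.symm).dvd_of_dvd_mul_left this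
  have h4 : p ^ k ∣ p ^ m := by
    have : p ^ k ∣ p ^ m * (P : Subgroup G).index := h2 ▸ (Dvd.intro_left _ h1)
    exact (Nat.Coprime.pow_left k hPi.symm).dvd_of_dvd_mul_right this
  have h5 : p ^ m = p ^ k := Nat.dvd_antisymm h3 h4
  apply Subgroup.isComplement'_of_coprime
  · rw [hm, h5]; exact h1
  · rw [hm]; exact Nat.Coprime.pow_right m hc

/-- **Frobenius' normal `p`-complement theorem** (the hard direction). -/
theorem FrobHyp.exists_normal_isComplement' [Fact p.Prime] [Finite G] (h : FrobHyp p G)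
    (P : Sylow p G) : ∃ N : Subgroup G, N.Normal ∧ N.IsComplement' (P : Subgroup G) := by
  obtain ⟨K, hKn, hKc, k, hk⟩ := FrobHyp.exists_normal_aux (p := p) _ G rfl h
  exact ⟨K, hKn, isComplement'_of_coprime_of_index P K hKc hk⟩

/-- The easy direction: a normal `p`-complement forces the Frobenius hypothesis. -/
theorem frobHyp_of_isComplement' [Fact p.Prime] [Finite G] (P : Sylow p G) (N : Subgroup G)
    [hNn : N.Normal] (hN : N.IsComplement' (P : Subgroup G)) : FrobHyp p G := by
  have hp := (Fact.out : p.Prime)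
  obtain ⟨m, hm⟩ := IsPGroup.iff_card.mp P.2
  have hidx : N.index = p ^ m := by rw [← hm]; exact hN.symm.index_eq_card
  have hNc : (Nat.card N).Coprime p := by
    rw [← hN.index_eq_card]
    exact ((Nat.Prime.coprime_iff_not_dvd hp).mpr P.not_dvd_index).symm
  intro Q hQ g hg hcop
  have hgN : g ∈ N := mem_of_coprime_orderOf_of_index N hidx hcop
  rw [mem_centralizer_iff]
  intro q hq
  have h1 : g * q * g⁻¹ * q⁻¹ ∈ Q := mul_mem ((mem_normalizer_iff.mp hg q).mp hq) (inv_mem hq)
  have h2 : g * q * g⁻¹ * q⁻¹ ∈ N := by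
    have : g * q * g⁻¹ * q⁻¹ = g * (q * g⁻¹ * q⁻¹) := by group
    rw [this]
    exact mul_mem hgN (hNn.conj_mem _ (inv_mem hgN) q)
  have h3 : g * q * g⁻¹ * q⁻¹ = 1 := by
    obtain ⟨a, ha⟩ := hQ ⟨_, h1⟩
    have ha' : (g * q * g⁻¹ * q⁻¹) ^ p ^ a = 1 := by
      have := congrArg Subtype.val ha
      simpa using this
    have hd1 : orderOf (g * q * g⁻¹ * q⁻¹) ∣ p ^ a := orderOf_dvd_of_pow_eq_one ha'
    have hd2 : orderOf (g * q * g⁻¹ * q⁻¹) ∣ Nat.card N := Subgroup.orderOf_dvd_natCard N h2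
    exact orderOf_eq_one_iff.mp (Nat.eq_one_of_dvd_coprimes (hNc.pow_right a) hd2 hd1)
  have : g * q = q * g := by
    have h4 : g * q * g⁻¹ * q⁻¹ * (q * g) = 1 * (q * g) := by rw [h3]
    rw [one_mul] at h4
    rw [← h4]; group
  exact this.symm

/-- The Frobenius hypothesis needs only be checked on the subgroups of one Sylow subgroup. -/
theorem FrobHyp.of_sylow [Fact p.Prime] [Finite G] (P : Sylow p G)
    (hP : ∀ Q : Subgroup G, Q ≤ (P : Subgroup G) → ∀ g ∈ normalizer (Q : Set G),
      (orderOf g).Coprime p → g ∈ centralizer (Q : Set G)) : FrobHyp p G := by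
  intro Q hQ x hx hcop
  obtain ⟨P', hP'⟩ := hQ.exists_le_sylow
  obtain ⟨g, hg⟩ := MulAction.exists_smul_eq G P P'
  set f : G ≃* G := MulAut.conj g⁻¹ with hf
  have hQ'P : Q.map f.toMonoidHom ≤ (P : Subgroup G) := by
    rintro _ ⟨q, hq, rfl⟩
    have : q ∈ ((g • P : Sylow p G) : Subgroup G) := hg ▸ hP' hq
    rw [mem_smul_sylow'] at this
    simpa [hf, MulAut.conj_apply] using this
  have hy : f x ∈ normalizer ((Q.map f.toMonoidHom : Subgroup G) : Set G) := by
    rw [← Subgroup.map_equiv_normalizer_eq]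
    exact ⟨x, hx, rfl⟩
  have hc := hP _ hQ'P (f x) hy (by rwa [f.orderOf_eq])
  rw [mem_centralizer_iff] at hc ⊢
  intro q hq
  have := hc (f q) ⟨q, hq, rfl⟩
  rw [← map_mul, ← map_mul] at this
  exact f.injective this

/-- **Frobenius' normal `p`-complement theorem**. -/
theorem frobenius_normal_pComplement_iff [Fact p.Prime] [Finite G] (P : Sylow p G) :
    (∃ N : Subgroup G, N.Normal ∧ N.IsComplement' (P : Subgroup G)) ↔
      ∀ Q : Subgroup G, Q ≤ (P : Subgroup G) → ∀ g ∈ normalizer (Q : Set G),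
        (orderOf g).Coprime p → g ∈ centralizer (Q : Set G) := by
  constructor
  · rintro ⟨N, hNn, hN⟩ Q hQ g hg hcop
    exact frobHyp_of_isComplement' P N hN Q (P.2.to_le hQ) g hg hcop
  · intro h
    exact (FrobHyp.of_sylow P h).exists_normal_isComplement' P

end Cfsg.Agent.Helper78
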