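import Cfsg.Prelude.Def_Transfer
import Cfsg.Agent.Helper78.Frobenius

set_option autoImplicit false

namespace Cfsg.Agent.Helper78

open Subgroup

universe u

variable {G : Type u} [Group G] {p : ℕ}

/-- `HasNormalPComplement` is equivalent to the Frobenius hypothesis. -/
theorem hasNormalPComplement_iff_frobHyp [Fact p.Prime] [Finite G] :
    Cfsg.HasNormalPComplement p G ↔ FrobHyp p G := by
  constructor
  · rintro ⟨P, N, hNn, hN⟩
    exact frobHyp_of_isComplement' P N hN
  · intro h
    obtain ⟨P⟩ : Nonempty (Sylow p G) := inferInstance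
    obtain ⟨N, hNn, hN⟩ := h.exists_normal_isComplement' P
    exact ⟨P, N, hNn, hN⟩

/-- Subgroups of groups with a normal `p`-complement have a normal `p`-complement. -/
theorem hasNormalPComplement_subgroup [Fact p.Prime] [Finite G]
    (h : Cfsg.HasNormalPComplement p G) (H : Subgroup G) : Cfsg.HasNormalPComplement p H :=
  hasNormalPComplement_iff_frobHyp.mpr ((hasNormalPComplement_iff_frobHyp.mp h).subgroup H)

/-- Frobenius' theorem, local form. -/
theorem hasNormalPComplement_iff_normalizers [Fact p.Prime] [Finite G] :
    Cfsg.HasNormalPComplement p G ↔ ∀ Q : Subgroup G, IsPGroup p Q → Q ≠ ⊥ →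
      Cfsg.HasNormalPComplement p (Subgroup.normalizer (Q : Set G)) := by
  constructor
  · intro h Q _ _
    exact hasNormalPComplement_subgroup h _
  · intro h
    rw [hasNormalPComplement_iff_frobHyp]
    intro Q hQ g hg hcop
    by_cases hQb : Q = ⊥
    · subst hQb
      rw [mem_centralizer_iff]
      intro q hq
      rw [SetLike.mem_coe, Subgroup.mem_bot] at hq
      subst hq
      simp
    · have hF := hasNormalPComplement_iff_frobHyp.mp (h Q hQ hQb)
      have h1 := hF (Q.subgroupOf (normalizer (Q : Set G))) hQ.comap_subtype ⟨g, hg⟩ ?_ ?_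
      · rw [mem_centralizer_iff] at h1 ⊢
        intro q hq
        have := h1 ⟨q, le_normalizer hq⟩ (Subgroup.mem_subgroupOf.mpr hq)
        exact congrArg Subtype.val this
      · rw [mem_normalizer_iff]
        intro y
        rw [Subgroup.mem_subgroupOf, Subgroup.mem_subgroupOf]
        exact mem_normalizer_iff.mp hg y
      · rw [← Subgroup.orderOf_coe]
        exact hcop

end Cfsg.Agent.Helper78
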