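import Mathlib

set_option autoImplicit false

namespace Cfsg.Agent.Helper78

open Module Polynomial





theorem eq_one_of_re_eq_one_of_norm_eq_one {w : ℂ} (hre : w.re = 1) (hn : ‖w‖ = 1) : w = 1 := by
  have h1 : ‖w‖ ^ 2 = w.re ^ 2 + w.im ^ 2 := by
    rw [Complex.sq_norm, Complex.normSq_apply]; ring
  rw [hn, hre] at h1
  have him : w.im = 0 := by nlinarith
  apply Complex.ext <;> simp [hre, him]

/-- A multiset of complex numbers of norm one whose sum has norm equal to the number of terms
consists of equal numbers. -/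
theorem eq_of_norm_multiset_sum_eq_card (R : Multiset ℂ) (h1 : ∀ r ∈ R, ‖r‖ = 1)
    (hs : ‖R.sum‖ = (Multiset.card R : ℝ)) : ∀ r ∈ R, ∀ r' ∈ R, r = r' := by
  classical
  -- it suffices to show every `r` equals `u = s / ‖s‖`
  suffices h : ∀ r ∈ R, r = R.sum / (‖R.sum‖ : ℂ) by
    intro r hr r' hr'
    rw [h r hr, h r' hr']
  intro r hr
  have hcard : 0 < Multiset.card R := Multiset.card_pos_iff_exists_mem.2 ⟨r, hr⟩
  have hspos : 0 < ‖R.sum‖ := by rw [hs]; exact_mod_cast hcard
  set s := R.sum with hsdef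
  set u : ℂ := s / (‖s‖ : ℂ) with hu
  have hs0 : (‖s‖ : ℂ) ≠ 0 := by exact_mod_cast hspos.ne'
  have hunorm : ‖u‖ = 1 := by
    rw [hu, norm_div, Complex.norm_real, norm_norm, div_self hspos.ne']
  have huu : u * (starRingEnd ℂ) u = 1 := by
    rw [Complex.mul_conj, Complex.normSq_eq_norm_sq, hunorm]; simp
  -- the additive functional `z ↦ re (conj u * z)`
  let φ : ℂ →+ ℝ := Complex.reLm.toAddMonoidHom.comp (AddMonoidHom.mulLeft ((starRingEnd ℂ) u))
  have hφ : ∀ z, φ z = ((starRingEnd ℂ) u * z).re := fun z => rfl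
  have hφs : φ s = ‖s‖ := by
    rw [hφ, hu, map_div₀, Complex.conj_ofReal, div_mul_eq_mul_div, mul_comm, Complex.mul_conj,
      Complex.normSq_eq_norm_sq]
    rw [← Complex.ofReal_div, Complex.ofReal_re]
    field_simp
  have hsum : (R.map φ).sum = (Multiset.card R : ℝ) := by
    rw [← map_multiset_sum, ← hsdef, hφs, hs]
  have hle : ∀ z ∈ R, φ z ≤ 1 := by
    intro z hz
    rw [hφ]
    calc ((starRingEnd ℂ) u * z).re ≤ ‖(starRingEnd ℂ) u * z‖ := Complex.re_le_norm _
      _ = 1 := by rw [norm_mul, Complex.norm_conj, hunorm, h1 z hz, mul_one]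
  have heq : φ r = 1 := by
    by_contra hne
    have hlt : φ r < 1 := lt_of_le_of_ne (hle r hr) hne
    have := Multiset.sum_lt_sum (s := R) (f := φ) (g := fun _ => (1 : ℝ)) hle ⟨r, hr, hlt⟩
    rw [hsum] at this
    simp at this
  have hw : (starRingEnd ℂ) u * r = 1 := by
    apply eq_one_of_re_eq_one_of_norm_eq_one
    · rw [← hφ]; exact heq
    · rw [norm_mul, Complex.norm_conj, hunorm, h1 r hr, mul_one]
  calc r = (u * (starRingEnd ℂ) u) * r := by rw [huu, one_mul]
    _ = u * ((starRingEnd ℂ) u * r) := by ring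
    _ = u := by rw [hw, mul_one]





/-- If an algebraic integer `x` of a number field has all its complex conjugates of norm `≤ 1`
and one of norm `< 1`, then it vanishes. -/
theorem eq_zero_of_norm_embeddings_le_one {K : Type*} [Field K] [NumberField K] (x : K)
    (hx : IsIntegral ℤ x) (hle : ∀ σ : K →ₐ[ℚ] ℂ, ‖σ x‖ ≤ 1) (ι : K →ₐ[ℚ] ℂ)
    (hlt : ‖ι x‖ < 1) : x = 0 := by
  classical
  have hN : IsIntegral ℤ (Algebra.norm ℚ x) := Algebra.isIntegral_norm ℚ hx
  obtain ⟨k, hk⟩ := IsIntegrallyClosed.isIntegral_iff.mp hN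
  have hprod := Algebra.norm_eq_prod_embeddings ℚ ℂ x
  have hnorm : ‖(algebraMap ℚ ℂ (Algebra.norm ℚ x))‖ < 1 := by
    rw [hprod, norm_prod]
    rw [← Finset.mul_prod_erase Finset.univ _ (Finset.mem_univ ι)]
    calc ‖ι x‖ * ∏ σ ∈ Finset.univ.erase ι, ‖σ x‖ ≤ ‖ι x‖ * 1 := by
          apply mul_le_mul_of_nonneg_left _ (norm_nonneg _)
          exact Finset.prod_le_one (fun σ _ => norm_nonneg _) (fun σ _ => hle σ)
      _ < 1 := by rw [mul_one]; exact hlt
  rw [← hk] at hnorm
  have hk0 : k = 0 := by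
    have h1 : ‖(k : ℂ)‖ < 1 := by simpa using hnorm
    rw [Complex.norm_intCast] at h1
    have h2 : |k| < 1 := by exact_mod_cast h1
    exact Int.abs_lt_one_iff.mp h2
  rw [hk0] at hk
  simp at hk
  exact (Algebra.norm_eq_zero_iff).1 hk.symm





variable {V : Type*} [AddCommGroup V] [Module ℂ V] [FiniteDimensional ℂ V]

/-- Roots of the characteristic polynomial of an endomorphism of finite order are roots of
unity. -/
theorem root_charpoly_pow_eq_one' (T : Module.End ℂ V) {m : ℕ} (hT : T ^ m = 1) {r : ℂ}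
    (hr : r ∈ T.charpoly.roots) : r ^ m = 1 := by
  have hroot : T.charpoly.IsRoot r := (Polynomial.mem_roots'.1 hr).2
  have hev : T.HasEigenvalue r := (Module.End.hasEigenvalue_iff_isRoot_charpoly T r).2 hroot
  obtain ⟨v, hv⟩ := hev.exists_hasEigenvector
  have h1 : (T ^ m) v = r ^ m • v := by
    have := hv.pow_apply m
    exact this
  rw [hT] at h1
  have h2 : (r ^ m - 1) • v = 0 := by
    rw [sub_smul, one_smul, ← h1]; simp
  rcases smul_eq_zero.1 h2 with h | h
  · exact sub_eq_zero.1 h
  · exact absurd h hv.2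

theorem card_roots_charpoly' (T : Module.End ℂ V) :
    Multiset.card T.charpoly.roots = finrank ℂ V := by
  rw [← LinearMap.charpoly_natDegree T]
  exact (Polynomial.splits_iff_card_roots.1 (IsAlgClosed.splits _))

theorem trace_eq_sum_roots' (T : Module.End ℂ V) :
    LinearMap.trace ℂ V T = T.charpoly.roots.sum :=
  Module.End.trace_eq_sum_roots_charpoly_of_splits (IsAlgClosed.splits _)

/-- If all roots of the characteristic polynomial of an endomorphism of finite order agree,
the endomorphism is a scalar. -/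
theorem eq_smul_one_of_roots_eq (T : Module.End ℂ V) {m : ℕ} (hm : 0 < m) (hT : T ^ m = 1)
    (ε : ℂ) (h : ∀ r ∈ T.charpoly.roots, r = ε) : T = ε • (1 : Module.End ℂ V) := by
  have hss : T.IsSemisimple := by
    apply Module.End.isSemisimple_of_squarefree_aeval_eq_zero (p := X ^ m - 1)
    · have : (X ^ m - C (1 : ℂ)).Separable :=
        Polynomial.separable_X_pow_sub_C (1 : ℂ) (by exact_mod_cast hm.ne') one_ne_zero
      rw [C_1] at this
      exact this.squarefree
    · simp [hT]
  have hss' : (T - algebraMap ℂ (Module.End ℂ V) ε).IsSemisimple :=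
    Module.End.isSemisimple_sub_algebraMap_iff.2 hss
  have hnil : IsNilpotent (T - algebraMap ℂ (Module.End ℂ V) ε) := by
    refine ⟨finrank ℂ V, ?_⟩
    have hcp : T.charpoly = (X - C ε) ^ finrank ℂ V := by
      have h1 := (IsAlgClosed.splits T.charpoly).eq_prod_roots_of_monic T.charpoly_monic
      have h2 : T.charpoly.roots = Multiset.replicate (finrank ℂ V) ε :=
        Multiset.eq_replicate.2 ⟨card_roots_charpoly' T, h⟩
      rw [h2, Multiset.map_replicate, Multiset.prod_replicate] at h1
      exact h1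
    have h3 := LinearMap.aeval_self_charpoly T
    rw [hcp] at h3
    simpa using h3
  have := Module.End.eq_zero_of_isNilpotent_isSemisimple hnil hss'
  rw [sub_eq_zero] at this
  rw [this, Algebra.algebraMap_eq_smul_one]


/-- **Burnside's vanishing lemma**, linear-algebra form: if `T` has finite order and
`trace T / dim V` is an algebraic integer, then `trace T = 0` or `T` is a scalar. -/
theorem trace_eq_zero_or_scalar_of_isIntegral (T : Module.End ℂ V) {m : ℕ} (hm : 0 < m)
    (hT : T ^ m = 1)
    (hint : IsIntegral ℤ (LinearMap.trace ℂ V T / (finrank ℂ V : ℂ))) :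
    LinearMap.trace ℂ V T = 0 ∨ ∃ c : ℂ, T = c • (1 : Module.End ℂ V) := by
  classical
  set n := finrank ℂ V with hn
  set R := T.charpoly.roots with hR
  have hcard : Multiset.card R = n := card_roots_charpoly' T
  have htr : LinearMap.trace ℂ V T = R.sum := trace_eq_sum_roots' T
  have hroots : ∀ r ∈ R, r ^ m = 1 := fun r hr => root_charpoly_pow_eq_one' T hT hr
  have hnorm1 : ∀ r ∈ R, ‖r‖ = 1 := fun r hr =>
    Complex.norm_eq_one_of_pow_eq_one (hroots r hr) hm.ne'
  by_cases hall : ∀ r ∈ R, ∀ r' ∈ R, r = r'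
  · -- all eigenvalues equal: scalar
    right
    rcases Multiset.empty_or_exists_mem R with hemp | ⟨ε, hε⟩
    · -- `V` is trivial
      have hn0 : finrank ℂ V = 0 := by rw [← hn, ← hcard, hemp, Multiset.card_zero]
      have : Subsingleton V := Module.finrank_zero_iff.1 hn0
      exact ⟨0, Subsingleton.elim _ _⟩
    · exact ⟨ε, eq_smul_one_of_roots_eq T hm hT ε (fun r hr => hall r hr ε hε)⟩
  · left
    have hnpos : 0 < n := by
      rw [← hcard]
      by_contra h0
      have : R = 0 := Multiset.card_eq_zero.1 (by omega)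
      apply hall
      rw [this]; simp
    have hnC : (n : ℂ) ≠ 0 := by exact_mod_cast hnpos.ne'
    -- strict inequality for the trace
    have hlt : ‖R.sum‖ < (n : ℝ) := by
      have hle : ‖R.sum‖ ≤ (n : ℝ) := by
        calc ‖R.sum‖ ≤ (R.map fun r => ‖r‖).sum := norm_multiset_sum_le R
          _ = (R.map fun _ => (1 : ℝ)).sum := by
              congr 1; exact Multiset.map_congr rfl hnorm1
          _ = n := by simp [hcard]
      refine lt_of_le_of_ne hle fun heq => hall ?_
      rw [← hcard] at heq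
      exact eq_of_norm_multiset_sum_eq_card R hnorm1 heq
    -- the number field
    have hm1 : NeZero m := ⟨hm.ne'⟩
    have hm2 : NeZero ((m : ℕ) : ℚ) := ⟨by exact_mod_cast hm.ne'⟩
    have hcyc : IsCyclotomicExtension {m} ℚ (CyclotomicField m ℚ) :=
      CyclotomicField.isCyclotomicExtension m ℚ
    let ζ' : CyclotomicField m ℚ := IsCyclotomicExtension.zeta m ℚ (CyclotomicField m ℚ)
    have hζ' : IsPrimitiveRoot ζ' m := IsCyclotomicExtension.zeta_spec m ℚ (CyclotomicField m ℚ)
    let ι : CyclotomicField m ℚ →ₐ[ℚ] ℂ := IsAlgClosed.lift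
    have hζ : IsPrimitiveRoot (ι ζ') m := hζ'.map_of_injective ι.injective
    have hex : ∀ r ∈ R, ∃ y : CyclotomicField m ℚ, y ^ m = 1 ∧ ι y = r := by
      intro r hr
      obtain ⟨j, _, hj⟩ := hζ.eq_pow_of_pow_eq_one (hroots r hr)
      refine ⟨ζ' ^ j, ?_, by rw [map_pow, hj]⟩
      rw [← pow_mul, mul_comm, pow_mul, hζ'.pow_eq_one, one_pow]
    let g : ℂ → CyclotomicField m ℚ := fun r => if h : ∃ y : CyclotomicField m ℚ, y ^ m = 1 ∧ ι y = r then h.choose else 0
    have hg1 : ∀ r ∈ R, (g r) ^ m = 1 := by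
      intro r hr
      simp only [g, dif_pos (hex r hr)]
      exact (hex r hr).choose_spec.1
    have hg2 : ∀ r ∈ R, ι (g r) = r := by
      intro r hr
      simp only [g, dif_pos (hex r hr)]
      exact (hex r hr).choose_spec.2
    let x : CyclotomicField m ℚ := (R.map g).sum / (n : CyclotomicField m ℚ)
    have hσx : ∀ σ : CyclotomicField m ℚ →ₐ[ℚ] ℂ, σ x = ((R.map g).map σ).sum / (n : ℂ) := by
      intro σ
      simp only [x, map_div₀, map_natCast, map_multiset_sum]
    have hιx : ι x = LinearMap.trace ℂ V T / (n : ℂ) := by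
      rw [hσx ι, htr, Multiset.map_map]
      congr 2
      rw [Multiset.map_congr rfl (fun r hr => by simpa using hg2 r hr), Multiset.map_id']
    have hxint : IsIntegral ℤ x := by
      rw [← isIntegral_algHom_iff (ι.restrictScalars ℤ) ι.injective]
      simpa [hιx] using hint
    have hle : ∀ σ : CyclotomicField m ℚ →ₐ[ℚ] ℂ, ‖σ x‖ ≤ 1 := by
      intro σ
      rw [hσx σ, norm_div, Complex.norm_natCast, div_le_one (by exact_mod_cast hnpos)]
      calc ‖((R.map g).map σ).sum‖ ≤ (((R.map g).map σ).map fun r => ‖r‖).sum :=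
            norm_multiset_sum_le _
        _ = (R.map fun _ => (1 : ℝ)).sum := by
            rw [Multiset.map_map, Multiset.map_map]
            congr 1
            refine Multiset.map_congr rfl fun r hr => ?_
            simp only [Function.comp_apply]
            apply Complex.norm_eq_one_of_pow_eq_one _ hm.ne'
            rw [← map_pow, hg1 r hr, map_one]
        _ = n := by simp [hcard]
    have hltx : ‖ι x‖ < 1 := by
      rw [hιx, htr, norm_div, Complex.norm_natCast, div_lt_one (by exact_mod_cast hnpos)]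
      exact hlt
    have hx0 : x = 0 := eq_zero_of_norm_embeddings_le_one x hxint hle ι hltx
    have : LinearMap.trace ℂ V T / (n : ℂ) = 0 := by rw [← hιx, hx0, map_zero]
    rcases div_eq_zero_iff.1 this with h | h
    · exact h
    · exact absurd h hnC

end Cfsg.Agent.Helper78
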