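import Mathlib
import Cfsg.Prelude.Def_Blocks

set_option autoImplicit false

namespace Cfsg.Agent.Helper78

open Module Cfsg

section Rep

variable {G : Type*} [Group G] {V : Type*} [AddCommGroup V] [Module ℂ V]
  (ρ : Representation ℂ G V)

/-- An irreducible representation acts on a nontrivial space. -/
theorem nontrivial_of_isIrreducible [hρ : ρ.IsIrreducible] : Nontrivial V := by
  by_contra h
  rw [not_nontrivial_iff_subsingleton] at h
  have : (⊥ : Subrepresentation ρ) = ⊤ := by
    apply Subrepresentation.toSubmodule_injective
    exact Subsingleton.elim _ _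
  exact bot_ne_top this

theorem finrank_pos_of_isIrreducible [FiniteDimensional ℂ V] [hρ : ρ.IsIrreducible] :
    0 < finrank ℂ V := by
  have := nontrivial_of_isIrreducible ρ
  exact Module.finrank_pos

/-- **Schur's lemma**: an endomorphism commuting with an irreducible complex representation is a
scalar. -/
theorem exists_eq_smul_one_of_commute [FiniteDimensional ℂ V] [hρ : ρ.IsIrreducible]
    (T : Module.End ℂ V) (hT : ∀ g : G, T ∘ₗ ρ g = ρ g ∘ₗ T) :
    ∃ c : ℂ, T = c • (1 : Module.End ℂ V) := by
  let f : Representation.IntertwiningMap ρ ρ := ⟨T, hT⟩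
  obtain ⟨c, hc⟩ :=
    (Representation.IsIrreducible.algebraMap_intertwiningMap_bijective_of_isAlgClosed
      (ρ := ρ)).2 f
  refine ⟨c, ?_⟩
  have := congrArg Representation.IntertwiningMap.toLinearMap hc
  rw [Representation.IntertwiningMap.algebraMap_apply,
    Representation.IntertwiningMap.toLinearMap_smul] at this
  exact this.symm

end Rep

section ClassSum

variable {G : Type*} [Group G] [Fintype G]

open Classical in
/-- The conjugacy class of `g`, as a finset. -/
noncomputable def classFinset (g : G) : Finset G := Finset.univ.filter (fun x => IsConj g x)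

theorem mem_classFinset {g x : G} : x ∈ classFinset g ↔ IsConj g x := by
  classical
  simp [classFinset]

theorem card_classFinset (g : G) :
    (classFinset g).card = (Subgroup.centralizer ({g} : Set G)).index := by
  classical
  have h1 : (MulAction.stabilizer (ConjAct G) g).index = (MulAction.orbit (ConjAct G) g).ncard :=
    MulAction.index_stabilizer (G := ConjAct G) (x := g)
  have h2 : (MulAction.stabilizer (ConjAct G) g).index =
      (Subgroup.centralizer ({g} : Set G)).index := by
    rw [ConjAct.stabilizer_eq_centralizer g]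
    rfl
  rw [← h2, h1, ← Set.ncard_coe_finset]
  congr 1
  ext x
  simp only [Finset.mem_coe, mem_classFinset, ConjAct.mem_orbit_conjAct]
  exact isConj_comm

variable {V : Type*} [AddCommGroup V] [Module ℂ V] (ρ : Representation ℂ G V)

/-- The class sum of `g` acting through `ρ`. -/
noncomputable def classSumEnd (g : G) : Module.End ℂ V := ∑ x ∈ classFinset g, ρ x

theorem classSumEnd_comm (g h : G) : classSumEnd ρ g * ρ h = ρ h * classSumEnd ρ g := by
  classical
  unfold classSumEnd
  rw [Finset.sum_mul, Finset.mul_sum]
  refine Finset.sum_bij' (fun x _ => h⁻¹ * x * h) (fun x _ => h * x * h⁻¹) ?_ ?_ ?_ ?_ ?_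
  · intro x hx
    rw [mem_classFinset] at hx ⊢
    exact hx.trans (isConj_iff.2 ⟨h⁻¹, by group⟩)
  · intro x hx
    rw [mem_classFinset] at hx ⊢
    exact hx.trans (isConj_iff.2 ⟨h, by group⟩)
  · intro x _; group
  · intro x _; group
  · intro x _
    rw [← map_mul, ← map_mul]
    congr 1
    group

theorem trace_classSumEnd [FiniteDimensional ℂ V] (g : G) :
    LinearMap.trace ℂ V (classSumEnd ρ g) =
      ((Subgroup.centralizer ({g} : Set G)).index : ℂ) * ρ.character g := by
  classical
  unfold classSumEnd
  rw [map_sum, ← card_classFinset, ← nsmul_eq_mul, ← Finset.sum_const]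
  refine Finset.sum_congr rfl fun x hx => ?_
  rw [mem_classFinset, isConj_iff] at hx
  obtain ⟨c, rfl⟩ := hx
  exact ρ.char_conj g c

theorem isIntegral_classSumEnd (g : G) : IsIntegral ℤ (classSumEnd ρ g) := by
  classical
  let F : MonoidAlgebra ℤ G →ₐ[ℤ] Module.End ℂ V := MonoidAlgebra.lift ℤ (Module.End ℂ V) G ρ
  have h1 : classSumEnd ρ g = F (∑ x ∈ classFinset g, MonoidAlgebra.of ℤ G x) := by
    unfold classSumEnd
    rw [map_sum]
    refine Finset.sum_congr rfl fun x _ => ?_
    simp [F]
  rw [h1]
  exact (IsIntegral.of_finite ℤ _).map F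

/-- The class sum acts on an irreducible representation as the scalar `centralChar χ g`, which is
an algebraic integer. -/
theorem classSumEnd_eq_centralChar_smul [FiniteDimensional ℂ V] [hρ : ρ.IsIrreducible] (g : G) :
    classSumEnd ρ g = centralChar ρ.character g • (1 : Module.End ℂ V) := by
  obtain ⟨c, hc⟩ := exists_eq_smul_one_of_commute ρ (classSumEnd ρ g)
    (fun h => classSumEnd_comm ρ g h)
  have hn : (finrank ℂ V : ℂ) ≠ 0 := by
    exact_mod_cast (finrank_pos_of_isIrreducible ρ).ne'
  have htr := trace_classSumEnd ρ g
  rw [hc, map_smul, LinearMap.trace_one, smul_eq_mul] at htr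
  have : c = centralChar ρ.character g := by
    unfold centralChar
    rw [Representation.char_one, ← htr]
    field_simp
  rw [← this, hc]

theorem isIntegral_centralChar_character [FiniteDimensional ℂ V] [hρ : ρ.IsIrreducible] (g : G) :
    IsIntegral ℤ (centralChar ρ.character g) := by
  have := nontrivial_of_isIrreducible ρ
  have h := isIntegral_classSumEnd ρ g
  rw [classSumEnd_eq_centralChar_smul ρ g, ← Algebra.algebraMap_eq_smul_one] at h
  exact (isIntegral_algebraMap_iff (FaithfulSMul.algebraMap_injective ℂ (Module.End ℂ V))).1 h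

end ClassSum

end Cfsg.Agent.Helper78
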