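import Cfsg.Prelude.Def_Blocks

/-!
# API for the local ring `Cfsg.MemLocalRing M` and its ideal `Cfsg.MemLocalIdeal M`

`M` is a prime (in use: maximal, `p`-modular) ideal of the ring `Cfsg.AlgInt` of all algebraic
integers.  `MemLocalRing M z` says `z = a / b` with `a, b` algebraic integers, `b ∉ M`;
`MemLocalIdeal M z` says moreover `a ∈ M`.
-/

set_option autoImplicit false

namespace Cfsg.Agent.Helper78

open Cfsg

variable {M : Ideal AlgInt}

theorem coe_ne_zero_of_not_mem {b : AlgInt} (hb : b ∉ M) : (b : ℂ) ≠ 0 := by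
  intro h
  apply hb
  have : b = 0 := Subtype.ext h
  rw [this]
  exact M.zero_mem

theorem isPrime_of_isPModular {p : ℕ} (hM : IsPModular p M) : M.IsPrime := hM.2.1.isPrime

theorem one_not_mem (hM : M.IsPrime) : (1 : AlgInt) ∉ M :=
  fun h => hM.ne_top ((Ideal.eq_top_iff_one M).2 h)

/-! ### The local ring -/

theorem memLocalRing_coe (hM : M.IsPrime) (a : AlgInt) : MemLocalRing M (a : ℂ) :=
  ⟨a, 1, one_not_mem hM, by simp⟩

theorem memLocalRing_zero (hM : M.IsPrime) : MemLocalRing M 0 := by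
  simpa using memLocalRing_coe hM 0

theorem memLocalRing_one (hM : M.IsPrime) : MemLocalRing M 1 := by
  simpa using memLocalRing_coe hM 1

theorem memLocalRing_natCast (hM : M.IsPrime) (n : ℕ) : MemLocalRing M (n : ℂ) := by
  simpa using memLocalRing_coe hM (n : AlgInt)

theorem memLocalRing_intCast (hM : M.IsPrime) (n : ℤ) : MemLocalRing M (n : ℂ) := by
  simpa using memLocalRing_coe hM (n : AlgInt)

theorem memLocalRing_of_isIntegral (hM : M.IsPrime) {z : ℂ} (hz : IsIntegral ℤ z) :
    MemLocalRing M z :=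
  memLocalRing_coe hM ⟨z, hz⟩

theorem memLocalRing_add (hM : M.IsPrime) {z w : ℂ} (hz : MemLocalRing M z)
    (hw : MemLocalRing M w) : MemLocalRing M (z + w) := by
  obtain ⟨a, b, hb, rfl⟩ := hz
  obtain ⟨c, d, hd, rfl⟩ := hw
  refine ⟨a * d + c * b, b * d, ?_, ?_⟩
  · intro h
    rcases hM.mem_or_mem h with h | h
    · exact hb h
    · exact hd h
  · have hb0 := coe_ne_zero_of_not_mem hb
    have hd0 := coe_ne_zero_of_not_mem hd
    push_cast
    field_simp

theorem memLocalRing_mul (hM : M.IsPrime) {z w : ℂ} (hz : MemLocalRing M z)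
    (hw : MemLocalRing M w) : MemLocalRing M (z * w) := by
  obtain ⟨a, b, hb, rfl⟩ := hz
  obtain ⟨c, d, hd, rfl⟩ := hw
  refine ⟨a * c, b * d, ?_, ?_⟩
  · intro h
    rcases hM.mem_or_mem h with h | h
    · exact hb h
    · exact hd h
  · have hb0 := coe_ne_zero_of_not_mem hb
    have hd0 := coe_ne_zero_of_not_mem hd
    push_cast
    field_simp

theorem memLocalRing_neg {z : ℂ} (hz : MemLocalRing M z) : MemLocalRing M (-z) := by
  obtain ⟨a, b, hb, rfl⟩ := hz
  refine ⟨-a, b, hb, ?_⟩
  push_cast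
  ring

theorem memLocalRing_sub (hM : M.IsPrime) {z w : ℂ} (hz : MemLocalRing M z)
    (hw : MemLocalRing M w) : MemLocalRing M (z - w) := by
  rw [sub_eq_add_neg]
  exact memLocalRing_add hM hz (memLocalRing_neg hw)

theorem memLocalRing_pow (hM : M.IsPrime) {z : ℂ} (hz : MemLocalRing M z) (n : ℕ) :
    MemLocalRing M (z ^ n) := by
  induction n with
  | zero => simpa using memLocalRing_one hM
  | succ n ih => rw [pow_succ]; exact memLocalRing_mul hM ih hz

theorem memLocalRing_sum (hM : M.IsPrime) {ι : Type*} (s : Finset ι) (f : ι → ℂ)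
    (h : ∀ i ∈ s, MemLocalRing M (f i)) : MemLocalRing M (∑ i ∈ s, f i) := by
  classical
  induction s using Finset.induction_on with
  | empty => simpa using memLocalRing_zero hM
  | insert a s ha ih =>
    rw [Finset.sum_insert ha]
    exact memLocalRing_add hM (h a (Finset.mem_insert_self a s))
      (ih fun i hi => h i (Finset.mem_insert_of_mem hi))

theorem memLocalRing_prod (hM : M.IsPrime) {ι : Type*} (s : Finset ι) (f : ι → ℂ)
    (h : ∀ i ∈ s, MemLocalRing M (f i)) : MemLocalRing M (∏ i ∈ s, f i) := by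
  classical
  induction s using Finset.induction_on with
  | empty => simpa using memLocalRing_one hM
  | insert a s ha ih =>
    rw [Finset.prod_insert ha]
    exact memLocalRing_mul hM (h a (Finset.mem_insert_self a s))
      (ih fun i hi => h i (Finset.mem_insert_of_mem hi))

/-! ### The local ideal -/

theorem memLocalRing_of_memLocalIdeal {z : ℂ} (hz : MemLocalIdeal M z) : MemLocalRing M z := by
  obtain ⟨a, b, _, hb, h⟩ := hz
  exact ⟨a, b, hb, h⟩

theorem memLocalIdeal_coe_of_mem (hM : M.IsPrime) {a : AlgInt} (ha : a ∈ M) :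
    MemLocalIdeal M (a : ℂ) :=
  ⟨a, 1, ha, one_not_mem hM, by simp⟩

theorem memLocalIdeal_zero (hM : M.IsPrime) : MemLocalIdeal M 0 := by
  simpa using memLocalIdeal_coe_of_mem hM M.zero_mem

/-- For an algebraic integer, lying in the local ideal is the same as lying in `M`. -/
theorem memLocalIdeal_coe_iff (hM : M.IsPrime) (a : AlgInt) :
    MemLocalIdeal M (a : ℂ) ↔ a ∈ M := by
  constructor
  · rintro ⟨c, d, hc, hd, h⟩
    have hd0 := coe_ne_zero_of_not_mem hd
    have h1 : (c : ℂ) = (a : ℂ) * (d : ℂ) := by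
      rw [← h]; field_simp
    have h2 : c = a * d := Subtype.ext (by push_cast; exact h1)
    rw [h2] at hc
    rcases hM.mem_or_mem hc with h | h
    · exact h
    · exact absurd h hd
  · exact memLocalIdeal_coe_of_mem hM

theorem not_memLocalIdeal_one (hM : M.IsPrime) : ¬ MemLocalIdeal M 1 := by
  intro h
  have : MemLocalIdeal M ((1 : AlgInt) : ℂ) := by simpa using h
  exact one_not_mem hM ((memLocalIdeal_coe_iff hM 1).1 this)

theorem memLocalIdeal_add (hM : M.IsPrime) {z w : ℂ} (hz : MemLocalIdeal M z)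
    (hw : MemLocalIdeal M w) : MemLocalIdeal M (z + w) := by
  obtain ⟨a, b, ha, hb, rfl⟩ := hz
  obtain ⟨c, d, hc, hd, rfl⟩ := hw
  refine ⟨a * d + c * b, b * d, ?_, ?_, ?_⟩
  · exact M.add_mem (M.mul_mem_right _ ha) (M.mul_mem_right _ hc)
  · intro h
    rcases hM.mem_or_mem h with h | h
    · exact hb h
    · exact hd h
  · have hb0 := coe_ne_zero_of_not_mem hb
    have hd0 := coe_ne_zero_of_not_mem hd
    push_cast
    field_simp

theorem memLocalIdeal_neg {z : ℂ} (hz : MemLocalIdeal M z) : MemLocalIdeal M (-z) := by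
  obtain ⟨a, b, ha, hb, rfl⟩ := hz
  refine ⟨-a, b, M.neg_mem ha, hb, ?_⟩
  push_cast
  ring

theorem memLocalIdeal_sub (hM : M.IsPrime) {z w : ℂ} (hz : MemLocalIdeal M z)
    (hw : MemLocalIdeal M w) : MemLocalIdeal M (z - w) := by
  rw [sub_eq_add_neg]
  exact memLocalIdeal_add hM hz (memLocalIdeal_neg hw)

theorem memLocalIdeal_mul_left (hM : M.IsPrime) {z w : ℂ} (hz : MemLocalRing M z)
    (hw : MemLocalIdeal M w) : MemLocalIdeal M (z * w) := by
  obtain ⟨a, b, hb, rfl⟩ := hz
  obtain ⟨c, d, hc, hd, rfl⟩ := hw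
  refine ⟨a * c, b * d, M.mul_mem_left _ hc, ?_, ?_⟩
  · intro h
    rcases hM.mem_or_mem h with h | h
    · exact hb h
    · exact hd h
  · have hb0 := coe_ne_zero_of_not_mem hb
    have hd0 := coe_ne_zero_of_not_mem hd
    push_cast
    field_simp

theorem memLocalIdeal_mul_right (hM : M.IsPrime) {z w : ℂ} (hz : MemLocalIdeal M z)
    (hw : MemLocalRing M w) : MemLocalIdeal M (z * w) := by
  rw [mul_comm]
  exact memLocalIdeal_mul_left hM hw hz

theorem memLocalIdeal_sum (hM : M.IsPrime) {ι : Type*} (s : Finset ι) (f : ι → ℂ)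
    (h : ∀ i ∈ s, MemLocalIdeal M (f i)) : MemLocalIdeal M (∑ i ∈ s, f i) := by
  classical
  induction s using Finset.induction_on with
  | empty => simpa using memLocalIdeal_zero hM
  | insert a s ha ih =>
    rw [Finset.sum_insert ha]
    exact memLocalIdeal_add hM (h a (Finset.mem_insert_self a s))
      (ih fun i hi => h i (Finset.mem_insert_of_mem hi))

/-- Congruence modulo the local ideal is symmetric. -/
theorem memLocalIdeal_sub_comm {z w : ℂ} (h : MemLocalIdeal M (z - w)) :
    MemLocalIdeal M (w - z) := by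
  have := memLocalIdeal_neg h
  rwa [neg_sub] at this

/-- Congruence modulo the local ideal is transitive. -/
theorem memLocalIdeal_sub_trans (hM : M.IsPrime) {x y z : ℂ} (h₁ : MemLocalIdeal M (x - y))
    (h₂ : MemLocalIdeal M (y - z)) : MemLocalIdeal M (x - z) := by
  have := memLocalIdeal_add hM h₁ h₂
  rwa [sub_add_sub_cancel] at this

/-- A local integer outside the local ideal is a unit of the local ring. -/
theorem memLocalRing_inv_of_not_memLocalIdeal {z : ℂ} (hz : MemLocalRing M z)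
    (hz' : ¬ MemLocalIdeal M z) : MemLocalRing M z⁻¹ := by
  obtain ⟨a, b, hb, rfl⟩ := hz
  have ha : a ∉ M := fun ha => hz' ⟨a, b, ha, hb, rfl⟩
  exact ⟨b, a, ha, by rw [inv_div]⟩

/-- `1 + m` is a unit of the local ring for `m` in the local ideal. -/
theorem not_memLocalIdeal_one_add (hM : M.IsPrime) {z : ℂ} (hz : MemLocalIdeal M z) :
    ¬ MemLocalIdeal M (1 + z) := by
  intro h
  have := memLocalIdeal_sub hM h hz
  rw [add_sub_cancel_right] at this
  exact not_memLocalIdeal_one hM this

theorem memLocalRing_inv_one_add (hM : M.IsPrime) {z : ℂ} (hz : MemLocalIdeal M z) :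
    MemLocalRing M (1 + z)⁻¹ :=
  memLocalRing_inv_of_not_memLocalIdeal
    (memLocalRing_add hM (memLocalRing_one hM) (memLocalRing_of_memLocalIdeal hz))
    (not_memLocalIdeal_one_add hM hz)

/-! ### Rational integers and the prime `p` -/

section PModular

variable {p : ℕ}

theorem natCast_mem_of_dvd (hM : IsPModular p M) {k : ℕ} (h : p ∣ k) : (k : AlgInt) ∈ M := by
  obtain ⟨m, rfl⟩ := h
  push_cast
  exact M.mul_mem_right _ hM.2.2

theorem natCast_not_mem_of_coprime (hM : IsPModular p M) {k : ℕ} (hk : Nat.Coprime k p) :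
    (k : AlgInt) ∉ M := by
  intro h
  have hM' := isPrime_of_isPModular hM
  apply one_not_mem hM'
  -- Bezout: 1 = u * k + v * p in ℤ
  have hb : (Nat.gcd k p : ℤ) = k * Nat.gcdA k p + p * Nat.gcdB k p := Nat.gcd_eq_gcd_ab k p
  rw [hk] at hb
  have h1 : (1 : AlgInt) = (k : AlgInt) * ((Nat.gcdA k p : ℤ) : AlgInt)
      + (p : AlgInt) * ((Nat.gcdB k p : ℤ) : AlgInt) := by
    have := congrArg (fun z : ℤ => (z : AlgInt)) hb
    simpa using this
  rw [h1]
  exact M.add_mem (M.mul_mem_right _ h) (M.mul_mem_right _ hM.2.2)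

theorem natCast_mem_iff (hM : IsPModular p M) {k : ℕ} : (k : AlgInt) ∈ M ↔ p ∣ k := by
  constructor
  · intro h
    by_contra hk
    exact natCast_not_mem_of_coprime hM
      ((Nat.Prime.coprime_iff_not_dvd hM.1).2 hk).symm h
  · exact natCast_mem_of_dvd hM

theorem intCast_mem_iff (hM : IsPModular p M) {k : ℤ} : (k : AlgInt) ∈ M ↔ (p : ℤ) ∣ k := by
  have key : ∀ n : ℕ, ((n : ℤ) : AlgInt) ∈ M ↔ (p : ℤ) ∣ (n : ℤ) := by
    intro n
    have : ((n : ℤ) : AlgInt) = ((n : ℕ) : AlgInt) := by push_cast; rfl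
    rw [this, natCast_mem_iff hM, Int.natCast_dvd_natCast]
  rcases Int.natAbs_eq k with h | h
  · rw [h]; exact key _
  · rw [h]
    have : ((-(k.natAbs : ℤ) : ℤ) : AlgInt) = -(((k.natAbs : ℤ)) : AlgInt) := by push_cast; rfl
    rw [this, neg_mem_iff, dvd_neg]
    exact key _

theorem memLocalIdeal_natCast_iff (hM : IsPModular p M) {k : ℕ} :
    MemLocalIdeal M (k : ℂ) ↔ p ∣ k := by
  have hM' := isPrime_of_isPModular hM
  have : (k : ℂ) = ((k : AlgInt) : ℂ) := by simp
  rw [this, memLocalIdeal_coe_iff hM', natCast_mem_iff hM]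

theorem memLocalIdeal_intCast_iff (hM : IsPModular p M) {k : ℤ} :
    MemLocalIdeal M (k : ℂ) ↔ (p : ℤ) ∣ k := by
  have hM' := isPrime_of_isPModular hM
  have : (k : ℂ) = ((k : AlgInt) : ℂ) := by simp
  rw [this, memLocalIdeal_coe_iff hM', intCast_mem_iff hM]

theorem memLocalIdeal_prime (hM : IsPModular p M) : MemLocalIdeal M (p : ℂ) :=
  (memLocalIdeal_natCast_iff hM).2 dvd_rfl

/-- A natural number prime to `p` is a unit of the local ring. -/
theorem memLocalRing_inv_natCast (hM : IsPModular p M) {k : ℕ} (hk : Nat.Coprime k p) :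
    MemLocalRing M ((k : ℂ)⁻¹) := by
  have hM' := isPrime_of_isPModular hM
  refine memLocalRing_inv_of_not_memLocalIdeal (memLocalRing_natCast hM' k) ?_
  rw [memLocalIdeal_natCast_iff hM]
  exact fun h => (Nat.Prime.coprime_iff_not_dvd hM.1).1 hk.symm h

/-- A rational number `m / n` (with `n ≠ 0`) that is a local integer at `M` has at least as much
`p` in its numerator as in its denominator. -/
theorem pow_dvd_of_memLocalRing_div (hM : IsPModular p M) {m n e : ℕ} (hn : n ≠ 0)
    (he : p ^ e ∣ n) (h : MemLocalRing M ((m : ℂ) / (n : ℂ))) : p ^ e ∣ m := by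
  have hM' := isPrime_of_isPModular hM
  have hp := hM.1
  induction e generalizing m n with
  | zero => simp
  | succ e ih =>
    -- first show `p ∣ m`
    obtain ⟨n', rfl⟩ : p ∣ n := dvd_trans (dvd_pow_self p (Nat.succ_ne_zero e)) he
    have hn' : n' ≠ 0 := fun h0 => hn (by rw [h0, mul_zero])
    have hpm : p ∣ m := by
      -- `m = (m / n) * n` and `n ∈` local ideal
      have h1 : MemLocalIdeal M (((m : ℂ) / ((p * n' : ℕ) : ℂ)) * ((p * n' : ℕ) : ℂ)) :=
        memLocalIdeal_mul_left hM' h ((memLocalIdeal_natCast_iff hM).2 (dvd_mul_right p n'))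
      have hne : ((p * n' : ℕ) : ℂ) ≠ 0 := by exact_mod_cast hn
      rw [div_mul_cancel₀ _ hne] at h1
      exact (memLocalIdeal_natCast_iff hM).1 h1
    obtain ⟨m', rfl⟩ := hpm
    have hpe : p ^ e ∣ n' := by
      rw [pow_succ'] at he
      exact Nat.dvd_of_mul_dvd_mul_left hp.pos he
    have h2 : MemLocalRing M ((m' : ℂ) / (n' : ℂ)) := by
      have hp0 : (p : ℂ) ≠ 0 := by exact_mod_cast hp.ne_zero
      have : ((p * m' : ℕ) : ℂ) / ((p * n' : ℕ) : ℂ) = (m' : ℂ) / (n' : ℂ) := by
        push_cast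
        rw [mul_div_mul_left _ _ hp0]
      rwa [this] at h
    rw [pow_succ']
    exact Nat.mul_dvd_mul_left p (ih hn' hpe h2)

end PModular

end Cfsg.Agent.Helper78
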