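import Mathlib
import Cfsg.Prelude.Def_Blocks
import Cfsg.Agent.Helper78.LocalRing
import Cfsg.Agent.Helper78.Burnside
import Cfsg.Agent.Helper78.CentralChar

/-!
# Basic facts on `Cfsg.IsIrrCharacter` needed for blocks

* degree: `χ 1 = charDegree χ`, `0 < charDegree χ`;
* values and central characters are algebraic integers;
* Burnside's vanishing lemma for irreducible characters;
* a divisibility criterion for the degrees of the characters in a block.
-/

set_option autoImplicit false

namespace Cfsg.Agent.Helper78

open Module Cfsg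

section Degree

variable {G : Type*} [Group G]

theorem charDegree_character {n : ℕ} (ρ : Representation ℂ G (Fin n → ℂ)) :
    charDegree ρ.character = n := by
  unfold charDegree
  rw [Representation.char_one]
  simp

theorem character_one_eq {n : ℕ} (ρ : Representation ℂ G (Fin n → ℂ)) :
    ρ.character 1 = (n : ℂ) := by
  rw [Representation.char_one]; simp

/-- The value at `1` of an irreducible character is its degree, as a complex number. -/
theorem irrChar_one_eq_charDegree {χ : G → ℂ} (hχ : IsIrrCharacter G χ) :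
    χ 1 = (charDegree χ : ℂ) := by
  obtain ⟨n, ρ, _, rfl⟩ := hχ
  rw [charDegree_character, character_one_eq]

theorem charDegree_pos_of_isIrrCharacter {χ : G → ℂ} (hχ : IsIrrCharacter G χ) :
    0 < charDegree χ := by
  obtain ⟨n, ρ, hρ, rfl⟩ := hχ
  rw [charDegree_character]
  have := finrank_pos_of_isIrreducible ρ
  simpa using this

theorem irrChar_one_ne_zero {χ : G → ℂ} (hχ : IsIrrCharacter G χ) : χ 1 ≠ 0 := by
  rw [irrChar_one_eq_charDegree hχ]
  exact_mod_cast (charDegree_pos_of_isIrrCharacter hχ).ne'

/-- Irreducible characters are class functions. -/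
theorem irrChar_conj {χ : G → ℂ} (hχ : IsIrrCharacter G χ) (g h : G) :
    χ (h * g * h⁻¹) = χ g := by
  obtain ⟨n, ρ, _, rfl⟩ := hχ
  exact ρ.char_conj g h

end Degree

section Integrality

variable {G : Type*} [Group G] [Finite G]

/-- The trace of an endomorphism of finite order is an algebraic integer. -/
theorem isIntegral_trace_of_pow_eq_one {V : Type*} [AddCommGroup V] [Module ℂ V]
    [FiniteDimensional ℂ V] (T : Module.End ℂ V) {m : ℕ} (hm : 0 < m) (hT : T ^ m = 1) :
    IsIntegral ℤ (LinearMap.trace ℂ V T) := by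
  rw [trace_eq_sum_roots' T]
  refine IsIntegral.multiset_sum fun r hr => ?_
  have h1 := root_charpoly_pow_eq_one' T hT hr
  refine IsIntegral.of_pow hm ?_
  rw [h1]
  exact isIntegral_one

theorem rep_pow_card_eq_one {V : Type*} [AddCommGroup V] [Module ℂ V]
    (ρ : Representation ℂ G V) (g : G) : (ρ g) ^ (Nat.card G) = 1 := by
  rw [← map_pow, pow_card_eq_one', map_one]

/-- Values of characters are algebraic integers. -/
theorem isIntegral_character_apply {V : Type*} [AddCommGroup V] [Module ℂ V]
    [FiniteDimensional ℂ V] (ρ : Representation ℂ G V) (g : G) :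
    IsIntegral ℤ (ρ.character g) :=
  isIntegral_trace_of_pow_eq_one (ρ g) Nat.card_pos (rep_pow_card_eq_one ρ g)

theorem isIntegral_irrChar_apply {χ : G → ℂ} (hχ : IsIrrCharacter G χ) (g : G) :
    IsIntegral ℤ (χ g) := by
  obtain ⟨n, ρ, _, rfl⟩ := hχ
  exact isIntegral_character_apply ρ g

/-- The central character of an irreducible character takes algebraic integer values. -/
theorem isIntegral_centralChar {χ : G → ℂ} (hχ : IsIrrCharacter G χ) (g : G) :
    IsIntegral ℤ (centralChar χ g) := by
  obtain ⟨n, ρ, hρ, rfl⟩ := hχ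
  have := Fintype.ofFinite G
  exact isIntegral_centralChar_character ρ g

/-- **Burnside's vanishing lemma**: if the size of the class of `g` is prime to the degree of the
irreducible character `χ`, then `χ g = 0` or `g` acts as a scalar, in which case
`χ (g * h * g⁻¹ * h⁻¹) = χ 1` for all `h`. -/
theorem irrChar_eq_zero_or_central_of_coprime {χ : G → ℂ} (hχ : IsIrrCharacter G χ) (g : G)
    (hcop : Nat.Coprime (Subgroup.centralizer ({g} : Set G)).index (charDegree χ)) :
    χ g = 0 ∨ ∀ h : G, χ (g * h * g⁻¹ * h⁻¹) = χ 1 := by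
  have hω := isIntegral_centralChar hχ g
  have hval := isIntegral_irrChar_apply hχ g
  have h1 := irrChar_one_eq_charDegree hχ
  have hpos := charDegree_pos_of_isIrrCharacter hχ
  obtain ⟨n, ρ, hρ, rfl⟩ := hχ
  rw [charDegree_character] at hcop hpos h1
  set k := (Subgroup.centralizer ({g} : Set G)).index with hk
  have hnC : (n : ℂ) ≠ 0 := by exact_mod_cast hpos.ne'
  -- Bezout
  have hb : (Nat.gcd k n : ℤ) = k * Nat.gcdA k n + n * Nat.gcdB k n := Nat.gcd_eq_gcd_ab k n
  rw [hcop] at hb
  have hint : IsIntegral ℤ (ρ.character g / (n : ℂ)) := by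
    have : ρ.character g / (n : ℂ) = ((Nat.gcdA k n : ℤ) : ℂ) * centralChar ρ.character g
        + ((Nat.gcdB k n : ℤ) : ℂ) * ρ.character g := by
      unfold centralChar
      rw [h1, ← hk]
      have hb' : ((k : ℂ) * ((Nat.gcdA k n : ℤ) : ℂ) + (n : ℂ) * ((Nat.gcdB k n : ℤ) : ℂ)) = 1 := by
        have := congrArg (fun z : ℤ => (z : ℂ)) hb
        simp only [Int.cast_add, Int.cast_mul, Int.cast_natCast, Nat.cast_one, Int.cast_one]
          at this
        exact this.symm
      field_simp
      linear_combination (-(ρ.character g)) * hb'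
    rw [this]
    exact (isIntegral_algebraMap.mul hω).add (isIntegral_algebraMap.mul hval)
  have hfr : finrank ℂ (Fin n → ℂ) = n := by simp
  have key := trace_eq_zero_or_scalar_of_isIntegral (ρ g) (Nat.card_pos (α := G))
    (rep_pow_card_eq_one ρ g) (by rw [hfr]; exact hint)
  rcases key with h | ⟨c, hc⟩
  · left; exact h
  · right
    intro h
    have : ρ (g * h * g⁻¹ * h⁻¹) = 1 := by
      have hcomm : ρ g * ρ h = ρ h * ρ g := by
        rw [hc]; simp
      have hinv : ρ g * ρ g⁻¹ = 1 := by rw [← map_mul, mul_inv_cancel, map_one]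
      have hinv' : ρ h * ρ h⁻¹ = 1 := by rw [← map_mul, mul_inv_cancel, map_one]
      rw [map_mul, map_mul, map_mul, hcomm, mul_assoc (ρ h), hinv, mul_one, hinv']
    show LinearMap.trace ℂ _ (ρ (g * h * g⁻¹ * h⁻¹)) = LinearMap.trace ℂ _ (ρ 1)
    rw [this, map_one ρ]

end Integrality

end Cfsg.Agent.Helper78
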