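import Cfsg.Agent.Helper78.ResidueLinAlg
import Mathlib.Algebra.CharP.Basic
import Mathlib.Algebra.Field.ZMod

/-!
# The residue field of the local ring at `M` and a total residue map `ℂ → F`

`resMap M z` is the residue class of `z` when `z` is a local integer, and `0` otherwise.
-/

set_option autoImplicit false
set_option linter.unusedSectionVars false
set_option linter.unusedVariables false

namespace Cfsg.Agent.Helper78

open Cfsg Cfsg.Agent.Helper77

variable (M : Ideal AlgInt) [hMp : M.IsPrime]

/-- The residue field of the local ring at `M`. -/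
abbrev ResField : Type := localRing M ⧸ localIdeal M

noncomputable instance resFieldField : Field (ResField M) :=
  haveI := localIdeal_isMaximal M
  Ideal.Quotient.field _

open Classical in
/-- The total residue map. -/
noncomputable def resMap (z : ℂ) : ResField M :=
  if h : MemLocalRing M z then Ideal.Quotient.mk (localIdeal M) ⟨z, h⟩ else 0

variable {M}

theorem resMap_of_mem {z : ℂ} (h : MemLocalRing M z) :
    resMap M z = Ideal.Quotient.mk (localIdeal M) ⟨z, h⟩ := by
  unfold resMap
  rw [dif_pos h]

theorem resMap_add {z w : ℂ} (hz : MemLocalRing M z) (hw : MemLocalRing M w) :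
    resMap M (z + w) = resMap M z + resMap M w := by
  rw [resMap_of_mem hz, resMap_of_mem hw, resMap_of_mem (memLocalRing_add M hz hw), ← map_add]
  rfl

theorem resMap_mul {z w : ℂ} (hz : MemLocalRing M z) (hw : MemLocalRing M w) :
    resMap M (z * w) = resMap M z * resMap M w := by
  rw [resMap_of_mem hz, resMap_of_mem hw, resMap_of_mem (memLocalRing_mul M hz hw), ← map_mul]
  rfl

theorem resMap_zero : resMap M 0 = 0 := by
  rw [resMap_of_mem (MemLocalIdeal.memLocalRing (memLocalIdeal_zero M))]
  exact Ideal.Quotient.eq_zero_iff_mem.mpr (memLocalIdeal_zero M)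

theorem resMap_one : resMap M 1 = 1 := by
  have h1 : MemLocalRing M (1 : ℂ) := (localRing M).one_mem
  rw [resMap_of_mem h1, ← map_one (Ideal.Quotient.mk (localIdeal M))]
  rfl

theorem resMap_eq_zero_iff {z : ℂ} (hz : MemLocalRing M z) :
    resMap M z = 0 ↔ MemLocalIdeal M z := by
  rw [resMap_of_mem hz]
  exact Ideal.Quotient.eq_zero_iff_mem

theorem resMap_sum {ι : Type*} (s : Finset ι) (f : ι → ℂ)
    (hf : ∀ i ∈ s, MemLocalRing M (f i)) :
    resMap M (∑ i ∈ s, f i) = ∑ i ∈ s, resMap M (f i) := by
  classical
  induction s using Finset.induction_on with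
  | empty => simp [resMap_zero]
  | insert a s ha ih =>
    rw [Finset.sum_insert ha, Finset.sum_insert ha,
      resMap_add (hf a (Finset.mem_insert_self a s))
        (memLocalRing_sum M s f (fun i hi => hf i (Finset.mem_insert_of_mem hi))),
      ih (fun i hi => hf i (Finset.mem_insert_of_mem hi))]

theorem resMap_natCast (n : ℕ) : resMap M (n : ℂ) = (n : ResField M) := by
  rw [resMap_of_mem (memLocalRing_natCast M n),
    ← map_natCast (Ideal.Quotient.mk (localIdeal M)) n]
  rfl

theorem resMap_eq_of_sub {z w : ℂ} (hz : MemLocalRing M z) (hw : MemLocalRing M w)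
    (h : MemLocalIdeal M (z - w)) : resMap M z = resMap M w := by
  rw [resMap_of_mem hz, resMap_of_mem hw]
  exact Ideal.Quotient.eq.mpr h

theorem resMap_natCast_eq_zero_iff {p : ℕ} (hM : IsPModular p M) (n : ℕ) :
    (n : ResField M) = 0 ↔ p ∣ n := by
  rw [← resMap_natCast, resMap_eq_zero_iff (memLocalRing_natCast M n),
    memLocalIdeal_natCast_iff hM]

theorem resField_charP {p : ℕ} (hM : IsPModular p M) : CharP (ResField M) p := by
  have hp : p.Prime := hM.1
  have h0 : ((p : ℕ) : ResField M) = 0 := (resMap_natCast_eq_zero_iff hM p).mpr dvd_rfl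
  have h1 := CharP.ringChar_of_prime_eq_zero hp h0
  rw [← h1]
  exact ringChar.charP _

end Cfsg.Agent.Helper78
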