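import Mathlib
import Cfsg.Prelude.Def_Blocks
import Cfsg.Agent.Helper78.LocalRing
import Cfsg.Agent.Helper78.IrrBasic

/-!
# Basic facts on blocks (`Cfsg.SameBlock`, `Cfsg.blockOf`, `Cfsg.IsPBlock`, `Cfsg.blockDefect`)
-/

set_option autoImplicit false

namespace Cfsg.Agent.Helper78

open Module Cfsg

section SameBlock

variable {G : Type*} [Group G] {M : Ideal AlgInt}

theorem sameBlock_refl (hM : M.IsPrime) (χ : G → ℂ) : SameBlock M χ χ := by
  intro g
  rw [sub_self]
  exact memLocalIdeal_zero hM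

theorem sameBlock_symm {χ ψ : G → ℂ} (h : SameBlock M χ ψ) : SameBlock M ψ χ :=
  fun g => memLocalIdeal_sub_comm (h g)

theorem sameBlock_trans (hM : M.IsPrime) {χ ψ φ : G → ℂ} (h₁ : SameBlock M χ ψ)
    (h₂ : SameBlock M ψ φ) : SameBlock M χ φ :=
  fun g => memLocalIdeal_sub_trans hM (h₁ g) (h₂ g)

theorem mem_blockOf_iff {χ : G → ℂ} {ψ : IrrCharacter G} :
    ψ ∈ blockOf M χ ↔ SameBlock M χ (ψ : G → ℂ) := Iff.rfl

theorem mem_blockOf_self (hM : M.IsPrime) (χ : IrrCharacter G) : χ ∈ blockOf M (χ : G → ℂ) :=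
  sameBlock_refl hM _

theorem blockOf_eq_of_sameBlock (hM : M.IsPrime) {χ ψ : G → ℂ} (h : SameBlock M χ ψ) :
    blockOf M χ = blockOf M ψ := by
  ext φ
  exact ⟨fun h' => sameBlock_trans hM (sameBlock_symm h) h', fun h' => sameBlock_trans hM h h'⟩

theorem blockOf_eq_of_mem (hM : M.IsPrime) {χ : G → ℂ} {ψ : IrrCharacter G}
    (h : ψ ∈ blockOf M χ) : blockOf M (ψ : G → ℂ) = blockOf M χ :=
  (blockOf_eq_of_sameBlock hM h).symm

theorem isPBlock_nonempty (hM : M.IsPrime) {B : Set (IrrCharacter G)} (hB : IsPBlock M B) :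
    B.Nonempty := by
  obtain ⟨χ, rfl⟩ := hB
  exact ⟨χ, mem_blockOf_self hM χ⟩

theorem isPBlock_eq_blockOf_of_mem (hM : M.IsPrime) {B : Set (IrrCharacter G)}
    (hB : IsPBlock M B) {ψ : IrrCharacter G} (hψ : ψ ∈ B) : B = blockOf M (ψ : G → ℂ) := by
  obtain ⟨χ, rfl⟩ := hB
  exact (blockOf_eq_of_mem hM hψ).symm

theorem isPBlock_blockOf (χ : IrrCharacter G) : IsPBlock M (blockOf M (χ : G → ℂ)) := ⟨χ, rfl⟩

/-- Two blocks with a common member coincide. -/
theorem isPBlock_eq_of_mem_of_mem (hM : M.IsPrime) {B B' : Set (IrrCharacter G)}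
    (hB : IsPBlock M B) (hB' : IsPBlock M B') {ψ : IrrCharacter G} (h : ψ ∈ B) (h' : ψ ∈ B') :
    B = B' := by
  rw [isPBlock_eq_blockOf_of_mem hM hB h, isPBlock_eq_blockOf_of_mem hM hB' h']

theorem sameBlock_of_mem_of_mem (hM : M.IsPrime) {B : Set (IrrCharacter G)}
    (hB : IsPBlock M B) {χ ψ : IrrCharacter G} (hχ : χ ∈ B) (hψ : ψ ∈ B) :
    SameBlock M (χ : G → ℂ) (ψ : G → ℂ) := by
  obtain ⟨φ, rfl⟩ := hB
  exact sameBlock_trans hM (sameBlock_symm hχ) hψ

end SameBlock

section Defect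

variable {G : Type*} [Group G]

/-- If `p ^ b` divides the degree of every member of the nonempty set `B`, the defect of `B` is at
most `v_p(|G|) - b`. -/
theorem blockDefect_le_of_pow_dvd {p : ℕ} (hp : p.Prime) {B : Set (IrrCharacter G)}
    (hne : B.Nonempty) {b : ℕ}
    (h : ∀ ψ ∈ B, p ^ b ∣ charDegree (ψ : G → ℂ)) :
    blockDefect p B ≤ (Nat.card G).factorization p - b := by
  unfold blockDefect
  apply Nat.sub_le_sub_left
  apply le_csInf (hne.image _)
  rintro _ ⟨ψ, hψ, rfl⟩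
  have hpos := charDegree_pos_of_isIrrCharacter ψ.2
  exact (hp.pow_dvd_iff_le_factorization hpos.ne').1 (h ψ hψ)

end Defect

section Divisibility

variable {G : Type*} [Group G] [Finite G] {M : Ideal AlgInt} {p : ℕ}

/-- Let `χ, ψ` be irreducible characters in the same block, and `A` a subgroup of order `p ^ b`
such that every non-identity `z ∈ A` has class size prime to `p` and `χ z = 0`.
Then `p ^ b` divides `ψ 1`. -/
theorem pow_dvd_charDegree_of_sameBlock (hM : IsPModular p M) {χ ψ : G → ℂ}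
    (hχ : IsIrrCharacter G χ) (hψ : IsIrrCharacter G ψ) (hblock : SameBlock M χ ψ)
    (A : Subgroup G) {b : ℕ} (hA : Nat.card A = p ^ b)
    (hcls : ∀ z ∈ A, z ≠ 1 → ¬ p ∣ (Subgroup.centralizer ({z} : Set G)).index)
    (hvan : ∀ z ∈ A, z ≠ 1 → χ z = 0) : p ^ b ∣ charDegree ψ := by
  classical
  have hM' := isPrime_of_isPModular hM
  have hp := hM.1
  have hdpos := charDegree_pos_of_isIrrCharacter hψ
  have hψ1 := irrChar_one_eq_charDegree hψ
  set d := charDegree ψ with hd
  have hdC : (d : ℂ) ≠ 0 := by exact_mod_cast hdpos.ne'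
  -- `ψ z / d` lies in the local ideal for `1 ≠ z ∈ A`
  have hν : ∀ z ∈ A, z ≠ 1 → MemLocalIdeal M (ψ z / (d : ℂ)) := by
    intro z hz hz1
    set k := (Subgroup.centralizer ({z} : Set G)).index with hk
    have hkcop : Nat.Coprime k p :=
      ((Nat.Prime.coprime_iff_not_dvd hp).2 (hcls z hz hz1)).symm
    have h1 : MemLocalIdeal M (centralChar χ z - centralChar ψ z) := hblock z
    have h2 : centralChar χ z = 0 := by
      unfold centralChar
      rw [hvan z hz hz1]; simp
    rw [h2, zero_sub] at h1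
    have h3 : MemLocalIdeal M (centralChar ψ z) := by
      have := memLocalIdeal_neg h1
      rwa [neg_neg] at this
    have hk0 : (k : ℂ) ≠ 0 := by
      have : k ≠ 0 := fun h0 => by
        rw [h0] at hkcop
        exact hp.one_lt.ne' ((Nat.coprime_zero_left p).1 hkcop)
      exact_mod_cast this
    have h4 : ψ z / (d : ℂ) = (k : ℂ)⁻¹ * centralChar ψ z := by
      unfold centralChar
      rw [hψ1, ← hk]
      field_simp
    rw [h4]
    exact memLocalIdeal_mul_left hM' (memLocalRing_inv_natCast hM hkcop) h3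
  -- the restriction of `ψ` to `A` contains the trivial character an integral number of times
  obtain ⟨n, ρ, hρ, hρψ⟩ := hψ
  have : Fintype A := Fintype.ofFinite A
  let σ : Representation ℂ A (Fin n → ℂ) := ρ.comp A.subtype
  have hσ : ∀ a : A, σ.character a = ψ (a : G) := by
    intro a
    rw [← hρψ]
    rfl
  have hApos : (Nat.card A : ℂ) ≠ 0 := by
    rw [hA]
    exact_mod_cast (pow_pos hp.pos b).ne'
  have : Invertible (Nat.card A : ℂ) := invertibleOfNonzero hApos
  have hinv := Representation.card_inv_mul_sum_char_eq_finrank σ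
  set m := finrank ℂ (Representation.invariants σ) with hm
  have hsum : ∑ a : A, ψ (a : G) = (p : ℂ) ^ b * (m : ℂ) := by
    have h5 : ∑ a : A, σ.character a = (Nat.card A : ℂ) * (m : ℂ) := by
      rw [← hinv, ← mul_assoc, mul_inv_cancel₀ hApos, one_mul]
    rw [← Finset.sum_congr rfl (fun a _ => hσ a), h5, hA]
    push_cast
    ring
  -- split off the identity
  have hsplit : ∑ a : A, ψ (a : G) = (d : ℂ) * (1 + ∑ a ∈ Finset.univ.erase (1 : A),
      ψ (a : G) / (d : ℂ)) := by
    rw [← Finset.add_sum_erase Finset.univ _ (Finset.mem_univ (1 : A)), mul_add, mul_one,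
      Finset.mul_sum, Subgroup.coe_one, hψ1]
    congr 1
    refine Finset.sum_congr rfl fun a _ => ?_
    field_simp
  set ν := ∑ a ∈ Finset.univ.erase (1 : A), ψ (a : G) / (d : ℂ) with hνdef
  have hνmem : MemLocalIdeal M ν := by
    apply memLocalIdeal_sum hM'
    intro a ha
    apply hν a a.2
    intro h1
    apply Finset.ne_of_mem_erase ha
    exact Subtype.ext h1
  have hunit : (1 + ν) ≠ 0 := by
    intro h0
    apply not_memLocalIdeal_one_add hM' hνmem
    rw [h0]
    exact memLocalIdeal_zero hM'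
  -- `d / p ^ b = m * (1 + ν)⁻¹` is a local integer
  have hloc : MemLocalRing M ((d : ℂ) / ((p ^ b : ℕ) : ℂ)) := by
    have hpb : ((p ^ b : ℕ) : ℂ) ≠ 0 := by exact_mod_cast (pow_pos hp.pos b).ne'
    have : (d : ℂ) / ((p ^ b : ℕ) : ℂ) = (m : ℂ) * (1 + ν)⁻¹ := by
      have h6 : (d : ℂ) * (1 + ν) = (p : ℂ) ^ b * (m : ℂ) := by rw [← hsplit, hsum]
      push_cast at hpb ⊢
      field_simp
      linear_combination h6
    rw [this]
    exact memLocalRing_mul hM' (memLocalRing_natCast hM' m) (memLocalRing_inv_one_add hM' hνmem)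
  exact pow_dvd_of_memLocalRing_div hM (pow_pos hp.pos b).ne' dvd_rfl hloc

end Divisibility

end Cfsg.Agent.Helper78
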