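import Cfsg.Prelude.Def_Blocks
import Cfsg.Agent.Helper80.Pullback
import Cfsg.Agent.Helper79.Linear

/-!
# Transport of irreducible characters, blocks and block idempotents along a group isomorphism
-/

set_option autoImplicit false

namespace Cfsg.Agent.Helper78

open Cfsg
open scoped ComplexConjugate

universe u v

variable {H : Type u} {H' : Type v} [Group H] [Group H']

/-- Transport an irreducible character along a group isomorphism. -/
noncomputable def irrMap (e : H ≃* H') (ξ : IrrCharacter H) : IrrCharacter H' :=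
  ⟨fun h' => (ξ : H → ℂ) (e.symm h'),
    Cfsg.Agent.Helper80.IsIrrCharacter.comp_surjective ξ.2 e.symm.toMonoidHom e.symm.surjective⟩

theorem irrMap_apply (e : H ≃* H') (ξ : IrrCharacter H) (h' : H') :
    (irrMap e ξ : H' → ℂ) h' = (ξ : H → ℂ) (e.symm h') := rfl

theorem irrMap_apply_apply (e : H ≃* H') (ξ : IrrCharacter H) (h : H) :
    (irrMap e ξ : H' → ℂ) (e h) = (ξ : H → ℂ) h := by
  rw [irrMap_apply, MulEquiv.symm_apply_apply]

theorem irrMap_symm_irrMap (e : H ≃* H') (ξ : IrrCharacter H) :
    irrMap e.symm (irrMap e ξ) = ξ := by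
  apply Subtype.ext
  funext h
  rw [irrMap_apply, irrMap_apply, MulEquiv.symm_symm, MulEquiv.symm_apply_apply]

theorem irrMap_irrMap_symm (e : H ≃* H') (ξ : IrrCharacter H') :
    irrMap e (irrMap e.symm ξ) = ξ := by
  apply Subtype.ext
  funext h
  rw [irrMap_apply, irrMap_apply, MulEquiv.symm_symm, MulEquiv.apply_symm_apply]

theorem irrMap_injective (e : H ≃* H') : Function.Injective (irrMap e) :=
  Function.LeftInverse.injective (irrMap_symm_irrMap e)

theorem irrMap_surjective (e : H ≃* H') : Function.Surjective (irrMap e) :=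
  Function.RightInverse.surjective (irrMap_irrMap_symm e)

theorem index_centralizer_map (e : H ≃* H') (h : H) :
    (Subgroup.centralizer ({e h} : Set H')).index = (Subgroup.centralizer ({h} : Set H)).index := by
  have : Subgroup.centralizer ({e h} : Set H') =
      (Subgroup.centralizer ({h} : Set H)).map (e : H →* H') := by
    ext x
    simp only [Subgroup.mem_centralizer_singleton_iff, Subgroup.mem_map, MonoidHom.coe_coe]
    constructor
    · intro hx
      refine ⟨e.symm x, ?_, by simp⟩
      apply e.injective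
      simpa using hx
    · rintro ⟨y, hy, rfl⟩
      rw [← map_mul, ← map_mul, hy]
  rw [this, Subgroup.index_map_equiv]

theorem centralChar_comp_symm (e : H ≃* H') (χ : H → ℂ) (h' : H') :
    centralChar (fun x => χ (e.symm x)) h' = centralChar χ (e.symm h') := by
  unfold centralChar
  have := index_centralizer_map e (e.symm h')
  rw [MulEquiv.apply_symm_apply] at this
  rw [this]
  simp only [map_one]

theorem sameBlock_comp_symm_iff (M : Ideal AlgInt) (e : H ≃* H') (χ ψ : H → ℂ) :
    SameBlock M (fun x => χ (e.symm x)) (fun x => ψ (e.symm x)) ↔ SameBlock M χ ψ := by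
  constructor
  · intro h g
    have := h (e g)
    rwa [centralChar_comp_symm, centralChar_comp_symm, MulEquiv.symm_apply_apply] at this
  · intro h g
    rw [centralChar_comp_symm, centralChar_comp_symm]
    exact h _

theorem irrMap_mem_principalBlock_iff (M : Ideal AlgInt) (e : H ≃* H') (ξ : IrrCharacter H) :
    irrMap e ξ ∈ principalBlock M H' ↔ ξ ∈ principalBlock M H := by
  show SameBlock M (fun _ : H' => (1 : ℂ)) (fun x => (ξ : H → ℂ) (e.symm x)) ↔
    SameBlock M (fun _ : H => (1 : ℂ)) (ξ : H → ℂ)
  exact sameBlock_comp_symm_iff M e (fun _ => 1) (ξ : H → ℂ)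

theorem bijOn_irrMap_principalBlock (M : Ideal AlgInt) (e : H ≃* H') :
    Set.BijOn (irrMap e) (principalBlock M H) (principalBlock M H') := by
  refine ⟨fun ξ hξ => (irrMap_mem_principalBlock_iff M e ξ).mpr hξ,
    (irrMap_injective e).injOn, fun ξ' hξ' => ?_⟩
  refine ⟨irrMap e.symm ξ', ?_, irrMap_irrMap_symm e ξ'⟩
  rw [← irrMap_mem_principalBlock_iff M e, irrMap_irrMap_symm]
  exact hξ'

theorem blockCoeff_of_bijOn (e : H ≃* H') {B : Set (IrrCharacter H)} {B' : Set (IrrCharacter H')}
    (hB : Set.BijOn (irrMap e) B B') (h' : H') :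
    blockCoeff B' h' = blockCoeff B (e.symm h') := by
  unfold blockCoeff
  rw [Nat.card_congr e.toEquiv]
  congr 1
  symm
  refine finsum_mem_eq_of_bijOn (irrMap e) hB (fun χ _ => ?_)
  rw [irrMap_apply, irrMap_apply, map_one]

theorem blockCoeff_principalBlock_map (M : Ideal AlgInt) (e : H ≃* H') (h : H) :
    blockCoeff (principalBlock M H') (e h) = blockCoeff (principalBlock M H) h := by
  rw [blockCoeff_of_bijOn e (bijOn_irrMap_principalBlock M e), MulEquiv.symm_apply_apply]

theorem isPBlock_principalBlock (M : Ideal AlgInt) (H : Type u) [Group H] :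
    IsPBlock M (principalBlock M H) :=
  ⟨Cfsg.Agent.Helper79.principalIrr H, rfl⟩

theorem principalIrr_mem_principalBlock (M : Ideal AlgInt) (hM : M.IsPrime) (H : Type u) [Group H] :
    Cfsg.Agent.Helper79.principalIrr H ∈ principalBlock M H := by
  intro g
  show MemLocalIdeal M (centralChar (fun _ : H => (1 : ℂ)) g - centralChar (fun _ : H => (1 : ℂ)) g)
  rw [sub_self]
  exact ⟨0, 1, M.zero_mem, fun h => hM.ne_top ((Ideal.eq_top_iff_one M).mpr h), by simp⟩

end Cfsg.Agent.Helper78
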