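import Cfsg.Prelude.Def_BlockFusion
import Cfsg.Agent.Helper16.MinMax
import Cfsg.Agent.Helper78.IrrTransport
import Cfsg.Agent.Helper78.LocalRing
import Cfsg.Agent.Helper78.Frobenius

/-!
# Principal Brauer pairs
-/

set_option autoImplicit false

namespace Cfsg.Agent.Helper78

open Cfsg
open scoped ComplexConjugate

universe u

section Osima

variable {H : Type u} [Group H] [Fintype H] {M : Ideal AlgInt}

/-- Osima's theorem for the principal block: the coefficients of its idempotent form a
class function with values in the local ring, and they sum to `1`. -/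
theorem principal_osima [M.IsPrime] :
    IsClassFunction H (blockCoeff (principalBlock M H)) ∧
    (∀ h, MemLocalRing M (blockCoeff (principalBlock M H) h)) ∧
    ∑ x : H, blockCoeff (principalBlock M H) x = 1 := by
  obtain ⟨hcl, hR, hom⟩ := Cfsg.Agent.Helper16.osima_strong (M := M)
    (Cfsg.Agent.Helper79.principalIrr H)
  refine ⟨hcl, hR, ?_⟩
  have h1 := hom (Cfsg.Agent.Helper79.principalIrr H)
  rw [if_pos (Cfsg.Agent.Helper16.sameBlock_refl _)] at h1
  rw [← h1]
  unfold Cfsg.Agent.Helper16.omega
  show _ = (∑ x : H, blockCoeff (blockOf M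
    ((Cfsg.Agent.Helper79.principalIrr H : IrrCharacter H) : H → ℂ)) x * 1) / 1
  simp only [mul_one, div_one]
  rfl

end Osima

section Key

variable {G : Type u} [Group G] {M : Ideal AlgInt} {p : ℕ} [Fact p.Prime]

theorem conj_eq_of_mem_centralizer {R : Subgroup G} {u y : G} (hu : u ∈ R)
    (hy : y ∈ Subgroup.centralizer (R : Set G)) : u * y * u⁻¹ = y := by
  have := hy u hu
  rw [this, mul_inv_cancel_right]

theorem conj_mem_centralizer_iff {R : Subgroup G} {u x : G} (hu : u ∈ R) :
    u * x * u⁻¹ ∈ Subgroup.centralizer (R : Set G) ↔ x ∈ Subgroup.centralizer (R : Set G) := by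
  constructor
  · intro h
    have h1 := conj_eq_of_mem_centralizer (inv_mem hu) h
    have h2 : u⁻¹ * (u * x * u⁻¹) * u⁻¹⁻¹ = x := by group
    rw [h2] at h1
    rw [h1]; exact h
  · intro h
    rw [conj_eq_of_mem_centralizer hu h]; exact h

/-- The key congruence: the Brauer-map image at a `p`-subgroup `R` of an `R`-invariant element
with local-integer coefficients and augmentation `1`, evaluated at a character in the principal
block of `C_G(R)`, is `1` modulo the local ideal. -/
theorem brauerOmega_sub_one_mem [Fintype G] (hM : IsPModular p M) (R : Subgroup G) (hR : IsPGroup p R)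
    (β : G → ℂ) (hβS : ∀ g, MemLocalRing M (β g))
    (hβR : ∀ r ∈ R, ∀ g, β (r * g * r⁻¹) = β g)
    (hβC : ∀ c d : G, c ∈ Subgroup.centralizer (R : Set G) →
      d ∈ Subgroup.centralizer (R : Set G) → β (d * c * d⁻¹) = β c)
    (hsum : MemLocalIdeal M (∑ g : G, β g - 1))
    (ξ : IrrCharacter (Subgroup.centralizer (R : Set G)))
    (hξ : ξ ∈ principalBlock M (Subgroup.centralizer (R : Set G))) :
    MemLocalIdeal M (brauerOmega R β (ξ : Subgroup.centralizer (R : Set G) → ℂ) - 1) := by
  classical
  have hMp : M.IsPrime := isPrime_of_isPModular hM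
  let s : Subgroup.centralizer (R : Set G) → ℂ := fun x => β (x : G)
  have hs : IsClassFunction (Subgroup.centralizer (R : Set G)) s := fun c d => hβC c d c.2 d.2
  have hsS : ∀ x, MemLocalRing M (s x) := fun x => hβS x
  have h1 : brauerOmega R β (ξ : Subgroup.centralizer (R : Set G) → ℂ) =
      Cfsg.Agent.Helper16.omega (ξ : Subgroup.centralizer (R : Set G) → ℂ) s := by
    unfold brauerOmega Cfsg.Agent.Helper16.omega
    rw [finsum_eq_sum_of_fintype, Finset.sum_div]
  have h2 : MemLocalIdeal M
      (Cfsg.Agent.Helper16.omega ((Cfsg.Agent.Helper79.principalIrr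
        (Subgroup.centralizer (R : Set G)) : IrrCharacter _) : _ → ℂ) s -
        Cfsg.Agent.Helper16.omega (ξ : Subgroup.centralizer (R : Set G) → ℂ) s) :=
    Cfsg.Agent.Helper16.omega_sub_memLocalIdeal (M := M)
      (χ := Cfsg.Agent.Helper79.principalIrr (Subgroup.centralizer (R : Set G))) (ψ := ξ)
      (show SameBlock M (fun _ => (1 : ℂ)) (ξ : Subgroup.centralizer (R : Set G) → ℂ) from hξ) hs hsS
  have h3 : Cfsg.Agent.Helper16.omega ((Cfsg.Agent.Helper79.principalIrr
        (Subgroup.centralizer (R : Set G)) : IrrCharacter _) : _ → ℂ) s =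
      ∑ x : Subgroup.centralizer (R : Set G), β x := by
    unfold Cfsg.Agent.Helper16.omega
    show (∑ x : Subgroup.centralizer (R : Set G), s x * 1) / 1 = _
    simp only [mul_one, div_one]
    rfl
  -- orbit counting
  let f : G → ℂ := fun g => if g ∈ Subgroup.centralizer (R : Set G) then 0 else β g
  have h4 : MemLocalIdeal M (∑ g : G, f g) := by
    let _ : MulAction R G := Cfsg.Agent.Helper16.conjActionOn R
    refine Cfsg.Agent.Helper16.memLocalIdeal_sum_of_pgroup_action (M := M) hM.2.2 hR f ?_ ?_ ?_
    · intro x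
      show MemLocalRing M (if x ∈ Subgroup.centralizer (R : Set G) then 0 else β x)
      split_ifs
      · exact memLocalRing_zero hMp
      · exact hβS x
    · intro u x
      show (if (u : G) * x * (u : G)⁻¹ ∈ Subgroup.centralizer (R : Set G) then 0
        else β ((u : G) * x * (u : G)⁻¹)) = if x ∈ Subgroup.centralizer (R : Set G) then 0 else β x
      rw [hβR u u.2 x]
      simp only [conj_mem_centralizer_iff u.2]
    · intro x hx
      have hxC : x ∈ Subgroup.centralizer (R : Set G) := by
        intro r hr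
        have := hx ⟨r, hr⟩
        have h' : r * x * r⁻¹ = x := this
        calc r * x = r * x * r⁻¹ * r := by group
          _ = x * r := by rw [h']
      show MemLocalIdeal M (if x ∈ Subgroup.centralizer (R : Set G) then 0 else β x)
      rw [if_pos hxC]
      exact memLocalIdeal_zero hMp
  have h5 : ∑ g : G, β g = ∑ x : Subgroup.centralizer (R : Set G), β x + ∑ g : G, f g := by
    have e1 : ∑ x : Subgroup.centralizer (R : Set G), β x =
        ∑ g : G, if g ∈ Subgroup.centralizer (R : Set G) then β g else 0 := by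
      rw [← Finset.sum_filter]
      exact (Finset.sum_subtype (Finset.univ.filter (· ∈ Subgroup.centralizer (R : Set G)))
        (by simp) β).symm
    rw [e1, ← Finset.sum_add_distrib]
    refine Finset.sum_congr rfl (fun g _ => ?_)
    show β g = (if g ∈ Subgroup.centralizer (R : Set G) then β g else 0) +
      (if g ∈ Subgroup.centralizer (R : Set G) then 0 else β g)
    split_ifs <;> simp
  have h6 : brauerOmega R β (ξ : Subgroup.centralizer (R : Set G) → ℂ) - 1 =
      (∑ g : G, β g - 1) - (∑ g : G, f g) -
      (Cfsg.Agent.Helper16.omega ((Cfsg.Agent.Helper79.principalIrr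
        (Subgroup.centralizer (R : Set G)) : IrrCharacter _) : _ → ℂ) s -
        Cfsg.Agent.Helper16.omega (ξ : Subgroup.centralizer (R : Set G) → ℂ) s) := by
    rw [h1, h3, h5]; ring
  rw [h6]
  exact memLocalIdeal_sub hMp (memLocalIdeal_sub hMp hsum h4) h2

/-- Every `p`-subgroup `Q` together with the principal block of `C_G(Q)` is a Brauer pair of the
principal block of `G`. -/
theorem isBrauerPairOf_principal [Fintype G] (hM : IsPModular p M) (Q : Subgroup G)
    (hQ : IsPGroup p Q) :
    IsBrauerPairOf p M (principalBlock M G) Q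
      (principalBlock M (Subgroup.centralizer (Q : Set G))) := by
  have hMp : M.IsPrime := isPrime_of_isPModular hM
  obtain ⟨hcl, hS, hsum⟩ := principal_osima (H := G) (M := M)
  refine ⟨⟨hQ, isPBlock_principalBlock M _⟩, isPBlock_principalBlock M G, fun ξ hξ => ?_⟩
  refine brauerOmega_sub_one_mem hM Q hQ _ hS (fun r _ g => hcl g r) (fun c d _ _ => hcl c d) ?_
    ξ hξ
  rw [hsum, sub_self]; exact memLocalIdeal_zero hMp

/-- Conjugation by `x` as an isomorphism between subgroups. -/
def conjEquiv {K K' : Subgroup G} (x : G) (h1 : ∀ k ∈ K, x * k * x⁻¹ ∈ K')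
    (h2 : ∀ k ∈ K', x⁻¹ * k * x ∈ K) : K ≃* K' where
  toFun k := ⟨x * k * x⁻¹, h1 k k.2⟩
  invFun k := ⟨x⁻¹ * k * x, h2 k k.2⟩
  left_inv k := by ext; simp [mul_assoc]
  right_inv k := by ext; simp [mul_assoc]
  map_mul' a b := by ext; simp [mul_assoc]

theorem coe_conjEquiv {K K' : Subgroup G} (x : G) (h1 : ∀ k ∈ K, x * k * x⁻¹ ∈ K')
    (h2 : ∀ k ∈ K', x⁻¹ * k * x ∈ K) (k : K) :
    ((conjEquiv x h1 h2 k : K') : G) = x * k * x⁻¹ := rfl

theorem normalizer_le_normalizer_centralizer (Q : Subgroup G) :
    Subgroup.normalizer (Q : Set G) ≤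
      Subgroup.normalizer ((Subgroup.centralizer (Q : Set G) : Subgroup G) : Set G) := by
  intro x hx
  have key : ∀ y : G, y ∈ Subgroup.normalizer (Q : Set G) →
      ∀ c ∈ Subgroup.centralizer (Q : Set G), y * c * y⁻¹ ∈ Subgroup.centralizer (Q : Set G) := by
    intro y hy c hc q hq
    have hq' : y⁻¹ * q * y ∈ Q := (Subgroup.mem_normalizer_iff''.mp hy q).mp hq
    have := hc _ hq'
    calc q * (y * c * y⁻¹) = y * ((y⁻¹ * q * y) * c) * y⁻¹ := by group
      _ = y * (c * (y⁻¹ * q * y)) * y⁻¹ := by rw [this]
      _ = y * c * y⁻¹ * q := by group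
  rw [Subgroup.mem_normalizer_iff]
  intro c
  constructor
  · exact key x hx c
  · intro h
    have := key x⁻¹ (inv_mem hx) _ h
    have e : x⁻¹ * (x * c * x⁻¹) * x⁻¹⁻¹ = c := by group
    rwa [e] at this

theorem stabilizesBlock_principal (K : Subgroup G) (x : G)
    (hx : x ∈ Subgroup.normalizer (K : Set G)) : StabilizesBlock K (principalBlock M K) x := by
  refine ⟨hx, fun χ hχ => ?_⟩
  let e : K ≃* K := conjEquiv x (fun k hk => (Subgroup.mem_normalizer_iff.mp hx k).mp hk)
    (fun k hk => (Subgroup.mem_normalizer_iff''.mp hx k).mp hk)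
  refine ⟨irrMap e χ, (irrMap_mem_principalBlock_iff M e χ).mpr hχ, ?_⟩
  intro k k' hkk'
  have : k' = e k := Subtype.ext hkk'
  rw [this, irrMap_apply_apply]

theorem subgroupBlockCoeff_of_mem (H : Subgroup G) (e : Set (IrrCharacter H)) {g : G}
    (h : g ∈ H) : subgroupBlockCoeff H e g = blockCoeff e ⟨g, h⟩ := by
  unfold subgroupBlockCoeff
  exact dif_pos h

theorem subgroupBlockCoeff_of_not_mem (H : Subgroup G) (e : Set (IrrCharacter H)) {g : G}
    (h : g ∉ H) : subgroupBlockCoeff H e g = 0 := by
  unfold subgroupBlockCoeff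
  exact dif_neg h

/-- Normal inclusion between principal Brauer pairs. -/
theorem isNormalSubpair_principal [Fintype G] (hM : IsPModular p M) (Q P : Subgroup G)
    (hP : IsPGroup p P) (hQP : Q ≤ P) (hPN : P ≤ Subgroup.normalizer (Q : Set G)) :
    IsNormalSubpair p M Q (principalBlock M (Subgroup.centralizer (Q : Set G))) P
      (principalBlock M (Subgroup.centralizer (P : Set G))) := by
  classical
  have hMp : M.IsPrime := isPrime_of_isPModular hM
  obtain ⟨hcl, hS, hsum⟩ := principal_osima (H := Subgroup.centralizer (Q : Set G)) (M := M)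
  have hCPQ : Subgroup.centralizer (P : Set G) ≤ Subgroup.centralizer (Q : Set G) :=
    Subgroup.centralizer_le (SetLike.coe_subset_coe.mpr hQP)
  refine ⟨⟨hP.to_le hQP, isPBlock_principalBlock M _⟩, ⟨hP, isPBlock_principalBlock M _⟩, hQP, hPN,
    fun x hx => stabilizesBlock_principal _ x (normalizer_le_normalizer_centralizer Q (hPN hx)),
    fun ξ hξ => ?_⟩
  refine brauerOmega_sub_one_mem hM P hP _ ?_ ?_ ?_ ?_ ξ hξ
  · intro g
    by_cases hg : g ∈ Subgroup.centralizer (Q : Set G)
    · rw [subgroupBlockCoeff_of_mem _ _ hg]; exact hS _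
    · rw [subgroupBlockCoeff_of_not_mem _ _ hg]; exact memLocalRing_zero hMp
  · intro r hr g
    have hrN := normalizer_le_normalizer_centralizer Q (hPN hr)
    by_cases hg : g ∈ Subgroup.centralizer (Q : Set G)
    · have hg' : r * g * r⁻¹ ∈ Subgroup.centralizer (Q : Set G) :=
        (Subgroup.mem_normalizer_iff.mp hrN g).mp hg
      rw [subgroupBlockCoeff_of_mem _ _ hg, subgroupBlockCoeff_of_mem _ _ hg']
      let e : Subgroup.centralizer (Q : Set G) ≃* Subgroup.centralizer (Q : Set G) :=
        conjEquiv r (fun k hk => (Subgroup.mem_normalizer_iff.mp hrN k).mp hk)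
          (fun k hk => (Subgroup.mem_normalizer_iff''.mp hrN k).mp hk)
      exact blockCoeff_principalBlock_map M e ⟨g, hg⟩
    · have hg' : r * g * r⁻¹ ∉ Subgroup.centralizer (Q : Set G) :=
        fun h => hg ((Subgroup.mem_normalizer_iff.mp hrN g).mpr h)
      rw [subgroupBlockCoeff_of_not_mem _ _ hg, subgroupBlockCoeff_of_not_mem _ _ hg']
  · intro c d hc hd
    have hc' := hCPQ hc
    have hd' := hCPQ hd
    rw [subgroupBlockCoeff_of_mem _ _ hc',
      subgroupBlockCoeff_of_mem _ _ (mul_mem (mul_mem hd' hc') (inv_mem hd'))]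
    exact hcl ⟨c, hc'⟩ ⟨d, hd'⟩
  · have : ∑ g : G, subgroupBlockCoeff (Subgroup.centralizer (Q : Set G))
        (principalBlock M (Subgroup.centralizer (Q : Set G))) g = 1 := by
      rw [← hsum]
      have e1 : ∑ g : G, subgroupBlockCoeff (Subgroup.centralizer (Q : Set G))
          (principalBlock M (Subgroup.centralizer (Q : Set G))) g =
          ∑ g ∈ Finset.univ.filter (· ∈ Subgroup.centralizer (Q : Set G)),
            subgroupBlockCoeff (Subgroup.centralizer (Q : Set G))
              (principalBlock M (Subgroup.centralizer (Q : Set G))) g := by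
        symm
        apply Finset.sum_subset (Finset.filter_subset _ _)
        intro g _ hg
        simp only [Finset.mem_filter, Finset.mem_univ, true_and] at hg
        exact subgroupBlockCoeff_of_not_mem _ _ hg
      rw [e1, Finset.sum_subtype (p := fun g => g ∈ Subgroup.centralizer (Q : Set G))
        (Finset.univ.filter (· ∈ Subgroup.centralizer (Q : Set G))) (by simp)]
      refine Finset.sum_congr rfl (fun h _ => ?_)
      exact subgroupBlockCoeff_of_mem _ _ h.2
    rw [this, sub_self]
    exact memLocalIdeal_zero hMp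

/-- Inclusion of principal Brauer pairs: `(Q, b₀(C_G(Q))) ≤ (S, b₀(C_G(S)))` for `Q ≤ S`, `S` a
`p`-subgroup. -/
theorem subpairLE_principal_aux [Fintype G] (hM : IsPModular p M) (S : Subgroup G)
    (hS : IsPGroup p S) :
    ∀ (n : ℕ) (Q : Subgroup G), Q ≤ S → Nat.card S - Nat.card Q = n →
      SubpairLE p M Q (principalBlock M (Subgroup.centralizer (Q : Set G))) S
        (principalBlock M (Subgroup.centralizer (S : Set G))) := by
  intro n
  induction n using Nat.strong_induction_on with
  | _ n ih =>
    intro Q hQS hn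
    rcases eq_or_lt_of_le hQS with rfl | hlt
    · exact Relation.ReflTransGen.refl
    · obtain ⟨s, hsS, hsQ, hsN⟩ := exists_mem_normalizer_not_mem S hS Q hlt
      have hQ1 : Q < S ⊓ Subgroup.normalizer (Q : Set G) :=
        lt_of_le_of_ne (le_inf hQS Subgroup.le_normalizer)
          (fun h => hsQ (h ▸ (⟨hsS, hsN⟩ : s ∈ S ⊓ Subgroup.normalizer (Q : Set G))))
      have hstep : IsNormalSubpair p M Q (principalBlock M (Subgroup.centralizer (Q : Set G)))
          (S ⊓ Subgroup.normalizer (Q : Set G))
          (principalBlock M (Subgroup.centralizer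
            ((S ⊓ Subgroup.normalizer (Q : Set G) : Subgroup G) : Set G))) :=
        isNormalSubpair_principal hM Q _ (hS.to_le inf_le_left) hQ1.le inf_le_right
      have hc1 := card_lt_card_of_lt hQ1
      have hc2 : Nat.card (S ⊓ Subgroup.normalizer (Q : Set G) : Subgroup G) ≤ Nat.card S :=
        Subgroup.card_le_of_le inf_le_left
      have := ih (Nat.card S - Nat.card (S ⊓ Subgroup.normalizer (Q : Set G) : Subgroup G))
        (by omega) (S ⊓ Subgroup.normalizer (Q : Set G)) inf_le_left rfl
      exact Relation.ReflTransGen.head (r := NormalSubpairRel p M)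
        (b := ⟨S ⊓ Subgroup.normalizer (Q : Set G), principalBlock M (Subgroup.centralizer
            ((S ⊓ Subgroup.normalizer (Q : Set G) : Subgroup G) : Set G))⟩) hstep this

theorem subpairLE_principal [Fintype G] (hM : IsPModular p M) (S : Subgroup G)
    (hS : IsPGroup p S) (Q : Subgroup G) (hQS : Q ≤ S) :
    SubpairLE p M Q (principalBlock M (Subgroup.centralizer (Q : Set G))) S
      (principalBlock M (Subgroup.centralizer (S : Set G))) :=
  subpairLE_principal_aux hM S hS _ Q hQS rfl

omit [Fact p.Prime] in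
theorem le_of_subpairLE {Q P : Subgroup G}
    {f : Set (IrrCharacter (Subgroup.centralizer (Q : Set G)))}
    {e : Set (IrrCharacter (Subgroup.centralizer (P : Set G)))}
    (h : SubpairLE p M Q f P e) : Q ≤ P := by
  have key : ∀ b : BrauerPairIdx G,
      Relation.ReflTransGen (NormalSubpairRel p M) ⟨Q, f⟩ b → Q ≤ b.1 := by
    intro b hb
    induction hb with
    | refl => exact le_rfl
    | tail _ hstep ih => exact ih.trans hstep.2.2.1
  exact key ⟨P, e⟩ h

/-- The conjugate of a principal block is the principal block. -/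
theorem conjBlock_principal (Q : Subgroup G) (x : G) :
    conjBlock Q x (principalBlock M (Subgroup.centralizer (Q : Set G))) =
      principalBlock M (Subgroup.centralizer
        ((Q.map (MulAut.conj x).toMonoidHom : Subgroup G) : Set G)) := by
  have h1 : ∀ k ∈ Subgroup.centralizer (Q : Set G), x * k * x⁻¹ ∈
      Subgroup.centralizer ((Q.map (MulAut.conj x).toMonoidHom : Subgroup G) : Set G) := by
    rintro k hk _ ⟨q, hq, rfl⟩
    have := hk q hq
    show (MulAut.conj x) q * (x * k * x⁻¹) = x * k * x⁻¹ * (MulAut.conj x) q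
    rw [MulAut.conj_apply]
    calc x * q * x⁻¹ * (x * k * x⁻¹) = x * (q * k) * x⁻¹ := by group
      _ = x * (k * q) * x⁻¹ := by rw [this]
      _ = _ := by group
  have h2 : ∀ k ∈ Subgroup.centralizer
      ((Q.map (MulAut.conj x).toMonoidHom : Subgroup G) : Set G),
      x⁻¹ * k * x ∈ Subgroup.centralizer (Q : Set G) := by
    intro k hk q hq
    have := hk (x * q * x⁻¹) ⟨q, hq, by simp [MulAut.conj_apply]⟩
    calc q * (x⁻¹ * k * x) = x⁻¹ * ((x * q * x⁻¹) * k) * x := by group
      _ = x⁻¹ * (k * (x * q * x⁻¹)) * x := by rw [this]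
      _ = _ := by group
  let e := conjEquiv x h1 h2
  ext ξ'
  constructor
  · rintro ⟨ξ, hξ, hrel⟩
    have : ξ' = irrMap e ξ := by
      apply Subtype.ext
      funext c'
      rw [irrMap_apply]
      apply hrel
      have := coe_conjEquiv x h1 h2 (e.symm c')
      rw [← this]
      show (c' : G) = ((e (e.symm c') : _) : G)
      rw [MulEquiv.apply_symm_apply]
    rw [this]
    exact (irrMap_mem_principalBlock_iff M e ξ).mpr hξ
  · intro hξ'
    refine ⟨irrMap e.symm ξ', (irrMap_mem_principalBlock_iff M e.symm ξ').mpr hξ', ?_⟩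
    intro c c' hcc'
    have : c' = e c := Subtype.ext hcc'
    rw [this, irrMap_apply, MulEquiv.symm_symm]

end Key

end Cfsg.Agent.Helper78
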