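import Cfsg.Agent.Helper78.ModHom
import Cfsg.Agent.Helper77.NormalP
import Cfsg.Agent.Helper16.Induced
import Cfsg.Agent.Helper78.PrincipalPair

/-!
# The Brauer homomorphism and induced blocks from `P C_G(P) ≤ H ≤ N_G(P)`
-/

set_option autoImplicit false
set_option linter.unusedSectionVars false
set_option linter.unusedVariables false

namespace Cfsg.Agent.Helper78

open Cfsg
open scoped ComplexConjugate

universe u

variable {G : Type u} [Group G] [Fintype G] {M : Ideal AlgInt} {p : ℕ}

/-- A class function with values in the local ideal has all central characters in the local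
ideal. -/
theorem omega_memLocalIdeal_of_forall [M.IsPrime] (χ : IrrCharacter G) {d : G → ℂ}
    (hd : IsClassFunction G d) (hdJ : ∀ g, MemLocalIdeal M (d g)) :
    MemLocalIdeal M (Helper16.omega (χ : G → ℂ) d) := by
  classical
  rw [Helper16.omega_eq_sum_classes _ _ (Helper16.irr_isClassFunction χ) hd]
  exact Helper16.memLocalIdeal_sum _ _ (fun C _ => Helper16.memLocalIdeal_mul_right (hdJ _)
    (Helper16.memLocalRing_of_isIntegral (Helper16.irr_isIntegral_centralChar χ _)))

/-- If `P` is a normal `p`-subgroup, a local-integer valued class function vanishing on `C_G(P)`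
has all its central characters in the local ideal. -/
theorem omega_memLocalIdeal_of_vanish_centralizer [Fact p.Prime] (hM : IsPModular p M)
    (P : Subgroup G) [P.Normal] (hP : IsPGroup p P) (χ : IrrCharacter G) {d : G → ℂ}
    (hd : IsZS M d) (h0 : ∀ g ∈ Subgroup.centralizer (P : Set G), d g = 0) :
    MemLocalIdeal M (Helper16.omega (χ : G → ℂ) d) := by
  classical
  have : M.IsPrime := isPrime_of_isPModular hM
  rw [Helper16.omega_eq_sum_classes _ _ (Helper16.irr_isClassFunction χ) hd.1]
  refine Helper16.memLocalIdeal_sum _ _ (fun C _ => ?_)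
  by_cases hc : Helper16.classRep C ∈ Subgroup.centralizer (P : Set G)
  · rw [h0 _ hc, zero_mul]; exact Helper16.memLocalIdeal_zero
  · exact Helper16.memLocalIdeal_mul_left (hd.2 _)
      (Helper77.centralChar_memLocalIdeal_of_not_mem_centralizer hM P hP _ hc χ)

section BrRes

variable (P H : Subgroup G)

/-- The Brauer restriction: truncate a function on `G` to `C_G(P)`, read as a function on `H`. -/
noncomputable def brRes (t : G → ℂ) : H → ℂ := by
  classical exact fun h => if (h : G) ∈ Subgroup.centralizer (P : Set G) then t h else 0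

theorem brRes_of_mem (t : G → ℂ) {h : H} (hh : (h : G) ∈ Subgroup.centralizer (P : Set G)) :
    brRes P H t h = t h := by
  unfold brRes; exact if_pos hh

theorem brRes_of_not_mem (t : G → ℂ) {h : H} (hh : (h : G) ∉ Subgroup.centralizer (P : Set G)) :
    brRes P H t h = 0 := by
  unfold brRes; exact if_neg hh

theorem brRes_add (s t : G → ℂ) : brRes P H (s + t) = brRes P H s + brRes P H t := by
  funext h
  by_cases hh : (h : G) ∈ Subgroup.centralizer (P : Set G)
  · simp only [Pi.add_apply, brRes_of_mem P H _ hh]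
  · simp only [Pi.add_apply, brRes_of_not_mem P H _ hh, add_zero]

theorem brRes_smul (c : ℂ) (t : G → ℂ) : brRes P H (c • t) = c • brRes P H t := by
  funext h
  by_cases hh : (h : G) ∈ Subgroup.centralizer (P : Set G)
  · simp only [Pi.smul_apply, brRes_of_mem P H _ hh]
  · simp only [Pi.smul_apply, brRes_of_not_mem P H _ hh, smul_zero]

variable {P H}

theorem conj_mem_centralizer_iff_of_le_normalizer (hHN : H ≤ Subgroup.normalizer (P : Set G))
    (k : H) (x : G) : (k : G) * x * (k : G)⁻¹ ∈ Subgroup.centralizer (P : Set G) ↔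
      x ∈ Subgroup.centralizer (P : Set G) :=
  ((Subgroup.mem_normalizer_iff.mp (normalizer_le_normalizer_centralizer P (hHN k.2))) x).symm

theorem isZS_brRes [M.IsPrime] (hHN : H ≤ Subgroup.normalizer (P : Set G)) {t : G → ℂ}
    (ht : IsZS M t) : IsZS M (brRes P H t) := by
  refine ⟨fun h k => ?_, fun h => ?_⟩
  · have hiff := conj_mem_centralizer_iff_of_le_normalizer hHN k (h : G)
    by_cases hh : (h : G) ∈ Subgroup.centralizer (P : Set G)
    · have hh' : ((k * h * k⁻¹ : H) : G) ∈ Subgroup.centralizer (P : Set G) := by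
        simpa using hiff.mpr hh
      rw [brRes_of_mem P H _ hh, brRes_of_mem P H _ hh']
      simpa using ht.1 (h : G) (k : G)
    · have hh' : ((k * h * k⁻¹ : H) : G) ∉ Subgroup.centralizer (P : Set G) := by
        intro h'
        exact hh (hiff.mp (by simpa using h'))
      rw [brRes_of_not_mem P H _ hh, brRes_of_not_mem P H _ hh']
  · by_cases hh : (h : G) ∈ Subgroup.centralizer (P : Set G)
    · rw [brRes_of_mem P H _ hh]; exact ht.2 _
    · rw [brRes_of_not_mem P H _ hh]; exact Helper16.memLocalRing_zero

theorem brRes_deltaOne : brRes P H (Helper16.deltaOne : G → ℂ) = (Helper16.deltaOne : H → ℂ) := by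
  classical
  funext h
  unfold Helper16.deltaOne
  by_cases h1 : h = 1
  · subst h1
    rw [brRes_of_mem P H _ (by simp)]
    simp
  · rw [if_neg h1]
    have h1' : (h : G) ≠ 1 := fun hh => h1 (Subtype.ext hh)
    by_cases hh : (h : G) ∈ Subgroup.centralizer (P : Set G)
    · rw [brRes_of_mem P H _ hh, if_neg h1']
    · rw [brRes_of_not_mem P H _ hh]

/-- The Brauer restriction is multiplicative modulo the local ideal. -/
theorem brRes_conv_sub_mem [Fact p.Prime] (hM : IsPModular p M) (hP : IsPGroup p P)
    (hCH : Subgroup.centralizer (P : Set G) ≤ H) (hHN : H ≤ Subgroup.normalizer (P : Set G))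
    [Fintype H] {s t : G → ℂ} (hs : IsZS M s) (ht : IsZS M t) (h : H) :
    MemLocalIdeal M (brRes P H (Helper16.conv s t) h -
      Helper16.conv (brRes P H s) (brRes P H t) h) := by
  classical
  have hMp : M.IsPrime := isPrime_of_isPModular hM
  by_cases hh : (h : G) ∈ Subgroup.centralizer (P : Set G)
  · -- main case
    set c : G := (h : G) with hc
    let F : G → ℂ := fun x => if x ∈ Subgroup.centralizer (P : Set G) then s x * t (x⁻¹ * c) else 0
    have e1 : Helper16.conv (brRes P H s) (brRes P H t) h = ∑ x : G, F x := by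
      unfold Helper16.conv
      have e2 : ∀ x : H, brRes P H s x * brRes P H t (x⁻¹ * h) = F (x : G) := by
        intro x
        by_cases hx : (x : G) ∈ Subgroup.centralizer (P : Set G)
        · have hx' : ((x⁻¹ * h : H) : G) ∈ Subgroup.centralizer (P : Set G) := by
            simpa using mul_mem (inv_mem hx) hh
          rw [brRes_of_mem P H _ hx, brRes_of_mem P H _ hx']
          show _ = if (x : G) ∈ Subgroup.centralizer (P : Set G) then _ else _
          rw [if_pos hx]
          simp [hc]
        · rw [brRes_of_not_mem P H _ hx, zero_mul]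
          show _ = if (x : G) ∈ Subgroup.centralizer (P : Set G) then _ else _
          rw [if_neg hx]
      rw [Finset.sum_congr rfl (fun x _ => e2 x)]
      rw [← Finset.sum_subtype (p := fun g => g ∈ H) (Finset.univ.filter (· ∈ H)) (by simp) F]
      apply Finset.sum_subset (Finset.filter_subset _ _)
      intro x _ hx
      simp only [Finset.mem_filter, Finset.mem_univ, true_and] at hx
      show (if x ∈ Subgroup.centralizer (P : Set G) then _ else _) = _
      rw [if_neg (fun hxC => hx (hCH hxC))]
    rw [brRes_of_mem P H _ hh, e1]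
    unfold Helper16.conv
    rw [← Finset.sum_sub_distrib]
    let _ : MulAction P G := Helper16.conjActionOn P
    refine Helper16.memLocalIdeal_sum_of_pgroup_action (M := M) hM.2.2 hP _ ?_ ?_ ?_
    · intro x
      show MemLocalRing M (s x * t (x⁻¹ * c) -
        if x ∈ Subgroup.centralizer (P : Set G) then s x * t (x⁻¹ * c) else 0)
      split_ifs
      · rw [sub_self]; exact Helper16.memLocalRing_zero
      · rw [sub_zero]; exact Helper16.memLocalRing_mul (hs.2 _) (ht.2 _)
    · intro u x
      show s ((u : G) * x * (u : G)⁻¹) * t (((u : G) * x * (u : G)⁻¹)⁻¹ * c) -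
          (if (u : G) * x * (u : G)⁻¹ ∈ Subgroup.centralizer (P : Set G) then
            s ((u : G) * x * (u : G)⁻¹) * t (((u : G) * x * (u : G)⁻¹)⁻¹ * c) else 0) =
        s x * t (x⁻¹ * c) - (if x ∈ Subgroup.centralizer (P : Set G) then s x * t (x⁻¹ * c) else 0)
      have h1 : s ((u : G) * x * (u : G)⁻¹) = s x := hs.1 x u
      have h2 : t (((u : G) * x * (u : G)⁻¹)⁻¹ * c) = t (x⁻¹ * c) := by
        have hcu : (u : G) * c * (u : G)⁻¹ = c := conj_eq_of_mem_centralizer u.2 hh
        have : ((u : G) * x * (u : G)⁻¹)⁻¹ * c = (u : G) * (x⁻¹ * c) * (u : G)⁻¹ := by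
          calc ((u : G) * x * (u : G)⁻¹)⁻¹ * c
              = (u : G) * x⁻¹ * (u : G)⁻¹ * ((u : G) * c * (u : G)⁻¹) := by rw [hcu]; group
            _ = _ := by group
        rw [this]; exact ht.1 _ u
      rw [h1, h2]
      simp only [conj_mem_centralizer_iff u.2]
    · intro x hx
      have hxC : x ∈ Subgroup.centralizer (P : Set G) := by
        intro r hr
        have h' : r * x * r⁻¹ = x := hx ⟨r, hr⟩
        calc r * x = r * x * r⁻¹ * r := by group
          _ = x * r := by rw [h']
      show MemLocalIdeal M (s x * t (x⁻¹ * c) -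
        if x ∈ Subgroup.centralizer (P : Set G) then s x * t (x⁻¹ * c) else 0)
      rw [if_pos hxC, sub_self]
      exact Helper16.memLocalIdeal_zero
  · rw [brRes_of_not_mem P H _ hh, zero_sub]
    have : Helper16.conv (brRes P H s) (brRes P H t) h = 0 := by
      unfold Helper16.conv
      apply Finset.sum_eq_zero
      intro x _
      by_cases hx : (x : G) ∈ Subgroup.centralizer (P : Set G)
      · have hx' : ((x⁻¹ * h : H) : G) ∉ Subgroup.centralizer (P : Set G) := by
          intro h'
          apply hh
          have := mul_mem hx h'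
          simpa using this
        rw [brRes_of_not_mem P H _ hx', mul_zero]
      · rw [brRes_of_not_mem P H _ hx, zero_mul]
    rw [this, neg_zero]
    exact Helper16.memLocalIdeal_zero

theorem brauerCentralChar_eq_omega [Fintype H] (ξ : H → ℂ) (g : G) :
    brauerCentralChar P H ξ g = Helper16.omega ξ (brRes P H (Helper16.classInd g)) := by
  classical
  unfold brauerCentralChar Helper16.omega
  have hfin : ({h : H | IsConj g (h : G) ∧ (h : G) ∈ Subgroup.centralizer (P : Set G)} :
      Set H).Finite := Set.toFinite _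
  rw [finsum_mem_eq_finite_toFinset_sum _ hfin, Finset.sum_div]
  have hset : hfin.toFinset = (Finset.univ : Finset H).filter
      (fun h : H => IsConj g (h : G) ∧ (h : G) ∈ Subgroup.centralizer (P : Set G)) := by
    ext h
    simp
  rw [hset, Finset.sum_filter]
  refine Finset.sum_congr rfl (fun h _ => ?_)
  by_cases hh : (h : G) ∈ Subgroup.centralizer (P : Set G)
  · rw [brRes_of_mem P H _ hh]
    unfold Helper16.classInd
    by_cases hc : IsConj g (h : G)
    · rw [if_pos ⟨hc, hh⟩, if_pos hc, one_mul]
    · rw [if_neg (fun h' => hc h'.1), if_neg hc, zero_mul, zero_div]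
  · rw [brRes_of_not_mem P H _ hh, if_neg (fun h' => hh h'.2), zero_mul, zero_div]

theorem isZS_classInd [M.IsPrime] (g : G) : IsZS M (Helper16.classInd g) := by
  classical
  refine ⟨Helper16.isClassFunction_classInd g, fun x => ?_⟩
  unfold Helper16.classInd
  split_ifs
  · exact Helper16.memLocalRing_one
  · exact Helper16.memLocalRing_zero

/-- `t ↦ ω_ξ(Br_P t)` is a ring homomorphism modulo the local ideal. -/
theorem isModHom_brauer [Fact p.Prime] (hM : IsPModular p M) (hP : IsPGroup p P)
    (hCH : Subgroup.centralizer (P : Set G) ≤ H) (hHN : H ≤ Subgroup.normalizer (P : Set G))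
    [Fintype H] (ξ : IrrCharacter H) :
    IsModHom M (fun t : G → ℂ => Helper16.omega (ξ : H → ℂ) (brRes P H t)) := by
  have hMp : M.IsPrime := isPrime_of_isPModular hM
  refine ⟨fun s t => ?_, fun c t => ?_, fun t ht => ?_, fun s t hs ht => ?_, ?_⟩
  · show Helper16.omega _ (brRes P H (s + t)) = _
    rw [brRes_add, Helper16.omega_add]
  · show Helper16.omega _ (brRes P H (c • t)) = _
    rw [brRes_smul, Helper16.omega_smul]
  · exact Helper16.omega_memLocalRing ξ (isZS_brRes hHN ht).1 (isZS_brRes hHN ht).2
  · show MemLocalIdeal M (Helper16.omega _ (brRes P H (Helper16.conv s t)) -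
      Helper16.omega _ (brRes P H s) * Helper16.omega _ (brRes P H t))
    have hs' := isZS_brRes (M := M) hHN hs
    have ht' := isZS_brRes (M := M) hHN ht
    rw [← Helper16.irr_omega_conv ξ hs'.1 ht'.1, ← Helper16.omega_sub]
    refine omega_memLocalIdeal_of_forall ξ ?_ (fun h => brRes_conv_sub_mem hM hP hCH hHN hs ht h)
    exact ((isZS_brRes (M := M) hHN (hs.conv ht)).sub (hs'.conv ht')).1
  · show MemLocalIdeal M (Helper16.omega _ (brRes P H Helper16.deltaOne) - 1)
    rw [brRes_deltaOne, Helper16.omega_deltaOne _ (Helper16.irr_one_ne_zero ξ), sub_self]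
    exact Helper16.memLocalIdeal_zero

/-- For `C_G(P) ≤ H ≤ N_G(P)` and `ξ ∈ Irr(H)`, some irreducible character of `G` has central
character congruent to `ω_ξ ∘ Br_P`. -/
theorem exists_irr_brauerCentralChar [Fact p.Prime] (hM : IsPModular p M) (hP : IsPGroup p P)
    (hCH : Subgroup.centralizer (P : Set G) ≤ H) (hHN : H ≤ Subgroup.normalizer (P : Set G))
    (ξ : IrrCharacter H) :
    ∃ χ : IrrCharacter G, ∀ g : G,
      MemLocalIdeal M (brauerCentralChar P H (ξ : H → ℂ) g - centralChar (χ : G → ℂ) g) := by
  classical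
  have hMp : M.IsPrime := isPrime_of_isPModular hM
  obtain ⟨χ, hχ⟩ := (isModHom_brauer hM hP hCH hHN ξ).exists_irr
  refine ⟨χ, fun g => ?_⟩
  have := hχ _ (isZS_classInd (M := M) g)
  rw [Helper16.omega_classInd _ (Helper16.irr_isClassFunction χ)] at this
  rw [brauerCentralChar_eq_omega]
  exact this

theorem mem_centralizer_subgroupOf_iff (hPH : P ≤ H) (h : H) :
    h ∈ Subgroup.centralizer ((P.subgroupOf H : Subgroup H) : Set H) ↔
      (h : G) ∈ Subgroup.centralizer (P : Set G) := by
  constructor
  · intro hh q hq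
    have := hh ⟨q, hPH hq⟩ (Subgroup.mem_subgroupOf.mpr hq)
    exact congrArg Subtype.val this
  · intro hh q hq
    exact Subtype.ext (hh q (Subgroup.mem_subgroupOf.mp hq))

/-- For `P ≤ H ≤ N_G(P)`, the induced central character and its Brauer truncation agree modulo
the local ideal. -/
theorem inducedCentralChar_sub_brauerCentralChar_mem [Fact p.Prime] (hM : IsPModular p M)
    (hP : IsPGroup p P) (hPH : P ≤ H) (hHN : H ≤ Subgroup.normalizer (P : Set G))
    (ξ : IrrCharacter H) (g : G) :
    MemLocalIdeal M (inducedCentralChar H (ξ : H → ℂ) g - brauerCentralChar P H (ξ : H → ℂ) g) := by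
  classical
  have hMp : M.IsPrime := isPrime_of_isPModular hM
  rw [Helper16.inducedCentralChar_eq_omega, brauerCentralChar_eq_omega, ← Helper16.omega_sub]
  have : (P.subgroupOf H).Normal := (Subgroup.normal_subgroupOf_iff_le_normalizer hPH).mpr hHN
  refine omega_memLocalIdeal_of_vanish_centralizer hM (P.subgroupOf H) hP.comap_subtype ξ ?_ ?_
  · refine IsZS.sub ⟨Helper16.isClassFunction_classIndRes H g, Helper16.classIndRes_memLocalRing H g⟩
      (isZS_brRes hHN (isZS_classInd g))
  · intro h hh
    have hh' := (mem_centralizer_subgroupOf_iff hPH h).mp hh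
    show Helper16.classIndRes H g h - brRes P H (Helper16.classInd g) h = 0
    rw [brRes_of_mem P H _ hh']
    unfold Helper16.classIndRes
    exact sub_self _

/-- For `P C_G(P) ≤ H ≤ N_G(P)` every block of `H` induces a block of `G`. -/
theorem inducedBlockDefined_of_le_normalizer [Fact p.Prime] (hM : IsPModular p M)
    (hP : IsPGroup p P) (hPH : P ≤ H) (hCH : Subgroup.centralizer (P : Set G) ≤ H)
    (hHN : H ≤ Subgroup.normalizer (P : Set G)) (b : Set (IrrCharacter H)) (hb : IsPBlock M b) :
    InducedBlockDefined M H b := by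
  classical
  have hMp : M.IsPrime := isPrime_of_isPModular hM
  obtain ⟨ξ₀, rfl⟩ := hb
  obtain ⟨χ, hχ⟩ := exists_irr_brauerCentralChar hM hP hCH hHN ξ₀
  refine ⟨blockOf M (χ : G → ℂ), ⟨ξ₀, rfl⟩, ⟨χ, rfl⟩, fun ξ hξ χ' hχ' g => ?_⟩
  have a1 := Helper16.inducedCentralChar_sub_memLocalIdeal (M := M) H
    (Helper16.sameBlock_symm (show SameBlock M (ξ₀ : H → ℂ) (ξ : H → ℂ) from hξ)) g
  have a2 := inducedCentralChar_sub_brauerCentralChar_mem hM hP hPH hHN ξ₀ g
  have a3 := hχ g
  have a4 : MemLocalIdeal M (centralChar (χ : G → ℂ) g - centralChar (χ' : G → ℂ) g) := hχ' g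
  have := Helper16.memLocalIdeal_add (Helper16.memLocalIdeal_add (Helper16.memLocalIdeal_add a1 a2) a3) a4
  have e : inducedCentralChar H (ξ : H → ℂ) g - inducedCentralChar H (ξ₀ : H → ℂ) g +
      (inducedCentralChar H (ξ₀ : H → ℂ) g - brauerCentralChar P H (ξ₀ : H → ℂ) g) +
      (brauerCentralChar P H (ξ₀ : H → ℂ) g - centralChar (χ : G → ℂ) g) +
      (centralChar (χ : G → ℂ) g - centralChar (χ' : G → ℂ) g) =
      inducedCentralChar H (ξ : H → ℂ) g - centralChar (χ' : G → ℂ) g := by ring
  rwa [e] at this

/-- Block induction from `P C_G(P) ≤ H ≤ N_G(P)` in terms of the Brauer map. -/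
theorem isInducedBlock_iff_brauerCentralChar [Fact p.Prime] (hM : IsPModular p M)
    (hP : IsPGroup p P) (hPH : P ≤ H) (hHN : H ≤ Subgroup.normalizer (P : Set G))
    (b : Set (IrrCharacter H)) (hb : IsPBlock M b) (B : Set (IrrCharacter G))
    (hB : IsPBlock M B) :
    IsInducedBlock M H b B ↔ ∀ ξ ∈ b, ∀ χ ∈ B, ∀ g : G,
      MemLocalIdeal M (brauerCentralChar P H (ξ : H → ℂ) g - centralChar (χ : G → ℂ) g) := by
  have hMp : M.IsPrime := isPrime_of_isPModular hM
  constructor
  · rintro ⟨-, -, h⟩ ξ hξ χ hχ g
    have a1 := h ξ hξ χ hχ g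
    have a2 := inducedCentralChar_sub_brauerCentralChar_mem hM hP hPH hHN ξ g
    have := Helper16.memLocalIdeal_sub a1 a2
    have e : inducedCentralChar H (ξ : H → ℂ) g - centralChar (χ : G → ℂ) g -
        (inducedCentralChar H (ξ : H → ℂ) g - brauerCentralChar P H (ξ : H → ℂ) g) =
        brauerCentralChar P H (ξ : H → ℂ) g - centralChar (χ : G → ℂ) g := by ring
    rwa [e] at this
  · intro h
    refine ⟨hb, hB, fun ξ hξ χ hχ g => ?_⟩
    have a1 := h ξ hξ χ hχ g
    have a2 := inducedCentralChar_sub_brauerCentralChar_mem hM hP hPH hHN ξ g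
    have := Helper16.memLocalIdeal_add a2 a1
    have e : inducedCentralChar H (ξ : H → ℂ) g - brauerCentralChar P H (ξ : H → ℂ) g +
        (brauerCentralChar P H (ξ : H → ℂ) g - centralChar (χ : G → ℂ) g) =
        inducedCentralChar H (ξ : H → ℂ) g - centralChar (χ : G → ℂ) g := by ring
    rwa [e] at this

end BrRes

end Cfsg.Agent.Helper78
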