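import Cfsg.Agent.Helper78.InducedDefect
import Cfsg.Agent.Helper77.SupportOn
import Cfsg.Agent.S0916
import Cfsg.Agent.S0912
import Cfsg.Agent.Lib.Cores

/-!
# Towards Brauer's First Main Theorem

Class fusion in `N_G(D)` and its consequences for the Brauer map.
-/

set_option autoImplicit false
set_option linter.unusedSectionVars false
set_option linter.unusedVariables false

namespace Cfsg.Agent.Helper78

open Cfsg
open scoped ComplexConjugate

universe u

section

variable {G : Type u} [Group G] [Fintype G] {M : Ideal AlgInt} {p : ℕ}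

/-- Conjugates of defect groups are defect groups. -/
theorem isDefectGroup_map_conj [M.IsPrime] [Fact p.Prime] (χ₀ : IrrCharacter G) {P : Subgroup G}
    (hP : IsDefectGroup p M (blockOf M (χ₀ : G → ℂ)) P) (x : G) :
    IsDefectGroup p M (blockOf M (χ₀ : G → ℂ)) (P.map (MulAut.conj x).toMonoidHom) := by
  rw [Helper16.isDefectGroup_iff] at hP ⊢
  obtain ⟨g, hg, hle, hcard⟩ := hP
  refine ⟨x * g * x⁻¹, Helper16.isDefectClass_of_isConj χ₀ (isConj_iff.mpr ⟨x, rfl⟩) hg, ?_, ?_⟩
  · rintro _ ⟨u, hu, rfl⟩
    have h1 := hle hu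
    rw [Subgroup.mem_centralizer_singleton_iff] at h1 ⊢
    show x * u * x⁻¹ * (x * g * x⁻¹) = x * g * x⁻¹ * (x * u * x⁻¹)
    have h2 : x * (u * g) * x⁻¹ = x * (g * u) * x⁻¹ := by rw [h1]
    simpa [mul_assoc] using h2
  · rw [Subgroup.card_map_of_injective (MulAut.conj x).injective, hcard,
      Helper16.card_centralizer_conj]

/-- The centralizer of `l` in the subgroup `N`, compared with `C_G(l) ⊓ N`. -/
theorem card_centralizer_subgroup (N : Subgroup G) (l : N) :
    Nat.card (Subgroup.centralizer ({l} : Set N)) =
      Nat.card (Subgroup.centralizer ({(l : G)} : Set G) ⊓ N : Subgroup G) := by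
  refine Nat.card_congr ⟨fun u => ⟨(u : N), ?_, (u : N).2⟩, fun v => ⟨⟨v, v.2.2⟩, ?_⟩, ?_, ?_⟩
  · have := u.2
    rw [Subgroup.mem_centralizer_singleton_iff] at this
    show ((u : N) : G) ∈ Subgroup.centralizer ({(l : G)} : Set G)
    rw [Subgroup.mem_centralizer_singleton_iff]
    exact congrArg Subtype.val this
  · have : (v : G) ∈ Subgroup.centralizer ({(l : G)} : Set G) := v.2.1
    rw [Subgroup.mem_centralizer_singleton_iff] at this ⊢
    exact Subtype.ext this
  · intro u; rfl
  · intro v; rfl

variable [Fact p.Prime]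

/-- **Class fusion**: if `D` is (of the order of) a Sylow `p`-subgroup of `C_N(l)`, `N = N_G(D)`,
then the Brauer restriction of the class indicator of `l` in `G` is the class indicator of `l` in
`N`. -/
theorem brRes_classInd_of_sylow (D : Subgroup G) (hD : IsPGroup p D)
    (l : Subgroup.normalizer (D : Set G)) (hle : ∀ u ∈ D, u * (l : G) = (l : G) * u)
    (hcard : Nat.card D = p ^ (Nat.card (Subgroup.centralizer
      ({l} : Set (Subgroup.normalizer (D : Set G))))).factorization p) :
    brRes D (Subgroup.normalizer (D : Set G)) (Helper16.classInd (l : G)) = Helper16.classInd l := by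
  classical
  have hlD : (l : G) ∈ Subgroup.centralizer (D : Set G) := fun u hu => hle u hu
  funext h
  by_cases hh : (h : G) ∈ Subgroup.centralizer (D : Set G)
  · rw [brRes_of_mem _ _ _ hh]
    unfold Helper16.classInd
    have hiff : IsConj (l : G) (h : G) ↔ IsConj l h := by
      constructor
      · intro hc
        -- `D` is a Sylow subgroup of `C_G(l)`
        have hS1 : ∃ S : Sylow p (Subgroup.centralizer ({(l : G)} : Set G) ⊓
            Subgroup.normalizer (D : Set G) : Subgroup G),
            (S : Subgroup ↥(Subgroup.centralizer ({(l : G)} : Set G) ⊓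
              Subgroup.normalizer (D : Set G))).map
              (Subgroup.centralizer ({(l : G)} : Set G) ⊓ Subgroup.normalizer (D : Set G)).subtype
              = D := by
          rw [Helper16.sylowIn_iff]
          refine ⟨fun u hu => ⟨?_, Subgroup.le_normalizer hu⟩, ?_⟩
          · show u ∈ Subgroup.centralizer ({(l : G)} : Set G)
            rw [Subgroup.mem_centralizer_singleton_iff]; exact hle u hu
          · rw [← card_centralizer_subgroup]; exact hcard
        have hS2 := (Cfsg.Agent.S0916.result p D hD).2 (l : G) hlD hS1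
        obtain ⟨n, hn, hnl⟩ := ((Cfsg.Agent.S0916.result p D hD).1 (l : G) hS2).2 (l : G) (h : G)
          (IsConj.refl _) hc hlD hh
        exact isConj_iff.mpr ⟨⟨n, hn⟩, Subtype.ext (by simpa using hnl)⟩
      · intro hc
        obtain ⟨n, hn⟩ := isConj_iff.mp hc
        exact isConj_iff.mpr ⟨(n : G), by rw [← hn]; simp⟩
    by_cases hc : IsConj (l : G) (h : G)
    · rw [if_pos hc, if_pos (hiff.mp hc)]
    · rw [if_neg hc, if_neg (fun h' => hc (hiff.mpr h'))]
  · rw [brRes_of_not_mem _ _ _ hh]
    unfold Helper16.classInd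
    rw [if_neg]
    intro hc
    obtain ⟨n, hn⟩ := isConj_iff.mp hc
    apply hh
    have := (conj_mem_centralizer_iff_of_le_normalizer (P := D)
      (H := Subgroup.normalizer (D : Set G)) le_rfl n (l : G)).mpr hlD
    rw [← hn]
    simpa using this

/-- If `D` is (of the order of) a Sylow `p`-subgroup of `C_N(l)`, `N = N_G(D)`, then it is a Sylow
`p`-subgroup of `C_G(l)`. -/
theorem card_eq_pow_centralizer_of_sylow (D : Subgroup G) (hD : IsPGroup p D)
    (l : Subgroup.normalizer (D : Set G)) (hle : ∀ u ∈ D, u * (l : G) = (l : G) * u)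
    (hcard : Nat.card D = p ^ (Nat.card (Subgroup.centralizer
      ({l} : Set (Subgroup.normalizer (D : Set G))))).factorization p) :
    Nat.card D = p ^ (Nat.card (Subgroup.centralizer ({(l : G)} : Set G))).factorization p := by
  have hlD : (l : G) ∈ Subgroup.centralizer (D : Set G) := fun u hu => hle u hu
  have hS1 : ∃ S : Sylow p (Subgroup.centralizer ({(l : G)} : Set G) ⊓
      Subgroup.normalizer (D : Set G) : Subgroup G),
      (S : Subgroup ↥(Subgroup.centralizer ({(l : G)} : Set G) ⊓
        Subgroup.normalizer (D : Set G))).map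
        (Subgroup.centralizer ({(l : G)} : Set G) ⊓ Subgroup.normalizer (D : Set G)).subtype
        = D := by
    rw [Helper16.sylowIn_iff]
    refine ⟨fun u hu => ⟨?_, Subgroup.le_normalizer hu⟩, ?_⟩
    · show u ∈ Subgroup.centralizer ({(l : G)} : Set G)
      rw [Subgroup.mem_centralizer_singleton_iff]; exact hle u hu
    · rw [← card_centralizer_subgroup]; exact hcard
  have hS2 := (Cfsg.Agent.S0916.result p D hD).2 (l : G) hlD hS1
  exact ((Helper16.sylowIn_iff p _ D).mp hS2).2

/-- Under the hypotheses of `brRes_classInd_of_sylow`, the Brauer central character at `l` is the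
central character at `l`. -/
theorem brauerCentralChar_eq_centralChar_of_sylow (D : Subgroup G) (hD : IsPGroup p D)
    [Fintype (Subgroup.normalizer (D : Set G))]
    (l : Subgroup.normalizer (D : Set G)) (hle : ∀ u ∈ D, u * (l : G) = (l : G) * u)
    (hcard : Nat.card D = p ^ (Nat.card (Subgroup.centralizer
      ({l} : Set (Subgroup.normalizer (D : Set G))))).factorization p)
    (ξ : Subgroup.normalizer (D : Set G) → ℂ)
    (hξ : IsClassFunction (Subgroup.normalizer (D : Set G)) ξ) :
    brauerCentralChar D (Subgroup.normalizer (D : Set G)) ξ (l : G) = centralChar ξ l := by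
  rw [brauerCentralChar_eq_omega, brRes_classInd_of_sylow D hD l hle hcard,
    Helper16.omega_classInd ξ hξ]

/-- If `D` is a normal `p`-subgroup of `N` and the block `b` of `N` has defect group `D`, then every
class on which the block idempotent of `b` does not vanish modulo the ideal has `D` as Sylow
subgroup of its centralizer. -/
theorem sylow_of_blockCoeff_not_mem (hM : IsPModular p M) (D : Subgroup G) (hD : IsPGroup p D)
    (N : Subgroup G) (hDN : D ≤ N) (hnorm : (D.subgroupOf N).Normal)
    (b : Set (IrrCharacter N)) (hb : IsPBlock M b)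
    (hDb : IsDefectGroup p M b (D.subgroupOf N))
    (l : N) (hl : ¬ MemLocalIdeal M (blockCoeff b l)) :
    (∀ u ∈ D, u * (l : G) = (l : G) * u) ∧ Nat.card D = p ^ (Nat.card (Subgroup.centralizer
      ({l} : Set N))).factorization p := by
  classical
  have hMp : M.IsPrime := isPrime_of_isPModular hM
  haveI : Fintype N := Fintype.ofFinite N
  have hDNp : IsPGroup p (D.subgroupOf N) := hD.comap_subtype
  have hcD : Nat.card (D.subgroupOf N) = Nat.card D :=
    Nat.card_congr (Subgroup.subgroupOfEquivOfLe hDN).toEquiv
  -- `l` centralizes `D`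
  have hlc : l ∈ Subgroup.centralizer ((D.subgroupOf N : Subgroup N) : Set N) := by
    by_contra hcon
    apply hl
    rw [Helper77.blockCoeff_eq_zero_of_not_mem_centralizer hM (D.subgroupOf N) hDNp hb l hcon]
    exact Helper16.memLocalIdeal_zero
  have hle : ∀ u ∈ D, u * (l : G) = (l : G) * u := by
    intro u hu
    have := hlc ⟨u, hDN hu⟩ (Subgroup.mem_subgroupOf.mpr hu)
    exact congrArg Subtype.val this
  refine ⟨hle, ?_⟩
  have hDle : D.subgroupOf N ≤ Subgroup.centralizer ({l} : Set N) := by
    intro u hu
    rw [Subgroup.mem_centralizer_singleton_iff]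
    exact hlc u hu
  -- upper bound
  have hup : Nat.card (D.subgroupOf N) ≤
      p ^ (Nat.card (Subgroup.centralizer ({l} : Set N))).factorization p := by
    have hp' : IsPGroup p ((D.subgroupOf N).subgroupOf (Subgroup.centralizer ({l} : Set N))) :=
      hDNp.comap_subtype
    obtain ⟨Q', hQ'⟩ := hp'.exists_le_sylow
    rw [← Q'.card_eq_multiplicity]
    have e : Nat.card ((D.subgroupOf N).subgroupOf (Subgroup.centralizer ({l} : Set N))) =
        Nat.card (D.subgroupOf N) :=
      Nat.card_congr (Subgroup.subgroupOfEquivOfLe hDle).toEquiv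
    rw [← e]
    exact Subgroup.card_le_of_le hQ'
  -- lower bound from the min-max theorem
  obtain ⟨l₀, hl₀, Q₀, hQ₀⟩ := hDb
  obtain ⟨x, Q, hQ⟩ := (Cfsg.Agent.S0911.result p M hM b hb l₀ hl₀ Q₀ l).1
    (Helper16.osima hb l) hl
  have hlow : p ^ (Nat.card (Subgroup.centralizer ({l} : Set N))).factorization p ≤
      Nat.card (D.subgroupOf N) := by
    rw [← Q.card_eq_multiplicity]
    have h1 := Subgroup.card_le_of_le hQ
    rw [Subgroup.card_map_of_injective (Subgroup.subtype_injective _),
      Subgroup.card_map_of_injective (MulAut.conj x).injective, ← hQ₀] at h1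
    exact h1
  rw [← hcD]
  exact le_antisymm hup hlow

end

end Cfsg.Agent.Helper78
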