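import Cfsg.Agent.Helper78.FongMax
import Cfsg.Agent.Helper78.BrauerHom
import Cfsg.Agent.S0920

/-!
# The extended first main theorem

`P` a `p`-subgroup, `H = P C_G(P)`, `b` a block of `H` with defect group `P`, `T` the stabilizer of
`b` in `N_G(P)`.  Then `b^G` has defect group `P` iff `p ∤ |T : H|`.
-/

set_option autoImplicit false
set_option linter.unusedSectionVars false
set_option linter.unusedVariables false

namespace Cfsg.Agent.Helper78

open Cfsg
open scoped ComplexConjugate

universe u

section Constituent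

variable {G : Type u} [Group G] [Fintype G]
variable (N : Subgroup G) [hN : N.Normal] [Fintype N]

/-- For `χ` over `θ` and a `G`-invariant function `f` on `N`: `ω_χ(f) = ω_θ(f)`. -/
theorem omega_extendByZero_of_constituent (χ : IrrCharacter G) (θ : IrrCharacter N)
    (h : classInner (fun n : N => (χ : G → ℂ) n) (θ : N → ℂ) ≠ 0) {f : N → ℂ}
    (hf : ∀ (g : G) (n : N), f ⟨g * n * g⁻¹, hN.conj_mem (n : G) n.2 g⟩ = f n) :
    Helper16.omega (χ : G → ℂ) (extendByZero N f) = Helper16.omega (θ : N → ℂ) f := by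
  classical
  obtain ⟨c, hc⟩ := Helper16.restrict_eq_smul_conjSum N χ.2 θ.2 h
  have hχ1 := Helper16.irr_one_ne_zero χ
  have hθ1 := Helper16.irr_one_ne_zero θ
  have hG0 : (Nat.card G : ℂ) ≠ 0 := by
    have : 0 < Nat.card G := Nat.card_pos
    exact_mod_cast this.ne'
  have h1 : (χ : G → ℂ) 1 = c * ((Nat.card G : ℂ) * (θ : N → ℂ) 1) := by
    have := hc 1
    rw [Helper16.conjSum_one] at this
    exact_mod_cast this
  have hc0 : c ≠ 0 := by
    rintro rfl
    rw [zero_mul] at h1
    exact hχ1 h1
  have key : ∑ n : N, f n * Helper16.conjSum N (θ : N → ℂ) n =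
      (Nat.card G : ℂ) * ∑ n : N, f n * (θ : N → ℂ) n := by
    simp_rw [Helper16.conjSum_apply, Finset.mul_sum]
    rw [Finset.sum_comm]
    have : ∀ g : G, ∑ n : N, f n * Helper15.conjFun N g (θ : N → ℂ) n =
        ∑ n : N, f n * (θ : N → ℂ) n := by
      intro g
      apply Fintype.sum_equiv (MulAut.conjNormal g : N ≃* N).toEquiv
      intro n
      have e2 : (MulAut.conjNormal g : N ≃* N) n =
          ⟨g * (n : G) * g⁻¹, hN.conj_mem (n : G) n.2 g⟩ :=
        Subtype.ext (MulAut.conjNormal_apply g n)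
      show _ = f ((MulAut.conjNormal g : N ≃* N) n) * (θ : N → ℂ) ((MulAut.conjNormal g : N ≃* N) n)
      rw [e2, hf, Helper15.conjFun_apply]
    rw [Finset.sum_congr rfl (fun g _ => this g), Finset.sum_const, Finset.card_univ,
      nsmul_eq_mul, Nat.card_eq_fintype_card]
    rw [Finset.mul_sum]
  rw [Helper16.omega_extendByZero]
  unfold Helper16.omega
  have h2 : ∑ n : N, f n * (χ : G → ℂ) n = c * ∑ n : N, f n * Helper16.conjSum N (θ : N → ℂ) n := by
    rw [Finset.mul_sum]
    refine Finset.sum_congr rfl (fun n _ => ?_)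
    rw [hc n]
    ring
  rw [h2, key, h1]
  field_simp

end Constituent

section Normalizer

variable {G : Type u} [Group G] [Fintype G] {M : Ideal AlgInt} {p : ℕ}

/-- If `C_G(P) ≤ H ⊴ N_G(P)` and the block `b` of `H` induces the block `B` of `G`, then every
block of `N_G(P)` covering `b` induces `B`. -/
theorem isInducedBlock_of_covering_normalizer [Fact p.Prime] (hM : IsPModular p M)
    (P : Subgroup G) (hP : IsPGroup p P) (H : Subgroup G) [Fintype H]
    (hCH : Subgroup.centralizer (P : Set G) ≤ H)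
    (hHN : H ≤ Subgroup.normalizer (P : Set G))
    [Fintype (Subgroup.normalizer (P : Set G))]
    [Fintype (H.subgroupOf (Subgroup.normalizer (P : Set G)))]
    [hnorm : (H.subgroupOf (Subgroup.normalizer (P : Set G))).Normal]
    (b : Set (IrrCharacter H)) (B : Set (IrrCharacter G)) (hind : IsInducedBlock M H b B)
    (B₁ : Set (IrrCharacter (Subgroup.normalizer (P : Set G)))) (hB₁ : IsPBlock M B₁)
    (χ₁ : IrrCharacter (Subgroup.normalizer (P : Set G))) (hχ₁ : χ₁ ∈ B₁)
    (θ : IrrCharacter H) (hθ : θ ∈ b)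
    (hcov : classInner (fun h' : H.subgroupOf (Subgroup.normalizer (P : Set G)) =>
        (χ₁ : Subgroup.normalizer (P : Set G) → ℂ) h')
      ((irrMap (Subgroup.subgroupOfEquivOfLe hHN).symm θ :
        IrrCharacter (H.subgroupOf (Subgroup.normalizer (P : Set G)))) :
          H.subgroupOf (Subgroup.normalizer (P : Set G)) → ℂ) ≠ 0) :
    IsInducedBlock M (Subgroup.normalizer (P : Set G)) B₁ B := by
  classical
  have hMp : M.IsPrime := hM.2.1.isPrime
  let e : H.subgroupOf (Subgroup.normalizer (P : Set G)) ≃* H := Subgroup.subgroupOfEquivOfLe hHN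
  haveI : (P.subgroupOf (Subgroup.normalizer (P : Set G))).Normal := Subgroup.normal_in_normalizer
  have hPX : IsPGroup p (P.subgroupOf (Subgroup.normalizer (P : Set G))) := hP.comap_subtype
  refine ⟨hB₁, hind.2.1, fun ξ hξ χ hχ g => ?_⟩
  let s : Subgroup.normalizer (P : Set G) → ℂ :=
    Helper16.classIndRes (Subgroup.normalizer (P : Set G)) g
  have hscf : IsClassFunction (Subgroup.normalizer (P : Set G)) s :=
    Helper16.isClassFunction_classIndRes _ g
  have hsS : ∀ n, MemLocalRing M (s n) := Helper16.classIndRes_memLocalRing _ g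
  let f : H.subgroupOf (Subgroup.normalizer (P : Set G)) → ℂ := fun h' => s h'
  have hf : ∀ (x : Subgroup.normalizer (P : Set G))
      (n : H.subgroupOf (Subgroup.normalizer (P : Set G))),
      f ⟨x * n * x⁻¹, hnorm.conj_mem n n.2 x⟩ = f n := fun x n => hscf n x
  let s₁ : Subgroup.normalizer (P : Set G) → ℂ :=
    extendByZero (H.subgroupOf (Subgroup.normalizer (P : Set G))) f
  have hs₁cf : IsClassFunction (Subgroup.normalizer (P : Set G)) s₁ :=
    Helper16.isClassFunction_extendByZero _ hf
  have hs₁S : ∀ n, MemLocalRing M (s₁ n) :=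
    Helper16.memLocalRing_extendByZero _ (fun n => hsS n)
  have hs₂ : IsZS M (s - s₁) := by
    refine ⟨fun x y => ?_, fun n => Helper16.memLocalRing_sub (hsS n) (hs₁S n)⟩
    show s (y * x * y⁻¹) - s₁ (y * x * y⁻¹) = s x - s₁ x
    rw [hscf x y, hs₁cf x y]
  have hs₂0 : ∀ n ∈ Subgroup.centralizer
      ((P.subgroupOf (Subgroup.normalizer (P : Set G)) : Subgroup _) : Set _), (s - s₁) n = 0 := by
    intro n hn
    have hnH : n ∈ H.subgroupOf (Subgroup.normalizer (P : Set G)) := by
      apply hCH
      intro y hy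
      have := hn ⟨y, Subgroup.le_normalizer hy⟩ hy
      exact congrArg Subtype.val this
    show s n - s₁ n = 0
    have : s₁ n = f ⟨n, hnH⟩ := Helper15.extendByZero_of_mem _ f hnH
    rw [this]
    exact sub_self _
  have h2 : MemLocalIdeal M (Helper16.omega (ξ : _ → ℂ) (s - s₁)) :=
    omega_memLocalIdeal_of_vanish_centralizer hM _ hPX ξ hs₂ hs₂0
  have h1 : MemLocalIdeal M (Helper16.omega (ξ : _ → ℂ) s₁ - Helper16.omega (χ₁ : _ → ℂ) s₁) :=
    Helper16.omega_sub_memLocalIdeal (sameBlock_of_mem_of_mem hMp hB₁ hξ hχ₁) hs₁cf hs₁S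
  have h3 : Helper16.omega (χ₁ : _ → ℂ) s₁ = inducedCentralChar H (θ : H → ℂ) g := by
    rw [omega_extendByZero_of_constituent _ χ₁ (irrMap e.symm θ) hcov hf,
      Helper16.inducedCentralChar_eq_omega]
    unfold Helper16.omega
    congr 1
    exact Fintype.sum_equiv e.toEquiv _ _ (fun h' => rfl)
  have h4 := hind.2.2 θ hθ χ hχ g
  have h5 : inducedCentralChar (Subgroup.normalizer (P : Set G)) (ξ : _ → ℂ) g -
      centralChar (χ : G → ℂ) g =
      (Helper16.omega (ξ : _ → ℂ) s₁ - Helper16.omega (χ₁ : _ → ℂ) s₁) +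
      Helper16.omega (ξ : _ → ℂ) (s - s₁) +
      (inducedCentralChar H (θ : H → ℂ) g - centralChar (χ : G → ℂ) g) := by
    have h6 : inducedCentralChar (Subgroup.normalizer (P : Set G))
        (ξ : Subgroup.normalizer (P : Set G) → ℂ) g =
        Helper16.omega (ξ : Subgroup.normalizer (P : Set G) → ℂ) s :=
      Helper16.inducedCentralChar_eq_omega _ _ g
    rw [h6, Helper16.omega_sub, h3]
    ring
  rw [h5]
  exact Helper16.memLocalIdeal_add (Helper16.memLocalIdeal_add h1 h2) h4

end Normalizer

section NormalP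

variable {X : Type u} [Group X] [Fintype X] {M : Ideal AlgInt} {p : ℕ}

/-- A normal `p`-subgroup is contained in every defect group of every block. -/
theorem normal_pGroup_le_defectGroup [Fact p.Prime] (hM : IsPModular p M)
    (Q : Subgroup X) [hQn : Q.Normal] (hQ : IsPGroup p Q) {B₁ : Set (IrrCharacter X)}
    (hB₁ : IsPBlock M B₁) {D : Subgroup X} (hD : IsDefectGroup p M B₁ D) : Q ≤ D := by
  have hMp : M.IsPrime := hM.2.1.isPrime
  obtain ⟨y, hy, S, rfl⟩ := hD
  obtain ⟨χ, hχ⟩ := isPBlock_nonempty hMp hB₁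
  have hyC : y ∈ Subgroup.centralizer (Q : Set X) := by
    by_contra hcon
    exact hy.2.2 χ hχ (Helper77.centralChar_memLocalIdeal_of_not_mem_centralizer hM Q hQ y hcon χ)
  have hQC : Q ≤ Subgroup.centralizer ({y} : Set X) := by
    intro q hq
    rw [Subgroup.mem_centralizer_singleton_iff]
    exact hyC q hq
  haveI : (Q.subgroupOf (Subgroup.centralizer ({y} : Set X))).Normal := hQn.subgroupOf _
  have hQ' : IsPGroup p (Q.subgroupOf (Subgroup.centralizer ({y} : Set X))) := hQ.comap_subtype
  have hle := hQ'.le_sylow_of_normal S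
  intro q hq
  exact ⟨⟨q, hQC hq⟩, hle hq, rfl⟩

end NormalP

section Main

variable {G : Type u} [Group G] [Fintype G]

/-- `P C_G(P)` is normal in `N_G(P)`. -/
theorem normal_sup_centralizer_subgroupOf_normalizer (P H : Subgroup G)
    (hH : H = P ⊔ Subgroup.centralizer (P : Set G)) :
    (H.subgroupOf (Subgroup.normalizer (P : Set G))).Normal := by
  refine ⟨fun n hn x => ?_⟩
  rw [Subgroup.mem_subgroupOf] at hn ⊢
  have hx := x.2
  have hle : H ≤ H.comap (MulAut.conj (x : G)).toMonoidHom := by
    conv_lhs => rw [hH]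
    apply sup_le
    · intro y hy
      rw [Subgroup.mem_comap, hH]
      apply Subgroup.mem_sup_left
      show (x : G) * y * (x : G)⁻¹ ∈ P
      exact (Subgroup.mem_normalizer_iff.mp hx y).mp hy
    · intro c hc
      rw [Subgroup.mem_comap, hH]
      apply Subgroup.mem_sup_right
      show (x : G) * c * (x : G)⁻¹ ∈ Subgroup.centralizer (P : Set G)
      rw [Subgroup.mem_centralizer_iff]
      intro y hy
      have hy' : (x : G)⁻¹ * y * (x : G) ∈ P := by
        have := (Subgroup.mem_normalizer_iff.mp (Subgroup.inv_mem _ hx) y).mp hy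
        simpa using this
      have h1 := (Subgroup.mem_centralizer_iff.mp hc) _ hy'
      calc y * ((x : G) * c * (x : G)⁻¹)
          = (x : G) * (((x : G)⁻¹ * y * (x : G)) * c) * (x : G)⁻¹ := by group
        _ = (x : G) * (c * ((x : G)⁻¹ * y * (x : G))) * (x : G)⁻¹ := by rw [h1]
        _ = (x : G) * c * (x : G)⁻¹ * y := by group
  have := hle hn
  rw [Subgroup.mem_comap] at this
  simpa using this

/-- **Extended first main theorem.** -/
theorem ext_first_main (p : ℕ) [Fact p.Prime] (M : Ideal AlgInt) (hM : IsPModular p M)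
    (P : Subgroup G) (hP : IsPGroup p P) (H : Subgroup G) [Fintype H]
    (hH : H = P ⊔ Subgroup.centralizer (P : Set G)) (b : Set (IrrCharacter H))
    (hb : IsPBlock M b) (hbP : IsDefectGroup p M b (P.subgroupOf H))
    (B : Set (IrrCharacter G)) (hind : IsInducedBlock M H b B) (T : Subgroup G)
    (hT : ∀ g : G, g ∈ T ↔ (g ∈ Subgroup.normalizer (P : Set G) ∧ ∀ θ ∈ b,
      ∀ θ' : IrrCharacter H, (∀ h h' : H, (h' : G) = g * h * g⁻¹ →
        (θ' : H → ℂ) h' = (θ : H → ℂ) h) → θ' ∈ b)) :
    IsDefectGroup p M B P ↔ ¬ p ∣ H.relIndex T := by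
  classical
  have hMp : M.IsPrime := hM.2.1.isPrime
  have hp : p.Prime := Fact.out
  haveI : Fintype (Subgroup.normalizer (P : Set G)) := Fintype.ofFinite _
  haveI : Fintype (H.subgroupOf (Subgroup.normalizer (P : Set G))) := Fintype.ofFinite _
  haveI : Fintype (T.subgroupOf (Subgroup.normalizer (P : Set G))) := Fintype.ofFinite _
  have hPH : P ≤ H := hH ▸ le_sup_left
  have hCH : Subgroup.centralizer (P : Set G) ≤ H := hH ▸ le_sup_right
  have hHN : H ≤ Subgroup.normalizer (P : Set G) := by
    rw [hH]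
    exact sup_le Subgroup.le_normalizer (Subgroup.centralizer_le_normalizer _)
  haveI hnorm : (H.subgroupOf (Subgroup.normalizer (P : Set G))).Normal :=
    normal_sup_centralizer_subgroupOf_normalizer P H hH
  have hTN : T ≤ Subgroup.normalizer (P : Set G) := fun g hg => ((hT g).mp hg).1
  let e : H.subgroupOf (Subgroup.normalizer (P : Set G)) ≃* H := Subgroup.subgroupOfEquivOfLe hHN
  -- the block of `H` inside `N_G(P)`
  let bX : Set (IrrCharacter (H.subgroupOf (Subgroup.normalizer (P : Set G)))) :=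
    {θ' | irrMap e θ' ∈ b}
  have hbXeq : bX = irrMap e.symm '' b := by
    ext θ'
    constructor
    · intro h
      exact ⟨irrMap e θ', h, irrMap_symm_irrMap e θ'⟩
    · rintro ⟨θ, hθ, rfl⟩
      show irrMap e (irrMap e.symm θ) ∈ b
      rw [irrMap_irrMap_symm]
      exact hθ
  have hbX : IsPBlock M bX := by
    rw [hbXeq]
    exact Helper77.isPBlock_image_irrMap e.symm hb
  -- the key formula for conjugates
  have hK : ∀ (x : Subgroup.normalizer (P : Set G))
      (θ' : IrrCharacter (H.subgroupOf (Subgroup.normalizer (P : Set G)))) (h h' : H),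
      (h' : G) = (x : G) * h * (x : G)⁻¹ →
      (irrMap e (Helper16.irrConj _ x⁻¹ θ') : H → ℂ) h' = (irrMap e θ' : H → ℂ) h := by
    intro x θ' h h' hh
    rw [irrMap_apply, irrMap_apply, Helper16.irrConj_coe, Helper15.conjFun_apply]
    refine congrArg _ ?_
    apply Subtype.ext
    apply Subtype.ext
    show ((x⁻¹ : Subgroup.normalizer (P : Set G)) : G) * (h' : G) *
      (((x⁻¹ : Subgroup.normalizer (P : Set G))⁻¹ : Subgroup.normalizer (P : Set G)) : G) = (h : G)
    rw [hh]
    simp only [Subgroup.coe_inv, inv_inv]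
    group
  -- membership in `T` in terms of conjugation of `bX`
  have hTX : ∀ x : Subgroup.normalizer (P : Set G), (x : G) ∈ T ↔
      ∀ θ' ∈ bX, Helper16.irrConj _ x⁻¹ θ' ∈ bX := by
    intro x
    constructor
    · intro hx θ' hθ'
      obtain ⟨_, cond⟩ := (hT x).mp hx
      exact cond (irrMap e θ') hθ' _ (fun h h' hh => hK x θ' h h' hh)
    · intro hS
      refine (hT x).mpr ⟨x.2, fun θ hθ θ'' hcond => ?_⟩
      have hθ' : irrMap e.symm θ ∈ bX := by
        show irrMap e (irrMap e.symm θ) ∈ b
        rw [irrMap_irrMap_symm]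
        exact hθ
      have h1 := hS _ hθ'
      have h2 : θ'' = irrMap e (Helper16.irrConj _ x⁻¹ (irrMap e.symm θ)) := by
        apply Subtype.ext
        funext h'
        have hmem : (x : G)⁻¹ * (h' : G) * (x : G) ∈ H := by
          have := hnorm.conj_mem (⟨(h' : G), hHN h'.2⟩ : Subgroup.normalizer (P : Set G))
            (Subgroup.mem_subgroupOf.mpr h'.2) x⁻¹
          rw [Subgroup.mem_subgroupOf] at this
          simpa using this
        have hh : (h' : G) = (x : G) * ((⟨_, hmem⟩ : H) : G) * (x : G)⁻¹ := by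
          show (h' : G) = (x : G) * ((x : G)⁻¹ * (h' : G) * (x : G)) * (x : G)⁻¹
          group
        rw [hcond ⟨_, hmem⟩ h' hh, hK x (irrMap e.symm θ) ⟨_, hmem⟩ h' hh, irrMap_irrMap_symm]
      rw [h2]
      exact h1
  have hHT : H ≤ T := by
    intro h hh
    refine (hT h).mpr ⟨hHN hh, fun θ hθ θ' hcond => ?_⟩
    have : θ' = θ := by
      apply Subtype.ext
      funext k
      have hk : (k : G) = h * (((⟨h, hh⟩ : H)⁻¹ * k * (⟨h, hh⟩ : H) : H) : G) * h⁻¹ := by
        simp only [Subgroup.coe_mul, Subgroup.coe_inv]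
        group
      rw [hcond _ k hk]
      have := Helper16.irr_isClassFunction θ k ((⟨h, hh⟩ : H)⁻¹)
      rw [inv_inv] at this
      exact this
    rw [this]
    exact hθ
  have hNT' : H.subgroupOf (Subgroup.normalizer (P : Set G)) ≤
      T.subgroupOf (Subgroup.normalizer (P : Set G)) := Subgroup.subgroupOf_mono _ hHT
  have hstab : ∀ t ∈ T.subgroupOf (Subgroup.normalizer (P : Set G)),
      ∀ θ' : IrrCharacter (H.subgroupOf (Subgroup.normalizer (P : Set G))),
      Helper16.irrConj _ t θ' ∈ bX ↔ θ' ∈ bX := by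
    intro t ht θ'
    rw [Subgroup.mem_subgroupOf] at ht
    constructor
    · intro h
      have h1 := (hTX t).mp ht _ h
      rwa [Helper16.irrConj_irrConj, mul_inv_cancel, Helper16.irrConj_one] at h1
    · intro h
      have ht' : ((t⁻¹ : Subgroup.normalizer (P : Set G)) : G) ∈ T := by
        rw [Subgroup.coe_inv]
        exact T.inv_mem ht
      have h1 := (hTX t⁻¹).mp ht' _ h
      rwa [inv_inv] at h1
  have hnot : ∀ x : Subgroup.normalizer (P : Set G),
      x ∉ T.subgroupOf (Subgroup.normalizer (P : Set G)) → ∃ θ' ∈ bX,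
      Helper16.irrConj _ x θ' ∉ bX := by
    intro x hx
    by_contra hcon
    push Not at hcon
    apply hx
    rw [Subgroup.mem_subgroupOf]
    have h1 : ((x⁻¹ : Subgroup.normalizer (P : Set G)) : G) ∈ T := by
      rw [hTX x⁻¹, inv_inv]
      exact hcon
    rw [Subgroup.coe_inv] at h1
    have := T.inv_mem h1
    rwa [inv_inv] at this
  -- a block of `N_G(P)` covering `bX` with the right defect
  obtain ⟨B₁, hB₁, ⟨χ₁, hχ₁, θ', hθ', hcov⟩, hdef⟩ :=
    exists_block_covering_defect (H.subgroupOf (Subgroup.normalizer (P : Set G)))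
      (T.subgroupOf (Subgroup.normalizer (P : Set G))) hNT' bX hM hbX hstab hnot
  have hd1 : blockDefect p bX = blockDefect p b := by
    rw [hbXeq]
    exact Helper77.blockDefect_image_irrMap p e.symm b
  rw [hd1, Subgroup.relIndex_subgroupOf hTN] at hdef
  have hθ'eq : θ' = irrMap e.symm (irrMap e θ') := (irrMap_symm_irrMap e θ').symm
  have hind₁ : IsInducedBlock M (Subgroup.normalizer (P : Set G)) B₁ B := by
    refine isInducedBlock_of_covering_normalizer hM P hP H hCH hHN b B hind B₁ hB₁ χ₁ hχ₁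
      (irrMap e θ') hθ' ?_
    rw [← hθ'eq]
    exact hcov
  -- cardinalities
  have hcardP : Nat.card P = p ^ blockDefect p b := by
    rw [← Helper77.card_defectGroup hM hb _ hbP]
    exact (Nat.card_congr (Subgroup.subgroupOfEquivOfLe hPH).toEquiv).symm
  obtain ⟨χ₂, hχ₂⟩ := isPBlock_nonempty hMp hB₁
  obtain ⟨D₁, hD₁⟩ := Helper16.exists_defectGroup (M := M) p χ₂
  rw [← isPBlock_eq_blockOf_of_mem hMp hB₁ hχ₂] at hD₁
  have hcardD₁ : Nat.card D₁ = p ^ blockDefect p B₁ := Helper77.card_defectGroup hM hB₁ D₁ hD₁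
  have hrel0 : H.relIndex T ≠ 0 := Subgroup.index_ne_zero_of_finite
  constructor
  · intro hBP
    obtain ⟨x, hx⟩ := defectGroup_le_of_induced hM _ B₁ B hind₁ D₁ hD₁ P hBP
    have hc1 : Nat.card ((D₁.map (Subgroup.normalizer (P : Set G)).subtype).map
        (MulAut.conj x).toMonoidHom) = Nat.card D₁ := by
      rw [Subgroup.card_map_of_injective (MulAut.conj x).injective,
        Subgroup.card_map_of_injective (Subgroup.subtype_injective _)]
    have hle : Nat.card D₁ ≤ Nat.card P := by
      rw [← hc1]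
      exact Subgroup.card_le_of_le hx
    rw [hcardD₁, hcardP, hdef] at hle
    have h2 := (Nat.pow_le_pow_iff_right hp.one_lt).mp hle
    have h3 : (H.relIndex T).factorization p = 0 := by omega
    rcases (Nat.factorization_eq_zero_iff _ _).mp h3 with h4 | h4 | h4
    · exact absurd hp h4
    · exact h4
    · exact absurd h4 hrel0
  · intro hpT
    have h3 : (H.relIndex T).factorization p = 0 := Nat.factorization_eq_zero_of_not_dvd hpT
    rw [h3, add_zero] at hdef
    haveI : (P.subgroupOf (Subgroup.normalizer (P : Set G))).Normal :=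
      Subgroup.normal_in_normalizer
    have hPX : IsPGroup p (P.subgroupOf (Subgroup.normalizer (P : Set G))) := hP.comap_subtype
    have hle : P.subgroupOf (Subgroup.normalizer (P : Set G)) ≤ D₁ :=
      normal_pGroup_le_defectGroup hM _ hPX hB₁ hD₁
    have hcardPX : Nat.card (P.subgroupOf (Subgroup.normalizer (P : Set G))) = Nat.card P :=
      Nat.card_congr (Subgroup.subgroupOfEquivOfLe Subgroup.le_normalizer).toEquiv
    have heq : P.subgroupOf (Subgroup.normalizer (P : Set G)) = D₁ := by
      apply Subgroup.eq_of_le_of_card_ge hle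
      rw [hcardD₁, hcardPX, hcardP, hdef]
    rw [← heq] at hD₁
    obtain ⟨B₂, hB₂, hB₂P, hind₂⟩ := Cfsg.Agent.S0920.part_one p M hM P hP B₁ hB₁ hD₁
    have : B₂ = B := Helper77.isInducedBlock_unique _ hind₂ hind₁
    rw [← this]
    exact hB₂P

end Main

end Cfsg.Agent.Helper78
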