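import Cfsg.Agent.Helper78.BrauerHom
import Cfsg.Agent.Helper77.BlockOrth
import Cfsg.Agent.Helper16.Defect
import Cfsg.Agent.Helper16.UnionBlocks
import Cfsg.Agent.S0911

/-!
# Induced blocks and defect groups

* radical lemma: an idempotent (mod the local ideal) of the centre of the local group ring all of
  whose central characters lie in the local ideal has all its coefficients in the local ideal;
* if `b^G = B` then a defect group of `b` lies in a conjugate of a defect group of `B`;
* for `P C_G(P) ≤ H ≤ N_G(P)`: `B` is induced from a block of `H` as soon as the Brauer image of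
  the block idempotent of `B` is not zero modulo the local ideal.
-/

set_option autoImplicit false
set_option linter.unusedSectionVars false
set_option linter.unusedVariables false

namespace Cfsg.Agent.Helper78

open Cfsg
open scoped ComplexConjugate

universe u

section Radical

variable {G : Type u} [Group G] [Fintype G] {M : Ideal AlgInt}

/-- Functions with all values in the local ideal. -/
def JValued (M : Ideal AlgInt) (t : G → ℂ) : Prop := ∀ g, MemLocalIdeal M (t g)

theorem jValued_conv_right [M.IsPrime] {s t : G → ℂ} (hs : ∀ g, MemLocalRing M (s g))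
    (ht : JValued M t) : JValued M (Helper16.conv s t) := fun g =>
  Helper16.memLocalIdeal_sum _ _ (fun x _ => Helper16.memLocalIdeal_mul_left (hs x) (ht _))

theorem conv_add_right (s t t' : G → ℂ) :
    Helper16.conv s (t + t') = Helper16.conv s t + Helper16.conv s t' := by
  funext g
  simp only [Helper16.conv_apply, Pi.add_apply, mul_add, Finset.sum_add_distrib]

theorem conv_sub_left (s s' t : G → ℂ) :
    Helper16.conv (s - s') t = Helper16.conv s t - Helper16.conv s' t := by
  funext g
  simp only [Helper16.conv_apply, Pi.sub_apply, sub_mul, Finset.sum_sub_distrib]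

theorem conv_smul_left (c : ℂ) (s t : G → ℂ) :
    Helper16.conv (c • s) t = c • Helper16.conv s t := by
  funext g
  simp only [Helper16.conv_apply, Pi.smul_apply, smul_eq_mul, mul_assoc, Finset.mul_sum]

theorem conv_deltaOne_left (t : G → ℂ) : Helper16.conv (Helper16.deltaOne : G → ℂ) t = t := by
  classical
  funext g
  rw [Helper16.conv_apply, Finset.sum_eq_single (1 : G)]
  · simp [Helper16.deltaOne]
  · intro x _ hx
    simp [Helper16.deltaOne, hx]
  · intro h; exact absurd (Finset.mem_univ _) h

theorem conv_deltaOne_right (t : G → ℂ) : Helper16.conv t (Helper16.deltaOne : G → ℂ) = t := by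
  classical
  funext g
  rw [Helper16.conv_apply, Finset.sum_eq_single g]
  · simp [Helper16.deltaOne]
  · intro x _ hx
    have : x⁻¹ * g ≠ 1 := by
      intro h
      apply hx
      have := inv_mul_eq_one.mp h
      exact this
    simp [Helper16.deltaOne, this]
  · intro h; exact absurd (Finset.mem_univ _) h

/-- Iterated convolution power `u * u * ... * u * δ₁`. -/
noncomputable def convPow (u : G → ℂ) : ℕ → (G → ℂ)
  | 0 => Helper16.deltaOne
  | n + 1 => Helper16.conv u (convPow u n)

theorem isZS_convPow [M.IsPrime] {u : G → ℂ} (hu : IsZS M u) (n : ℕ) : IsZS M (convPow u n) := by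
  induction n with
  | zero => exact isZS_deltaOne
  | succ n ih => exact hu.conv ih

/-- Expanding `∏ (u - c δ₁)` with all `c` in the local ideal: it agrees with the power of `u`
modulo functions valued in the local ideal. -/
theorem convList_sub_convPow_jValued [M.IsPrime] {u : G → ℂ} (hu : IsZS M u) (l : List ℂ)
    (hl : ∀ c ∈ l, MemLocalIdeal M c) :
    JValued M (convList (l.map (fun c => u - c • (Helper16.deltaOne : G → ℂ))) -
      convPow u l.length) := by
  induction l with
  | nil =>
    intro g
    simp only [List.map_nil, convList, List.length_nil, convPow, sub_self, Pi.zero_apply]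
    exact Helper16.memLocalIdeal_zero
  | cons c l ih =>
    have hl' : ∀ c ∈ l, MemLocalIdeal M c := fun c hc => hl c (List.mem_cons_of_mem _ hc)
    have hc : MemLocalIdeal M c := hl c List.mem_cons_self
    have ih' := ih hl'
    set R := convList (l.map (fun c => u - c • (Helper16.deltaOne : G → ℂ))) with hR
    have hRZ : IsZS M R := by
      apply isZS_convList
      intro t ht
      obtain ⟨c', hc', rfl⟩ := List.mem_map.mp ht
      exact hu.sub (isZS_deltaOne.smul (Helper16.memLocalIdeal_memLocalRing (hl' c' hc')))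
    intro g
    have e : (convList ((c :: l).map (fun c => u - c • (Helper16.deltaOne : G → ℂ))) -
        convPow u (c :: l).length) g =
        Helper16.conv u (R - convPow u l.length) g - c * R g := by
      simp only [List.map_cons, convList, List.length_cons, convPow]
      rw [← hR, conv_sub_left, conv_smul_left, conv_deltaOne_left]
      have : R = (R - convPow u l.length) + convPow u l.length := by
        funext x; simp
      conv_lhs => rw [this, conv_add_right]
      simp only [Pi.sub_apply, Pi.add_apply, Pi.smul_apply, smul_eq_mul]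
      ring
    rw [e]
    refine Helper16.memLocalIdeal_sub (jValued_conv_right hu.2 ih' g) ?_
    exact Helper16.memLocalIdeal_mul_right hc (hRZ.2 g)

/-- Powers of an idempotent modulo the local ideal. -/
theorem convPow_succ_sub_jValued [M.IsPrime] {u : G → ℂ} (hu : IsZS M u)
    (hidem : JValued M (Helper16.conv u u - u)) (n : ℕ) :
    JValued M (convPow u (n + 1) - u) := by
  induction n with
  | zero =>
    intro g
    simp only [convPow, conv_deltaOne_right, sub_self, Pi.zero_apply]
    exact Helper16.memLocalIdeal_zero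
  | succ n ih =>
    intro g
    have e : (convPow u (n + 1 + 1) - u) g =
        Helper16.conv u (convPow u (n + 1) - u) g + (Helper16.conv u u - u) g := by
      have : convPow u (n + 1) = (convPow u (n + 1) - u) + u := by
        funext x; simp
      show Helper16.conv u (convPow u (n + 1)) g - u g = _
      conv_lhs => rw [this, conv_add_right]
      simp only [Pi.sub_apply, Pi.add_apply]
      ring
    rw [e]
    exact Helper16.memLocalIdeal_add (jValued_conv_right hu.2 ih g) (hidem g)

/-- **Radical lemma**: an element of the centre of the local group ring which is idempotent modulo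
the local ideal and all of whose central characters lie in the local ideal has all its
coefficients in the local ideal. -/
theorem IsZS.jValued_of_idem [M.IsPrime] {u : G → ℂ} (hu : IsZS M u)
    (hidem : JValued M (Helper16.conv u u - u))
    (hJ : ∀ ψ : IrrCharacter G, MemLocalIdeal M (Helper16.omega (ψ : G → ℂ) u)) :
    JValued M u := by
  classical
  set l : List ℂ := (Finset.univ : Finset (IrrCharacter G)).toList.map
    (fun ψ : IrrCharacter G => Helper16.omega (ψ : G → ℂ) u) with hl
  have hlJ : ∀ c ∈ l, MemLocalIdeal M c := by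
    intro c hc
    obtain ⟨ψ, -, rfl⟩ := List.mem_map.mp hc
    exact hJ ψ
  set L : List (G → ℂ) := l.map (fun c => u - c • (Helper16.deltaOne : G → ℂ)) with hL
  have hLZ : ∀ t ∈ L, IsZS M t := by
    intro t ht
    obtain ⟨c, hc, rfl⟩ := List.mem_map.mp ht
    exact hu.sub (isZS_deltaOne.smul (Helper16.memLocalIdeal_memLocalRing (hlJ c hc)))
  have h0 : convList L = 0 := by
    apply Helper16.classFunction_ext_omega (isZS_convList L hLZ).1 (isZS_zero (M := M)).1
    intro ψ
    rw [omega_convList ψ L hLZ, Helper16.omega_zero]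
    apply List.prod_eq_zero
    refine List.mem_map.mpr ⟨u - (Helper16.omega (ψ : G → ℂ) u) • (Helper16.deltaOne : G → ℂ),
      List.mem_map.mpr ⟨_, List.mem_map.mpr ⟨ψ, Finset.mem_toList.mpr (Finset.mem_univ ψ), rfl⟩,
        rfl⟩, ?_⟩
    rw [Helper16.omega_sub, Helper16.omega_smul,
      Helper16.omega_deltaOne _ (Helper16.irr_one_ne_zero ψ), mul_one, sub_self]
  have h1 := convList_sub_convPow_jValued hu l hlJ
  rw [← hL, h0] at h1
  -- so `convPow u n` is valued in the ideal
  have h2 : JValued M (convPow u l.length) := by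
    intro g
    have := Helper16.memLocalIdeal_neg (h1 g)
    simpa using this
  have h3 : JValued M (convPow u (l.length + 1)) := jValued_conv_right hu.2 h2
  have h4 := convPow_succ_sub_jValued hu hidem l.length
  intro g
  have := Helper16.memLocalIdeal_sub (h3 g) (h4 g)
  simpa using this

end Radical

section Induced

variable {G : Type u} [Group G] [Fintype G] {M : Ideal AlgInt} {p : ℕ}

/-- If the induced central character of `ξ` does not vanish modulo the local ideal at `k`, then
some `G`-conjugate of `k` in `H` has central character (of `ξ`) outside the local ideal. -/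
theorem exists_of_inducedCentralChar_not_mem [M.IsPrime] (H : Subgroup G) [Fintype H]
    (ξ : IrrCharacter H) (k : G)
    (h : ¬ MemLocalIdeal M (inducedCentralChar H (ξ : H → ℂ) k)) :
    ∃ x : H, IsConj k (x : G) ∧ ¬ MemLocalIdeal M (centralChar (ξ : H → ℂ) x) := by
  classical
  rw [Helper16.inducedCentralChar_eq_omega, Helper16.omega_eq_sum_classes _ _
    (Helper16.irr_isClassFunction ξ) (Helper16.isClassFunction_classIndRes H k)] at h
  by_contra hcon
  push_neg at hcon
  apply h
  refine Helper16.memLocalIdeal_sum _ _ (fun C _ => ?_)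
  by_cases hc : IsConj k ((Helper16.classRep C : H) : G)
  · exact Helper16.memLocalIdeal_mul_left (Helper16.classIndRes_memLocalRing H k _) (hcon _ hc)
  · have : Helper16.classIndRes H k (Helper16.classRep C) = 0 := by
      unfold Helper16.classIndRes Helper16.classInd
      rw [if_neg hc]
    rw [this, zero_mul]
    exact Helper16.memLocalIdeal_zero

/-- Core of "defect groups of `b` lie in defect groups of `b^G`". -/
theorem induced_minmax [Fact p.Prime] (hM : IsPModular p M) (H : Subgroup G) [Fintype H]
    (b : Set (IrrCharacter H)) (B : Set (IrrCharacter G)) (hind : IsInducedBlock M H b B)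
    (l : H) (hl : ¬ MemLocalIdeal M (blockCoeff b l)) (D : Subgroup H) (hD : IsPGroup p D)
    (hDl : D ≤ Subgroup.centralizer ({l} : Set H))
    (k : G) (hk : ∃ χ ∈ B, ¬ MemLocalIdeal M (centralChar (χ : G → ℂ) k)) :
    ∃ x : H, IsConj k (x : G) ∧ D ≤ Subgroup.centralizer ({x} : Set H) := by
  have hMp : M.IsPrime := isPrime_of_isPModular hM
  obtain ⟨⟨ξ₀, rfl⟩, hB, hcong⟩ := hind
  obtain ⟨χ, hχ, hχk⟩ := hk
  have h1 : ¬ MemLocalIdeal M (inducedCentralChar H (ξ₀ : H → ℂ) k) := by
    intro hc
    apply hχk
    have := Helper16.memLocalIdeal_sub hc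
      (hcong ξ₀ (Helper16.sameBlock_refl (M := M) (ξ₀ : H → ℂ)) χ hχ k)
    simpa using this
  obtain ⟨y, hky, hy⟩ := exists_of_inducedCentralChar_not_mem H ξ₀ k h1
  have hyall : ∀ ξ ∈ blockOf M (ξ₀ : H → ℂ), ¬ MemLocalIdeal M (centralChar (ξ : H → ℂ) y) :=
    fun ξ hξ => Helper16.not_memLocalIdeal_centralChar_of_mem hξ hy
  obtain ⟨x, hyx, hDx⟩ := Helper16.minmax_core hM.2.2 ξ₀ y l hyall hl D hD hDl
  refine ⟨x, hky.trans ?_, hDx⟩
  obtain ⟨c, hc⟩ := isConj_iff.mp hyx
  exact isConj_iff.mpr ⟨(c : G), by rw [← hc]; simp⟩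

/-- **Defect groups and induced blocks**: if `b^G = B` then every defect group of `b` is contained
in a conjugate of every defect group of `B`. -/
theorem defectGroup_le_of_induced [Fact p.Prime] (hM : IsPModular p M) (H : Subgroup G)
    (b : Set (IrrCharacter H)) (B : Set (IrrCharacter G)) (hind : IsInducedBlock M H b B)
    (D : Subgroup H) (hD : IsDefectGroup p M b D) (P : Subgroup G) (hP : IsDefectGroup p M B P) :
    ∃ x : G, (D.map H.subtype).map (MulAut.conj x).toMonoidHom ≤ P := by
  classical
  have hMp : M.IsPrime := isPrime_of_isPModular hM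
  haveI : Fintype H := Fintype.ofFinite H
  obtain ⟨l, hl, Q, rfl⟩ := hD
  obtain ⟨k, hk, R, rfl⟩ := hP
  obtain ⟨χ₀, hχ₀⟩ := hind.2.1
  have hχ₀B : χ₀ ∈ B := by rw [hχ₀]; exact Helper16.sameBlock_refl (M := M) (χ₀ : G → ℂ)
  obtain ⟨x, hkx, hDx⟩ := induced_minmax hM H b B hind l hl.2.1
    ((Q : Subgroup (Subgroup.centralizer ({l} : Set H))).map (Subgroup.centralizer ({l} : Set H)).subtype)
    (Q.isPGroup'.map _) (Subgroup.map_subtype_le _) k ⟨χ₀, hχ₀B, hk.2.2 χ₀ hχ₀B⟩
  obtain ⟨y, hy⟩ := isConj_iff.mp hkx
  set D' : Subgroup G := (((Q : Subgroup (Subgroup.centralizer ({l} : Set H))).map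
    (Subgroup.centralizer ({l} : Set H)).subtype).map H.subtype) with hD'
  have hD'p : IsPGroup p D' := (Q.isPGroup'.map _).map _
  have hD'x : D' ≤ Subgroup.centralizer ({y * k * y⁻¹} : Set G) := by
    rintro _ ⟨u, hu, rfl⟩
    have := hDx hu
    rw [Subgroup.mem_centralizer_singleton_iff] at this ⊢
    rw [hy]
    exact congrArg Subtype.val this
  have h2 := Cfsg.Agent.S0911.map_conj_le_centralizer D' k y hD'x
  obtain ⟨c, _, hc⟩ := Cfsg.Agent.S0911.pgroup_le_conj_sylow p _ R _ (hD'p.map _) h2
  refine ⟨c⁻¹ * y⁻¹, ?_⟩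
  rintro _ ⟨u, hu, rfl⟩
  obtain ⟨v, hv, hvu⟩ := hc (Subgroup.mem_map_of_mem _ hu)
  have e : (MulAut.conj (c⁻¹ * y⁻¹)).toMonoidHom u = v := by
    have h3 : c * v * c⁻¹ = y⁻¹ * u * y⁻¹⁻¹ := by simpa using hvu
    have : v = c⁻¹ * (y⁻¹ * u * y⁻¹⁻¹) * c := by rw [← h3]; group
    rw [this]
    simp [mul_assoc]
  rw [e]
  exact hv

/-- For `P C_G(P) ≤ H ≤ N_G(P)`: if the block idempotent of `B` has a coefficient outside the
local ideal at an element of `C_G(P)`, then `B` is induced from a block of `H`. -/
theorem exists_induced_of_blockCoeff_not_mem [Fact p.Prime] (hM : IsPModular p M)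
    {P H : Subgroup G} (hP : IsPGroup p P) (hPH : P ≤ H)
    (hCH : Subgroup.centralizer (P : Set G) ≤ H) (hHN : H ≤ Subgroup.normalizer (P : Set G))
    (χ₀ : IrrCharacter G) (g : G) (hgP : g ∈ Subgroup.centralizer (P : Set G))
    (hg : ¬ MemLocalIdeal M (blockCoeff (blockOf M (χ₀ : G → ℂ)) g)) :
    ∃ b : Set (IrrCharacter H), IsInducedBlock M H b (blockOf M (χ₀ : G → ℂ)) := by
  classical
  have hMp : M.IsPrime := isPrime_of_isPModular hM
  haveI : Fintype H := Fintype.ofFinite H
  set B := blockOf M (χ₀ : G → ℂ) with hB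
  have hBb : IsPBlock M B := ⟨χ₀, rfl⟩
  obtain ⟨hecl, heS, heom⟩ := Helper16.osima_strong (M := M) χ₀
  have he : IsZS M (blockCoeff B) := ⟨hecl, heS⟩
  set u : H → ℂ := brRes P H (blockCoeff B) with hu
  have huZ : IsZS M u := isZS_brRes hHN he
  have hidem : JValued M (Helper16.conv u u - u) := by
    intro h
    have := brRes_conv_sub_mem hM hP hCH hHN he he h
    rw [Helper77.blockCoeff_conv_self hBb] at this
    have := Helper16.memLocalIdeal_neg this
    simpa using this
  -- some central character of `u` is a unit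
  have hex : ∃ ξ : IrrCharacter H, ¬ MemLocalIdeal M (Helper16.omega (ξ : H → ℂ) u) := by
    by_contra hcon
    push_neg at hcon
    have hJ := huZ.jValued_of_idem hidem hcon
    have := hJ ⟨g, hCH hgP⟩
    rw [hu, brRes_of_mem P H _ (by exact hgP)] at this
    exact hg this
  obtain ⟨ξ, hξ⟩ := hex
  obtain ⟨χ', hχ'⟩ := (isModHom_brauer hM hP hCH hHN ξ).exists_irr
  -- χ' lies in B
  have hχ'B : χ' ∈ B := by
    have h1 := hχ' _ he
    rw [Helper16.omega_blockCoeff] at h1
    by_contra hn
    rw [if_neg hn, sub_zero] at h1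
    exact hξ h1
  refine ⟨blockOf M (ξ : H → ℂ), ?_⟩
  rw [isInducedBlock_iff_brauerCentralChar hM hP hPH hHN _ ⟨ξ, rfl⟩ _ hBb]
  intro ξ' hξ' χ hχ k
  have a1 : MemLocalIdeal M (brauerCentralChar P H (ξ' : H → ℂ) k -
      brauerCentralChar P H (ξ : H → ℂ) k) := by
    rw [brauerCentralChar_eq_omega, brauerCentralChar_eq_omega]
    have hz := isZS_brRes (M := M) (P := P) (H := H) hHN (isZS_classInd (M := M) k)
    exact Helper16.omega_sub_memLocalIdeal
      (Helper16.sameBlock_symm (show SameBlock M (ξ : H → ℂ) (ξ' : H → ℂ) from hξ')) hz.1 hz.2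
  have a2 : MemLocalIdeal M (brauerCentralChar P H (ξ : H → ℂ) k - centralChar (χ' : G → ℂ) k) := by
    have := hχ' _ (isZS_classInd (M := M) k)
    rwa [← brauerCentralChar_eq_omega,
      Helper16.omega_classInd _ (Helper16.irr_isClassFunction χ')] at this
  have a3 : MemLocalIdeal M (centralChar (χ' : G → ℂ) k - centralChar (χ : G → ℂ) k) := by
    have h1 : SameBlock M (χ₀ : G → ℂ) (χ' : G → ℂ) := hχ'B
    have h2 : SameBlock M (χ₀ : G → ℂ) (χ : G → ℂ) := hχ
    exact (Helper16.sameBlock_trans (Helper16.sameBlock_symm h1) h2) k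
  have := Helper16.memLocalIdeal_add (Helper16.memLocalIdeal_add a1 a2) a3
  have e : brauerCentralChar P H (ξ' : H → ℂ) k - brauerCentralChar P H (ξ : H → ℂ) k +
      (brauerCentralChar P H (ξ : H → ℂ) k - centralChar (χ' : G → ℂ) k) +
      (centralChar (χ' : G → ℂ) k - centralChar (χ : G → ℂ) k) =
      brauerCentralChar P H (ξ' : H → ℂ) k - centralChar (χ : G → ℂ) k := by ring
  rwa [e] at this

end Induced

end Cfsg.Agent.Helper78
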