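import Cfsg.Agent.Helper78.HeightZero
import Cfsg.Agent.Helper74.DefectZero
import Cfsg.Agent.Helper80.Pullback
import Cfsg.Agent.S0941

/-!
# `p`-parts of elements and blocks with a normal defect group
-/

set_option autoImplicit false
set_option linter.unusedSectionVars false
set_option linter.unusedVariables false

namespace Cfsg.Agent.Helper78

open Cfsg

universe u

section Group

variable {G : Type u} [Group G] {p : ℕ}

/-- The product of a nontrivial `p`-element and a commuting `p`-regular element is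
`p`-singular. -/
theorem dvd_orderOf_mul_of_pow_eq_one (hp : p.Prime) {u g : G} {k : ℕ} (hu : u ^ p ^ k = 1)
    (hu1 : u ≠ 1) (hcomm : Commute u g) (hg : ¬ p ∣ orderOf g) : p ∣ orderOf (u * g) := by
  have h1 : orderOf u ∣ p ^ k := orderOf_dvd_of_pow_eq_one hu
  obtain ⟨j, -, hj⟩ := (Nat.dvd_prime_pow hp).mp h1
  have hj0 : j ≠ 0 := by
    intro h0
    rw [h0, pow_zero, orderOf_eq_one_iff] at hj
    exact hu1 hj
  have hcop : Nat.Coprime (orderOf u) (orderOf g) := by
    rw [hj]
    exact Nat.Coprime.pow_left _ ((Nat.Prime.coprime_iff_not_dvd hp).mpr hg)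
  rw [hcomm.orderOf_mul_eq_mul_orderOf_of_coprime hcop, hj]
  exact Dvd.dvd.mul_right (dvd_pow_self p hj0) _

/-- The `p`-part of an element of a finite group is a power of it. -/
theorem exists_pow_eq_of_isPPart [Finite G] (hp : p.Prime) {x z : G} (h : IsPPart p x z) :
    ∃ t : ℕ, x ^ t = z := by
  obtain ⟨y, hzy, hcomm, ⟨k, hk⟩, hy⟩ := h
  set m := orderOf y with hm
  have hmpos : 0 < m := orderOf_pos y
  set q := p ^ k with hq
  have hqpos : 0 < q := pow_pos hp.pos k
  have hcop : Nat.Coprime m q := by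
    apply Nat.Coprime.pow_right
    exact ((Nat.Prime.coprime_iff_not_dvd hp).mpr hy).symm
  set t := m ^ Nat.totient q with ht
  have hmod : t ≡ 1 [MOD q] := Nat.ModEq.pow_totient hcop
  have htot : 0 < Nat.totient q := Nat.totient_pos.mpr hqpos
  have hmt : m ∣ t := dvd_pow_self m htot.ne'
  refine ⟨t, ?_⟩
  rw [← hzy, hcomm.mul_pow]
  have h1 : z ^ t = z := by
    have : z ^ t = z ^ 1 := by
      rw [pow_eq_pow_iff_modEq, hk]
      exact hmod
    rw [this, pow_one]
  have h2 : y ^ t = 1 := by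
    obtain ⟨c, hc⟩ := hmt
    rw [hc, pow_mul, pow_orderOf_eq_one, one_pow]
  rw [h1, h2, mul_one]

/-- Conjugating a `p`-part. -/
theorem isPPart_conj {x z : G} (h : IsPPart p x z) (c : G) :
    IsPPart p (c * x * c⁻¹) (c * z * c⁻¹) := by
  obtain ⟨y, hzy, hcomm, ⟨k, hk⟩, hy⟩ := h
  refine ⟨c * y * c⁻¹, ?_, ?_, ⟨k, ?_⟩, ?_⟩
  · rw [← hzy]; group
  · show c * z * c⁻¹ * (c * y * c⁻¹) = c * y * c⁻¹ * (c * z * c⁻¹)
    have := hcomm.eq
    calc c * z * c⁻¹ * (c * y * c⁻¹) = c * (z * y) * c⁻¹ := by group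
      _ = c * (y * z) * c⁻¹ := by rw [this]
      _ = c * y * c⁻¹ * (c * z * c⁻¹) := by group
  · rw [← hk]
    exact (MulAut.conj c).orderOf_eq z
  · have : orderOf (c * y * c⁻¹) = orderOf y := (MulAut.conj c).orderOf_eq y
    rw [this]; exact hy

/-- A `p`-part (in `G`) of an element of a subgroup `H` lies in `H` and is a `p`-part in `H`. -/
theorem isPPart_subgroup [Finite G] (hp : p.Prime) (H : Subgroup G) (h : H) {z : G}
    (hz : IsPPart p (h : G) z) : ∃ z' : H, (z' : G) = z ∧ IsPPart p h z' := by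
  obtain ⟨t, ht⟩ := exists_pow_eq_of_isPPart hp hz
  obtain ⟨y, hzy, hcomm, ⟨k, hk⟩, hy⟩ := hz
  have hzH : z ∈ H := by rw [← ht]; exact H.pow_mem h.2 t
  have hyH : y ∈ H := by
    have : y = z⁻¹ * (h : G) := by rw [← hzy]; group
    rw [this]
    exact H.mul_mem (H.inv_mem hzH) h.2
  refine ⟨⟨z, hzH⟩, rfl, ⟨y, hyH⟩, Subtype.ext hzy, ?_, ⟨k, ?_⟩, ?_⟩
  · exact Subtype.ext hcomm.eq
  · rw [← hk]
    exact (Subgroup.orderOf_coe (⟨z, hzH⟩ : H)).symm
  · have : orderOf (⟨y, hyH⟩ : H) = orderOf y := (Subgroup.orderOf_coe (⟨y, hyH⟩ : H)).symm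
    rw [this]; exact hy

end Group

section NormalDefect

variable {G : Type u} [Group G] [Finite G] {M : Ideal AlgInt} {p : ℕ}

/-- **Blocks with a normal defect group**: if the block `b` has the normal `p`-subgroup `D` as a
defect group and the central character of `b` does not vanish modulo the ideal at `x`, then every
`p`-part of `x` lies in `D`. -/
theorem isPPart_mem_of_normal_defectGroup [Fact p.Prime] (hM : IsPModular p M)
    (D : Subgroup G) [D.Normal] {b : Set (IrrCharacter G)} (hb : IsPBlock M b)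
    (hD : IsDefectGroup p M b D) (ξ : IrrCharacter G) (hξ : ξ ∈ b) (x : G)
    (hx : ¬ MemLocalIdeal M (centralChar (ξ : G → ℂ) x)) {z : G} (hz : IsPPart p x z) :
    z ∈ D := by
  classical
  haveI : Fintype G := Fintype.ofFinite G
  haveI : Fintype (G ⧸ D) := Fintype.ofFinite _
  have hMp : M.IsPrime := isPrime_of_isPModular hM
  have hp : p.Prime := hM.1
  have hDp : IsPGroup p D := by
    obtain ⟨g, -, Q, rfl⟩ := hD
    exact Q.isPGroup'.map _
  by_contra hzD
  obtain ⟨θ, hθb, hθ⟩ := Cfsg.Agent.S0941.exists_mem_block_ker p M hM D hDp b hb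
  obtain ⟨θ', hθ'irr, hθ'⟩ := Helper80.IsIrrCharacter.exists_descend θ.2
    (QuotientGroup.mk' D) (QuotientGroup.mk'_surjective D) (by
      intro g hg
      have hgD : g ∈ D := by
        rw [← QuotientGroup.eq_one_iff]; exact hg
      exact hθ g hgD)
  -- `θ'` has defect zero in `G ⧸ D`
  have hdeg : charDegree θ' = charDegree (θ : G → ℂ) := by
    unfold charDegree
    rw [hθ' 1]
    rfl
  have hdiv : p ^ (Nat.card (G ⧸ D)).factorization p ∣ charDegree θ' := by
    rw [hdeg]
    have hdeg0 : charDegree (θ : G → ℂ) ≠ 0 := (charDegree_pos_of_isIrrCharacter θ.2).ne'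
    rw [hp.pow_dvd_iff_le_factorization hdeg0]
    have h1 : sInf ((fun ψ : IrrCharacter G => (charDegree (ψ : G → ℂ)).factorization p) '' b) ≤
        (charDegree (θ : G → ℂ)).factorization p := Nat.sInf_le ⟨θ, hθb, rfl⟩
    have h2 := Helper77.card_defectGroup hM hb D hD
    have h3 : Nat.card G = Nat.card (G ⧸ D) * Nat.card D := Subgroup.card_eq_card_quotient_mul_card_subgroup D
    have h4 : (Nat.card G).factorization p =
        (Nat.card (G ⧸ D)).factorization p + (Nat.card D).factorization p := by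
      rw [h3, Nat.factorization_mul Nat.card_pos.ne' Nat.card_pos.ne']
      rfl
    rw [h2, hp.factorization_pow] at h4
    simp only [Finsupp.single_eq_same] at h4
    have h5 : blockDefect p b = (Nat.card G).factorization p -
        sInf ((fun ψ : IrrCharacter G => (charDegree (ψ : G → ℂ)).factorization p) '' b) := rfl
    omega
  -- the image of `x` is `p`-singular
  obtain ⟨y, hzy, hcomm, ⟨k, hk⟩, hy⟩ := hz
  have hsing : p ∣ orderOf (QuotientGroup.mk' D x) := by
    rw [← hzy, map_mul]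
    apply dvd_orderOf_mul_of_pow_eq_one hp (k := k)
    · rw [← map_pow, ← hk, pow_orderOf_eq_one, map_one]
    · intro h1
      apply hzD
      rw [← QuotientGroup.eq_one_iff]; exact h1
    · exact hcomm.map _
    · intro hdvd
      exact hy (dvd_trans hdvd (orderOf_map_dvd _ y))
  have hzero : (θ : G → ℂ) x = 0 := by
    rw [hθ' x]
    exact Helper74.irr_eq_zero_of_defect_zero ⟨θ', hθ'irr⟩ hp hdiv _ hsing
  apply hx
  have hsb := sameBlock_of_mem_of_mem hMp hb hξ hθb x
  have h0 : centralChar (θ : G → ℂ) x = 0 := by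
    unfold centralChar
    rw [hzero, mul_zero, zero_div]
  rw [h0, sub_zero] at hsb
  exact hsb

end NormalDefect

end Cfsg.Agent.Helper78
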