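import Cfsg.Agent.Helper80.Eigen
import Cfsg.Agent.Helper77.RootsUnity
import Cfsg.Agent.Helper16.LocalRing
import Cfsg.Agent.Helper78.LocalRing

/-!
# Character values on a `p`-section

If `z` is a `p`-element commuting with the `p`-regular element `y`, then `χ (z * y) ≡ χ y` modulo
the local ideal, for every character `χ`.
-/

set_option autoImplicit false
set_option linter.unusedSectionVars false
set_option linter.unusedVariables false

namespace Cfsg.Agent.Helper78

open Cfsg

universe u

variable {G : Type u} [Group G] {M : Ideal AlgInt} {p : ℕ}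

/-- Trace form of the congruence: if `w ^ ((a - 1) * p ^ k) = 1` then the character values at `w`
and at `w ^ a` are congruent modulo the local ideal. -/
theorem character_sub_pow_memLocalIdeal (hM : IsPModular p M)
    {V : Type*} [AddCommGroup V] [Module ℂ V] [FiniteDimensional ℂ V]
    (ρ : Representation ℂ G V) (w : G) (n : ℕ) (hn : 0 < n) (hw : w ^ n = 1) (a k : ℕ)
    (ha : 0 < a) (hwa : w ^ ((a - 1) * p ^ k) = 1) :
    MemLocalIdeal M (ρ.character w - ρ.character (w ^ a)) := by
  classical
  have hMp : M.IsPrime := isPrime_of_isPModular hM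
  have hF : (ρ w) ^ n = 1 := by rw [← map_pow, hw, map_one]
  obtain ⟨b, μ, hb, hμ, htr⟩ := Helper80.exists_eigen_data (ρ w) n hn hF
  have e1 : ρ.character w = ∑ i, μ i := by
    have := htr 1
    simp only [pow_one] at this
    unfold Representation.character
    exact this
  have e2 : ρ.character (w ^ a) = ∑ i, μ i ^ a := by
    unfold Representation.character
    rw [map_pow]
    exact htr a
  rw [e1, e2, ← Finset.sum_sub_distrib]
  refine Helper16.memLocalIdeal_sum _ _ (fun i _ => ?_)
  -- `μ i ^ ((a-1) p^k) = 1`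
  have h1 : μ i ^ ((a - 1) * p ^ k) = 1 := by
    have h2 := Helper80.pow_apply_eigenbasis b (ρ w) μ hb ((a - 1) * p ^ k) i
    rw [← map_pow, hwa, map_one] at h2
    have h3 : (μ i ^ ((a - 1) * p ^ k) - 1) • b i = 0 := by
      rw [sub_smul, one_smul, ← h2]
      simp
    rcases smul_eq_zero.mp h3 with h4 | h4
    · linear_combination h4
    · exact absurd h4 (b.ne_zero i)
  have h5 : (μ i ^ (a - 1)) ^ p ^ k = 1 := by rw [← pow_mul]; exact h1
  have h6 := Helper77.memLocalIdeal_sub_one_of_pow_eq_one hM h5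
  have h7 : MemLocalRing M (μ i) := Helper77.memLocalRing_of_pow_eq_one hn (hμ i)
  have e : μ i - μ i ^ a = - (μ i * (μ i ^ (a - 1) - 1)) := by
    have : μ i ^ a = μ i * μ i ^ (a - 1) := by
      rw [← pow_succ']
      congr 1
      omega
    rw [this]; ring
  rw [e]
  exact Helper16.memLocalIdeal_neg (Helper16.memLocalIdeal_mul_left h7 h6)

/-- **Congruence on `p`-sections**: for a `p`-element `z` commuting with a `p`-regular element `y`,
the character values at `z * y` and at `y` are congruent modulo the local ideal. -/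
theorem character_mul_sub_memLocalIdeal [Finite G] (hM : IsPModular p M)
    {V : Type*} [AddCommGroup V] [Module ℂ V] [FiniteDimensional ℂ V]
    (ρ : Representation ℂ G V) (z y : G) (hcomm : Commute z y) {k : ℕ} (hz : z ^ p ^ k = 1)
    (hy : ¬ p ∣ orderOf y) :
    MemLocalIdeal M (ρ.character (z * y) - ρ.character y) := by
  have hp : p.Prime := hM.1
  set m := orderOf y with hm
  have hmpos : 0 < m := orderOf_pos y
  set q := p ^ k with hq
  have hcop : Nat.Coprime q m := by
    apply Nat.Coprime.pow_left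
    exact (Nat.Prime.coprime_iff_not_dvd hp).mpr hy
  set a := q ^ Nat.totient m with ha
  have hapos : 0 < a := pow_pos (pow_pos hp.pos _) _
  have hmod : a ≡ 1 [MOD m] := Nat.ModEq.pow_totient hcop
  have htot : 0 < Nat.totient m := Nat.totient_pos.mpr hmpos
  have hqa : q ∣ a := dvd_pow_self q htot.ne'
  have hza : z ^ a = 1 := by
    obtain ⟨c, hc⟩ := hqa
    rw [hc, pow_mul, hz, one_pow]
  have hya : y ^ a = y := by
    have : y ^ a = y ^ 1 := pow_eq_pow_iff_modEq.mpr hmod
    rw [this, pow_one]
  have hwa : (z * y) ^ a = y := by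
    rw [hcomm.mul_pow, hza, hya, one_mul]
  have hdvd : m ∣ a - 1 := (Nat.modEq_iff_dvd' hapos).mp hmod.symm
  have hw2 : (z * y) ^ ((a - 1) * q) = 1 := by
    rw [hcomm.mul_pow]
    have h1 : z ^ ((a - 1) * q) = 1 := by
      rw [mul_comm, pow_mul, hz, one_pow]
    have h2 : y ^ ((a - 1) * q) = 1 := by
      rw [pow_mul]
      obtain ⟨c, hc⟩ := hdvd
      rw [hc, pow_mul, pow_orderOf_eq_one, one_pow, one_pow]
    rw [h1, h2, one_mul]
  have := character_sub_pow_memLocalIdeal hM ρ (z * y) (orderOf (z * y)) (orderOf_pos _)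
    (pow_orderOf_eq_one _) a k hapos hw2
  rwa [hwa] at this

/-- The congruence for irreducible characters. -/
theorem irr_mul_sub_memLocalIdeal [Finite G] (hM : IsPModular p M) (χ : IrrCharacter G)
    (z y : G) (hcomm : Commute z y) {k : ℕ} (hz : z ^ p ^ k = 1) (hy : ¬ p ∣ orderOf y) :
    MemLocalIdeal M ((χ : G → ℂ) (z * y) - (χ : G → ℂ) y) := by
  obtain ⟨χ, n, ρ, hirr, rfl⟩ := χ
  exact character_mul_sub_memLocalIdeal hM ρ z y hcomm hz hy

/-- A quotient of natural numbers whose denominator has at most the `p`-part of the numerator is a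
local integer. -/
theorem memLocalRing_natCast_div (hM : IsPModular p M) {m n : ℕ} (hn : n ≠ 0) (hm : m ≠ 0)
    (h : n.factorization p ≤ m.factorization p) : MemLocalRing M ((m : ℂ) / (n : ℂ)) := by
  have hMp : M.IsPrime := isPrime_of_isPModular hM
  have hp : p.Prime := hM.1
  set e := n.factorization p with he
  have h1 : p ^ e * (n / p ^ e) = n := Nat.ordProj_mul_ordCompl_eq_self n p
  have hcop : Nat.Coprime (n / p ^ e) p := (Nat.coprime_ordCompl hp hn).symm
  have hdvd : p ^ e ∣ m := (hp.pow_dvd_iff_le_factorization hm).mpr h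
  obtain ⟨m', hm'⟩ := hdvd
  have hpe : ((p : ℂ) ^ e) ≠ 0 := pow_ne_zero _ (by exact_mod_cast hp.ne_zero)
  have hn' : ((n / p ^ e : ℕ) : ℂ) ≠ 0 := by
    have : n / p ^ e ≠ 0 := by
      intro h0
      rw [h0, mul_zero] at h1
      exact hn h1.symm
    exact_mod_cast this
  have e1 : (m : ℂ) / (n : ℂ) = (m' : ℂ) * ((n / p ^ e : ℕ) : ℂ)⁻¹ := by
    have hnc : (n : ℂ) = (p : ℂ) ^ e * ((n / p ^ e : ℕ) : ℂ) := by
      exact_mod_cast h1.symm
    have hmc : (m : ℂ) = (p : ℂ) ^ e * (m' : ℂ) := by exact_mod_cast hm'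
    rw [hnc, hmc]
    field_simp
  rw [e1]
  exact memLocalRing_mul hMp (memLocalRing_natCast hMp m') (memLocalRing_inv_natCast hM hcop)

end Cfsg.Agent.Helper78
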