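import Mathlib
import Cfsg.Prelude.Def_Blocks
import Cfsg.Agent.Helper78.IrrBasic

/-!
# Kernels of characters at the representation level
-/

set_option autoImplicit false

namespace Cfsg.Agent.Helper78

open Module Cfsg

/-- An endomorphism of finite order whose trace equals the dimension is the identity. -/
theorem eq_one_of_trace_eq_finrank {V : Type*} [AddCommGroup V] [Module ℂ V]
    [FiniteDimensional ℂ V] (T : Module.End ℂ V) {m : ℕ} (hm : 0 < m) (hT : T ^ m = 1)
    (h : LinearMap.trace ℂ V T = (finrank ℂ V : ℂ)) : T = 1 := by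
  classical
  set R := T.charpoly.roots with hR
  have hcard : Multiset.card R = finrank ℂ V := card_roots_charpoly' T
  have htr : LinearMap.trace ℂ V T = R.sum := trace_eq_sum_roots' T
  have hnorm1 : ∀ r ∈ R, ‖r‖ = 1 := fun r hr =>
    Complex.norm_eq_one_of_pow_eq_one (root_charpoly_pow_eq_one' T hT hr) hm.ne'
  rcases Multiset.empty_or_exists_mem R with hemp | ⟨ε, hε⟩
  · have hn0 : finrank ℂ V = 0 := by rw [← hcard, hemp, Multiset.card_zero]
    have : Subsingleton V := Module.finrank_zero_iff.1 hn0
    exact Subsingleton.elim _ _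
  · have hsum : ‖R.sum‖ = (Multiset.card R : ℝ) := by
      rw [← htr, h, hcard, Complex.norm_natCast]
    have hall := eq_of_norm_multiset_sum_eq_card R hnorm1 hsum
    have hrep : R = Multiset.replicate (finrank ℂ V) ε :=
      Multiset.eq_replicate.2 ⟨hcard, fun r hr => hall r hr ε hε⟩
    have hε1 : ε = 1 := by
      have h2 : (finrank ℂ V : ℂ) * ε = (finrank ℂ V : ℂ) := by
        have h3 : R.sum = (finrank ℂ V : ℂ) * ε := by
          rw [hrep, Multiset.sum_replicate, nsmul_eq_mul]
        rw [← h3, ← htr, h]
      have hpos : (finrank ℂ V : ℂ) ≠ 0 := by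
        have : 0 < finrank ℂ V := by
          rw [← hcard]; exact Multiset.card_pos_iff_exists_mem.2 ⟨ε, hε⟩
        exact_mod_cast this.ne'
      have := mul_left_cancel₀ hpos (h2.trans (mul_one _).symm)
      exact this
    have := eq_smul_one_of_roots_eq T hm hT ε (fun r hr => hall r hr ε hε)
    rw [this, hε1, one_smul]

/-- `χ g = χ 1` forces `ρ g = 1`. -/
theorem rep_eq_one_of_character_eq {G : Type*} [Group G] [Finite G] {V : Type*}
    [AddCommGroup V] [Module ℂ V] [FiniteDimensional ℂ V] (ρ : Representation ℂ G V) (g : G)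
    (h : ρ.character g = ρ.character 1) : ρ g = 1 := by
  apply eq_one_of_trace_eq_finrank (ρ g) (Nat.card_pos (α := G)) (rep_pow_card_eq_one ρ g)
  rw [Representation.char_one] at h
  exact h

/-- A complex irreducible representation on which the group acts trivially has degree one. -/
theorem finrank_eq_one_of_forall_eq_one {G : Type*} [Group G] [Finite G] {V : Type*}
    [AddCommGroup V] [Module ℂ V] [FiniteDimensional ℂ V] (ρ : Representation ℂ G V)
    [hρ : ρ.IsIrreducible] (h : ∀ g, ρ g = 1) : finrank ℂ V = 1 := by
  classical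
  have := Fintype.ofFinite G
  have hcard : (Nat.card G : ℂ) ≠ 0 := by exact_mod_cast (Nat.card_pos (α := G)).ne'
  have : Invertible (Nat.card G : ℂ) := invertibleOfNonzero hcard
  have horth := Representation.char_orthonormal ρ ρ
  rw [if_pos ⟨Representation.Equiv.refl ρ⟩] at horth
  have hchar : ∀ g, ρ.character g = (finrank ℂ V : ℂ) := by
    intro g
    unfold Representation.character
    rw [h g, LinearMap.trace_one]
  simp only [hchar, Finset.sum_const, Finset.card_univ, nsmul_eq_mul] at horth
  rw [← Nat.card_eq_fintype_card, ← mul_assoc, inv_mul_cancel₀ hcard, one_mul] at horth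
  have : (finrank ℂ V * finrank ℂ V : ℕ) = 1 := by exact_mod_cast horth
  exact Nat.eq_one_of_mul_eq_one_left this

end Cfsg.Agent.Helper78
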