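import Cfsg.Agent.Helper78.IrrTransport
import Cfsg.Agent.Helper77.BlockAction
import Cfsg.Agent.Helper16.Defect

/-!
# Transport of blocks, block idempotents and defect groups along a group isomorphism
-/

set_option autoImplicit false
set_option linter.unusedSectionVars false
set_option linter.unusedVariables false

namespace Cfsg.Agent.Helper78

open Cfsg
open scoped ComplexConjugate

universe u v

variable {H : Type u} {H' : Type v} [Group H] [Group H'] {M : Ideal AlgInt}

theorem bijOn_irrMap_image (σ : H ≃* H') (S : Set (IrrCharacter H)) :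
    Set.BijOn (irrMap σ) S (irrMap σ '' S) :=
  ⟨Set.mapsTo_image _ _, (irrMap_injective σ).injOn, Set.surjOn_image _ _⟩

theorem blockCoeff_image_irrMap_equiv (σ : H ≃* H') (S : Set (IrrCharacter H)) (h' : H') :
    blockCoeff (irrMap σ '' S) h' = blockCoeff S (σ.symm h') :=
  blockCoeff_of_bijOn σ (bijOn_irrMap_image σ S) h'

theorem image_irrMap_symm_image_irrMap (σ : H ≃* H') (S : Set (IrrCharacter H)) :
    irrMap σ.symm '' (irrMap σ '' S) = S := by
  rw [Set.image_image]
  simp only [irrMap_symm_irrMap, Set.image_id']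

theorem image_irrMap_image_irrMap_symm (σ : H ≃* H') (S : Set (IrrCharacter H')) :
    irrMap σ '' (irrMap σ.symm '' S) = S := by
  rw [Set.image_image]
  simp only [irrMap_irrMap_symm, Set.image_id']

theorem centralizer_singleton_map_equiv (σ : H ≃* H') (h : H) :
    Subgroup.centralizer ({σ h} : Set H') =
      (Subgroup.centralizer ({h} : Set H)).map (σ : H →* H') := by
  ext x
  simp only [Subgroup.mem_centralizer_singleton_iff, Subgroup.mem_map, MonoidHom.coe_coe]
  constructor
  · intro hx
    refine ⟨σ.symm x, ?_, by simp⟩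
    apply σ.injective
    simpa using hx
  · rintro ⟨y, hy, rfl⟩
    rw [← map_mul, ← map_mul, hy]

theorem isDefectClass_image_irrMap (σ : H ≃* H') {S : Set (IrrCharacter H)} {g : H}
    (hg : IsDefectClass M S g) : IsDefectClass M (irrMap σ '' S) (σ g) := by
  obtain ⟨h1, h2, h3⟩ := hg
  refine ⟨?_, ?_, ?_⟩
  · rw [blockCoeff_image_irrMap_equiv, MulEquiv.symm_apply_apply]; exact h1
  · rw [blockCoeff_image_irrMap_equiv, MulEquiv.symm_apply_apply]; exact h2
  · rintro χ' ⟨χ, hχ, rfl⟩
    have : centralChar (irrMap σ χ : H' → ℂ) (σ g) = centralChar (χ : H → ℂ) g := by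
      have := centralChar_comp_symm σ (χ : H → ℂ) (σ g)
      rw [MulEquiv.symm_apply_apply] at this
      exact this
    rw [this]
    exact h3 χ hχ

theorem isDefectGroup_image_irrMap [Finite H] (p : ℕ) [Fact p.Prime] (σ : H ≃* H')
    {S : Set (IrrCharacter H)} {D : Subgroup H} (hD : IsDefectGroup p M S D) :
    IsDefectGroup p M (irrMap σ '' S) (D.map (σ : H →* H')) := by
  classical
  haveI : Finite H' := Finite.of_equiv H σ.toEquiv
  haveI : Fintype H := Fintype.ofFinite H
  haveI : Fintype H' := Fintype.ofFinite H'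
  rw [Helper16.isDefectGroup_iff] at hD ⊢
  obtain ⟨g, hg, hle, hcard⟩ := hD
  refine ⟨σ g, isDefectClass_image_irrMap σ hg, ?_, ?_⟩
  · rw [centralizer_singleton_map_equiv]
    exact Subgroup.map_mono hle
  · rw [centralizer_singleton_map_equiv,
      Subgroup.card_map_of_injective (f := (σ : H →* H')) σ.injective,
      Subgroup.card_map_of_injective (f := (σ : H →* H')) σ.injective]
    exact hcard

end Cfsg.Agent.Helper78
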