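import Cfsg.Agent.Helper16.ThirdMain
import Cfsg.Agent.Helper16.Idempotent
import Cfsg.Agent.Helper77.BlockAction
import Cfsg.Agent.Helper78.BlockTransport

/-!
# Transitivity and transport of block induction; kernels under block induction

* `isInducedBlock_conj_transport`: transport of `b^G = B` along an isomorphism `H ≃ H'` of subgroups
  of `G` that is realised by conjugation in `G`.
* `isInducedBlock_trans_map`: for `X ≤ K ≤ G`, `(b^K)^G = b^G`.
* `blockKer_induced_iff`: if `b^G = B` and `K ⊴ G` is a `p'`-group, then `K ≤ ker B` iff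
  `K ∩ H ≤ ker b`.
-/

set_option autoImplicit false
set_option linter.unusedSectionVars false
set_option linter.unusedVariables false

namespace Cfsg.Agent.Helper78

open Cfsg
open scoped ComplexConjugate

universe u

section Transport

variable {G : Type u} [Group G] {M : Ideal AlgInt}

/-- `omega` transported along an isomorphism. -/
theorem omega_irrMap {H H' : Type*} [Group H] [Group H'] [Fintype H] [Fintype H'] (e : H ≃* H')
    (ξ : IrrCharacter H) (s : H' → ℂ) :
    Helper16.omega (irrMap e ξ : H' → ℂ) s = Helper16.omega (ξ : H → ℂ) (fun h => s (e h)) := by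
  unfold Helper16.omega
  rw [irrMap_apply, map_one]
  congr 1
  refine (Fintype.sum_equiv e.toEquiv _ _ (fun h => ?_)).symm
  show s (e h) * (ξ : H → ℂ) h = s (e h) * (irrMap e ξ : H' → ℂ) (e h)
  rw [irrMap_apply_apply]

/-- The induced central character transported along an isomorphism of subgroups which is realised
by conjugation. -/
theorem inducedCentralChar_irrMap_of_conj {H H' : Subgroup G} (e : ↥H ≃* ↥H') (g : G)
    (he : ∀ h : H, ((e h : H') : G) = g * (h : G) * g⁻¹) (ξ : IrrCharacter H) (x : G) :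
    inducedCentralChar H' (irrMap e ξ : H' → ℂ) x = inducedCentralChar H (ξ : H → ℂ) x := by
  unfold inducedCentralChar
  symm
  refine finsum_mem_eq_of_bijOn (fun h => e h) ⟨?_, e.injective.injOn, ?_⟩ ?_
  · intro h hh
    show IsConj x ((e h : H') : G)
    rw [he]
    exact (show IsConj x (h : G) from hh).trans (isConj_iff.mpr ⟨g, rfl⟩)
  · intro h' hh'
    refine ⟨e.symm h', ?_, e.apply_symm_apply h'⟩
    show IsConj x ((e.symm h' : H) : G)
    have h1 : IsConj x (h' : G) := hh'
    have h2 := he (e.symm h')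
    rw [e.apply_symm_apply] at h2
    rw [h2] at h1
    exact h1.trans (isConj_iff.mpr ⟨g, rfl⟩).symm
  · intro h _
    show (ξ : H → ℂ) h / (ξ : H → ℂ) 1 = (irrMap e ξ : H' → ℂ) (e h) / (irrMap e ξ : H' → ℂ) 1
    rw [irrMap_apply_apply, irrMap_apply, map_one]

/-- Transport of `b^G = B` along an isomorphism of subgroups realised by conjugation. -/
theorem isInducedBlock_conj_transport {H H' : Subgroup G} (e : ↥H ≃* ↥H') (g : G)
    (he : ∀ h : H, ((e h : H') : G) = g * (h : G) * g⁻¹)
    {b : Set (IrrCharacter H)} {B : Set (IrrCharacter G)} (h : IsInducedBlock M H b B) :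
    IsInducedBlock M H' (irrMap e '' b) B := by
  refine ⟨Helper77.isPBlock_image_irrMap e h.1, h.2.1, ?_⟩
  rintro _ ⟨ξ, hξ, rfl⟩ χ hχ x
  rw [inducedCentralChar_irrMap_of_conj e g he]
  exact h.2.2 ξ hξ χ hχ x

/-- Transport along an isomorphism of subgroups commuting with the inclusions. -/
theorem isInducedBlock_transport {H H' : Subgroup G} (e : ↥H ≃* ↥H')
    (he : ∀ h : H, ((e h : H') : G) = (h : G))
    {b : Set (IrrCharacter H)} {B : Set (IrrCharacter G)} (h : IsInducedBlock M H b B) :
    IsInducedBlock M H' (irrMap e '' b) B :=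
  isInducedBlock_conj_transport e 1 (fun h => by rw [he]; simp) h

/-- Transport back. -/
theorem isInducedBlock_of_transport {H H' : Subgroup G} (e : ↥H ≃* ↥H')
    (he : ∀ h : H, ((e h : H') : G) = (h : G))
    {b : Set (IrrCharacter H)} {B : Set (IrrCharacter G)}
    (h : IsInducedBlock M H' (irrMap e '' b) B) : IsInducedBlock M H b B := by
  have h1 := isInducedBlock_transport (M := M) e.symm (fun h' => by
    have := he (e.symm h')
    rw [e.apply_symm_apply] at this
    exact this.symm) h
  rwa [image_irrMap_symm_image_irrMap] at h1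

end Transport

section Trans

variable {G : Type u} [Group G] [Finite G] {M : Ideal AlgInt}

/-- Transitivity of block induction: `X ≤ K ≤ G`, `b'^K = B₀`, `B₀^G = B` gives `b'^G = B`. -/
theorem isInducedBlock_trans_map [hMp : M.IsPrime] (K : Subgroup G) (X : Subgroup ↥K)
    {b' : Set (IrrCharacter ↥X)} {B₀ : Set (IrrCharacter ↥K)} {B : Set (IrrCharacter G)}
    (h1 : IsInducedBlock M X b' B₀) (h2 : IsInducedBlock M K B₀ B) :
    IsInducedBlock M (X.map K.subtype)
      (irrMap (X.equivMapOfInjective K.subtype K.subtype_injective) '' b') B := by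
  classical
  haveI : Fintype G := Fintype.ofFinite G
  haveI : Fintype K := Fintype.ofFinite K
  haveI : Fintype X := Fintype.ofFinite X
  haveI : Fintype (X.map K.subtype) := Fintype.ofFinite _
  set e := X.equivMapOfInjective K.subtype K.subtype_injective with he
  refine ⟨Helper77.isPBlock_image_irrMap e h1.1, h2.2.1, ?_⟩
  rintro _ ⟨ξ, hξ, rfl⟩ χ hχ g
  obtain ⟨χ₀, hχ₀⟩ := isPBlock_nonempty hMp h1.2.1
  have a1 := Helper16.omega_restrict_sub_memLocalIdeal (M := M) X h1 hξ hχ₀
    (S := Helper16.classIndRes K g) (Helper16.isClassFunction_classIndRes K g)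
    (Helper16.classIndRes_memLocalRing K g)
  have a2 := h2.2.2 χ₀ hχ₀ χ hχ g
  rw [Helper16.inducedCentralChar_eq_omega] at a2
  have a3 : inducedCentralChar (X.map K.subtype) (irrMap e ξ : _ → ℂ) g =
      Helper16.omega (ξ : X → ℂ) (fun x : X => Helper16.classIndRes K g (x : K)) := by
    rw [Helper16.inducedCentralChar_eq_omega, omega_irrMap]
    rfl
  rw [a3]
  have := Helper16.memLocalIdeal_add a1 a2
  rwa [sub_add_sub_cancel] at this

theorem irrMap_trans {H H' H'' : Type*} [Group H] [Group H'] [Group H''] (e₁ : H ≃* H')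
    (e₂ : H' ≃* H'') (ξ : IrrCharacter H) :
    irrMap (e₁.trans e₂) ξ = irrMap e₂ (irrMap e₁ ξ) := by
  apply Subtype.ext
  funext h
  rfl

/-- Flat version of transitivity: `G₀ ≤ N ≤ G`, a block of `G₀` induced first to `N` (inside the
group `N`) and then to `G`. -/
theorem isInducedBlock_trans_flat [hMp : M.IsPrime] {G₀ N : Subgroup G} (hle : G₀ ≤ N)
    {B₀ : Set (IrrCharacter ↥G₀)} {β : Set (IrrCharacter ↥N)} {B : Set (IrrCharacter G)}
    (h1 : IsInducedBlock M (G₀.subgroupOf N)
      (irrMap (Subgroup.subgroupOfEquivOfLe hle).symm '' B₀) β)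
    (h2 : IsInducedBlock M N β B) : IsInducedBlock M G₀ B₀ B := by
  have h3 := isInducedBlock_trans_map N (G₀.subgroupOf N) h1 h2
  rw [Set.image_image] at h3
  set e₁ := (Subgroup.subgroupOfEquivOfLe hle).symm with he₁
  set e₂ := (G₀.subgroupOf N).equivMapOfInjective N.subtype N.subtype_injective with he₂
  have h4 : (fun x => irrMap e₂ (irrMap e₁ x)) = irrMap (e₁.trans e₂) := by
    funext ξ
    rw [irrMap_trans]
  rw [h4] at h3
  refine isInducedBlock_of_transport (e₁.trans e₂) (fun x => ?_) h3
  show ((e₂ (e₁ x) : _) : G) = (x : G)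
  rw [he₂, Subgroup.coe_equivMapOfInjective_apply]
  show (((Subgroup.subgroupOfEquivOfLe hle).symm x : N) : G) = (x : G)
  rfl

end Trans

section Kernel

variable {G : Type u} [Group G] [Finite G] {M : Ideal AlgInt} {p : ℕ}

theorem mem_blockKer_image_irrMap {H H' : Type*} [Group H] [Group H'] (e : H ≃* H')
    (S : Set (IrrCharacter H)) (h : H) : e h ∈ blockKer (irrMap e '' S) ↔ h ∈ blockKer S := by
  constructor
  · intro hh ξ hξ
    have := hh (irrMap e ξ) ⟨ξ, hξ, rfl⟩
    rwa [irrMap_apply_apply, irrMap_apply, map_one] at this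
  · rintro hh _ ⟨ξ, hξ, rfl⟩
    rw [irrMap_apply_apply, irrMap_apply, map_one]
    exact hh ξ hξ

/-- `|K|⁻¹` is a unit of the local ring when `p ∤ |K|`. -/
theorem not_memLocalIdeal_inv_natCast [Fact p.Prime] (hM : IsPModular p M) {n : ℕ}
    (hn : ¬ p ∣ n) : ¬ MemLocalIdeal M ((n : ℂ)⁻¹) := by
  have hMp : M.IsPrime := isPrime_of_isPModular hM
  intro hcon
  have hn0 : (n : ℂ) ≠ 0 := by
    intro h0
    have : n = 0 := by exact_mod_cast h0
    exact hn (this ▸ dvd_zero p)
  have h1 : MemLocalRing M (n : ℂ) := Helper16.memLocalRing_natCast n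
  have := Helper16.memLocalIdeal_mul_left h1 hcon
  rw [mul_inv_cancel₀ hn0] at this
  exact Helper16.not_memLocalIdeal_one this

/-- The kernel lemma: if `b^G = B` and `K ⊴ G` is a `p'`-group then `K ≤ ker B` iff
`K ∩ H ≤ ker b`. -/
theorem blockKer_induced_iff [Fact p.Prime] (hM : IsPModular p M) (H : Subgroup G)
    {b : Set (IrrCharacter H)} {B : Set (IrrCharacter G)} (hind : IsInducedBlock M H b B)
    (K : Subgroup G) [hKn : K.Normal] (hK : ¬ p ∣ Nat.card K) :
    (∀ k ∈ K, k ∈ blockKer B) ↔ (∀ h : H, (h : G) ∈ K → h ∈ blockKer b) := by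
  classical
  haveI hMp : M.IsPrime := isPrime_of_isPModular hM
  haveI : Fintype G := Fintype.ofFinite G
  haveI : Fintype H := Fintype.ofFinite H
  haveI : Fintype K := Fintype.ofFinite K
  set K' : Subgroup H := K.subgroupOf H with hK'
  haveI : K'.Normal := Subgroup.Normal.subgroupOf hKn H
  haveI : Fintype K' := Fintype.ofFinite K'
  have hK'dvd : Nat.card K' ∣ Nat.card K :=
    Subgroup.card_comap_dvd_of_injective K H.subtype Subtype.coe_injective
  have hK'p : ¬ p ∣ Nat.card K' := fun h => hK (h.trans hK'dvd)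
  -- the idempotent and its restriction
  set s : G → ℂ := Helper16.subgroupIdem K with hs
  have hscf : IsClassFunction G s := Helper16.isClassFunction_subgroupIdem K
  have hsR : ∀ g, MemLocalRing M (s g) := Helper16.subgroupIdem_memLocalRing hM K hK
  have hss : Helper16.conv s s = s := Helper16.conv_subgroupIdem K
  set r : ℂ := (Nat.card K' : ℂ) * (Nat.card K : ℂ)⁻¹ with hr
  have hK0 : (Nat.card K : ℂ) ≠ 0 := by exact_mod_cast (Nat.card_pos (α := K)).ne'
  have hK'0 : (Nat.card K' : ℂ) ≠ 0 := by exact_mod_cast (Nat.card_pos (α := K')).ne'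
  have hrJ : ¬ MemLocalIdeal M r :=
    Helper16.not_memLocalIdeal_mul (Helper16.memLocalRing_natCast _)
      (Helper16.not_memLocalIdeal_natCast hM hK'p) (not_memLocalIdeal_inv_natCast hM hK)
  have hres : ∀ ξ : IrrCharacter H, Helper16.omega (ξ : H → ℂ) (fun h : H => s h) =
      r * Helper16.omega (ξ : H → ℂ) (Helper16.subgroupIdem K') := by
    intro ξ
    unfold Helper16.omega
    rw [← mul_div_assoc, Finset.mul_sum]
    congr 1
    refine Finset.sum_congr rfl (fun h _ => ?_)
    rw [hs]
    unfold Helper16.subgroupIdem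
    by_cases hh : (h : G) ∈ K
    · have hh' : h ∈ K' := Subgroup.mem_subgroupOf.mpr hh
      simp only [if_pos hh, if_pos hh', hr]
      field_simp
    · have hh' : h ∉ K' := fun h' => hh (Subgroup.mem_subgroupOf.mp h')
      simp only [if_neg hh, if_neg hh']
      ring
  have hcong : ∀ ξ ∈ b, ∀ χ ∈ B, MemLocalIdeal M
      (r * Helper16.omega (ξ : H → ℂ) (Helper16.subgroupIdem K') -
        Helper16.omega (χ : G → ℂ) s) := by
    intro ξ hξ χ hχ
    rw [← hres]
    exact Helper16.omega_restrict_sub_memLocalIdeal (M := M) H hind hξ hχ hscf hsR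
  constructor
  · intro hker h hhK ξ hξ
    obtain ⟨χ, hχ⟩ := isPBlock_nonempty hMp hind.2.1
    have h1 : Helper16.omega (χ : G → ℂ) s = 1 :=
      (Helper16.omega_subgroupIdem_eq_one_iff χ K).mpr (fun n => hker n n.2 χ hχ)
    have h2 := hcong ξ hξ χ hχ
    rw [h1] at h2
    rcases Helper16.omega_idempotent ξ (Helper16.isClassFunction_subgroupIdem K')
      (Helper16.conv_subgroupIdem K') with h0 | h0
    · rw [h0, mul_zero, zero_sub] at h2
      have := Helper16.memLocalIdeal_neg h2
      rw [neg_neg] at this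
      exact absurd this Helper16.not_memLocalIdeal_one
    · exact (Helper16.omega_subgroupIdem_eq_one_iff ξ K').mp h0 ⟨h, Subgroup.mem_subgroupOf.mpr hhK⟩
  · intro hker k hk χ hχ
    obtain ⟨ξ, hξ⟩ := isPBlock_nonempty hMp hind.1
    have h1 : Helper16.omega (ξ : H → ℂ) (Helper16.subgroupIdem K') = 1 :=
      (Helper16.omega_subgroupIdem_eq_one_iff ξ K').mpr
        (fun n => hker n (Subgroup.mem_subgroupOf.mp n.2) ξ hξ)
    have h2 := hcong ξ hξ χ hχ
    rw [h1, mul_one] at h2
    rcases Helper16.omega_idempotent χ hscf hss with h0 | h0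
    · rw [h0, sub_zero] at h2
      exact absurd h2 hrJ
    · exact (Helper16.omega_subgroupIdem_eq_one_iff χ K).mp h0 ⟨k, hk⟩

end Kernel

end Cfsg.Agent.Helper78
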