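import Cfsg.Agent.Helper78.Fong
import Cfsg.Agent.Helper81.CliffordInd
import Cfsg.Agent.S0932

/-!
# The Fong–Reynolds correspondence

`N ⊴ G`, `b` a block of `N`, `T` the stabilizer of `b` in `G`.  Induction gives a bijection from
the irreducible characters of `T` lying over `b` onto those of `G` lying over `b`, compatible with
blocks.
-/

set_option autoImplicit false
set_option linter.unusedSectionVars false
set_option linter.unusedVariables false

namespace Cfsg.Agent.Helper78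

open Cfsg
open scoped ComplexConjugate

universe u

section General

variable {H : Type*} [Group H] [Fintype H]

/-- A central element of the group algebra acts on an irreducible character by its central
character: `∑ z(u) χ(s u) = ω_χ(z) χ(s)`. -/
theorem sum_mul_irr_mul (χ : IrrCharacter H) {z : H → ℂ} (hz : IsClassFunction H z) (s : H) :
    ∑ u : H, z u * (χ : H → ℂ) (s * u) = Helper16.omega (χ : H → ℂ) z * (χ : H → ℂ) s := by
  obtain ⟨n, ρ, hirr, hχ⟩ := χ.2
  haveI := hirr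
  have h1 := Helper16.repSum_eq_omega ρ hz
  have h2 : LinearMap.trace ℂ _ (ρ s * Helper16.repSum ρ z) =
      Helper16.omega ρ.character z * ρ.character s := by
    rw [h1, mul_smul_comm, mul_one, map_smul, smul_eq_mul]
    rfl
  have h3 : LinearMap.trace ℂ _ (ρ s * Helper16.repSum ρ z) =
      ∑ u : H, z u * ρ.character (s * u) := by
    unfold Helper16.repSum
    rw [Finset.mul_sum, map_sum]
    refine Finset.sum_congr rfl (fun u _ => ?_)
    rw [mul_smul_comm, map_smul, smul_eq_mul, ← map_mul]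
    rfl
  rw [← hχ, ← h3, h2]

end General

section SubSum

variable {G : Type u} [Group G] {N T : Subgroup G} [Fintype N] [Fintype T]

/-- A sum over `T` of a function vanishing off `N ≤ T` is a sum over `N`. -/
theorem sum_eq_sum_inclusion (hNT : N ≤ T) (F : T → ℂ) (hF : ∀ t : T, (t : G) ∉ N → F t = 0) :
    ∑ t : T, F t = ∑ n : N, F (Subgroup.inclusion hNT n) := by
  classical
  have hinj : Function.Injective (Subgroup.inclusion hNT) := Subgroup.inclusion_injective hNT
  rw [← Finset.sum_image (s := Finset.univ) (g := Subgroup.inclusion hNT) (f := F)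
    (fun x _ y _ h => hinj h)]
  symm
  apply Finset.sum_subset (Finset.subset_univ _)
  intro t _ ht
  apply hF
  intro htN
  apply ht
  rw [Finset.mem_image]
  exact ⟨⟨(t : G), htN⟩, Finset.mem_univ _, Subtype.ext rfl⟩

end SubSum

section FR

variable {G : Type u} [Group G] [Fintype G] {M : Ideal AlgInt} {p : ℕ}
variable (N : Subgroup G) [hN : N.Normal] [Fintype N]

/-- Conjugation of block idempotents: general form. -/
theorem blockCoeff_conj_of_iff {O O' : Set (IrrCharacter N)} (g : G)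
    (h : ∀ θ : IrrCharacter N, Helper16.irrConj N g θ ∈ O' ↔ θ ∈ O) (n : N) :
    blockCoeff O ⟨g * n * g⁻¹, hN.conj_mem (n : G) n.2 g⟩ = blockCoeff O' n := by
  classical
  rw [Helper16.blockCoeff_eq_sum, Helper16.blockCoeff_eq_sum]
  congr 1
  rw [← Equiv.sum_comp (Helper16.irrConjEquiv N g)
    (fun θ : IrrCharacter N => (if θ ∈ O' then (1 : ℂ) else 0) * (θ : N → ℂ) 1 *
      conj ((θ : N → ℂ) n))]
  refine Finset.sum_congr rfl (fun θ _ => ?_)
  show _ = (if Helper16.irrConj N g θ ∈ O' then (1 : ℂ) else 0) *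
      (Helper16.irrConj N g θ : N → ℂ) 1 * conj ((Helper16.irrConj N g θ : N → ℂ) n)
  rw [Helper16.irrConj_coe, Helper16.conjFun_apply_one, Helper15.conjFun_apply]
  by_cases hθ : θ ∈ O
  · rw [if_pos hθ, if_pos ((h θ).mpr hθ)]
  · rw [if_neg hθ, if_neg (fun h' => hθ ((h θ).mp h'))]

/-- The conjugate block `b^x`. -/
def conjBlk (x : G) (b : Set (IrrCharacter N)) : Set (IrrCharacter N) :=
  {θ' | Helper16.irrConj N x⁻¹ θ' ∈ b}

theorem irrConj_mem_conjBlk_iff (x : G) (b : Set (IrrCharacter N)) (θ : IrrCharacter N) :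
    Helper16.irrConj N x θ ∈ conjBlk N x b ↔ θ ∈ b := by
  show Helper16.irrConj N x⁻¹ (Helper16.irrConj N x θ) ∈ b ↔ θ ∈ b
  rw [Helper16.irrConj_irrConj, mul_inv_cancel, Helper16.irrConj_one]

theorem isPBlock_conjBlk [hMp : M.IsPrime] (x : G) {b : Set (IrrCharacter N)}
    (hb : IsPBlock M b) : IsPBlock M (conjBlk N x b) := by
  obtain ⟨θ₀, rfl⟩ := hb
  refine ⟨Helper16.irrConj N x θ₀, ?_⟩
  ext θ'
  constructor
  · intro h
    have h1 : SameBlock M (θ₀ : N → ℂ) ((Helper16.irrConj N x⁻¹ θ' : IrrCharacter N) : N → ℂ) := h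
    have h2 := Helper16.sameBlock_conjFun N h1 x
    have e : Helper15.conjFun N x ((Helper16.irrConj N x⁻¹ θ' : IrrCharacter N) : N → ℂ) =
        (θ' : N → ℂ) := by
      have := Helper16.irrConj_irrConj N x⁻¹ x θ'
      rw [inv_mul_cancel, Helper16.irrConj_one] at this
      exact congrArg Subtype.val this
    rw [e] at h2
    exact h2
  · intro h
    have h1 : SameBlock M (Helper15.conjFun N x (θ₀ : N → ℂ)) (θ' : N → ℂ) := h
    have h2 := Helper16.sameBlock_conjFun N h1 x⁻¹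
    have e : Helper15.conjFun N x⁻¹ (Helper15.conjFun N x (θ₀ : N → ℂ)) = (θ₀ : N → ℂ) := by
      have := Helper16.irrConj_irrConj N x x⁻¹ θ₀
      rw [mul_inv_cancel, Helper16.irrConj_one] at this
      exact congrArg Subtype.val this
    rw [e] at h2
    exact h2

/-- The idempotent of `b` conjugated by `x` is the idempotent of `b^x`. -/
theorem blockCoeff_conj_eq_conjBlk (x : G) (b : Set (IrrCharacter N)) (n : N) :
    blockCoeff b ⟨x * n * x⁻¹, hN.conj_mem (n : G) n.2 x⟩ = blockCoeff (conjBlk N x b) n :=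
  blockCoeff_conj_of_iff N x (irrConj_mem_conjBlk_iff N x b) n

variable (T : Subgroup G) [Fintype T] (hNT : N ≤ T) (b : Set (IrrCharacter N))

/-- The idempotent of `b` as a function on `T`. -/
noncomputable def eT : T → ℂ := fun t => extendByZero N (blockCoeff b) (t : G)

theorem eT_of_mem {t : T} (ht : (t : G) ∈ N) : eT N T b t = blockCoeff b ⟨(t : G), ht⟩ :=
  Helper15.extendByZero_of_mem N _ ht

theorem eT_of_not_mem {t : T} (ht : (t : G) ∉ N) : eT N T b t = 0 :=
  Helper15.extendByZero_of_not_mem N _ ht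

theorem eT_inclusion (n : N) : eT N T b (Subgroup.inclusion hNT n) = blockCoeff b n :=
  eT_of_mem N T b (t := Subgroup.inclusion hNT n) n.2

theorem isClassFunction_eT
    (hstab : ∀ t ∈ T, ∀ θ : IrrCharacter N, Helper16.irrConj N t θ ∈ b ↔ θ ∈ b) :
    IsClassFunction T (eT N T b) := by
  intro t s
  by_cases ht : (t : G) ∈ N
  · have ht' : ((s * t * s⁻¹ : T) : G) ∈ N := by
      simpa using hN.conj_mem (t : G) ht (s : G)
    rw [eT_of_mem N T b ht, eT_of_mem N T b ht']
    have := blockCoeff_conj_of_iff N (O := b) (O' := b) (s : G) (hstab (s : G) s.2) ⟨(t : G), ht⟩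
    rw [← this]
    congr 1
  · have ht' : ((s * t * s⁻¹ : T) : G) ∉ N := by
      intro h
      apply ht
      have := hN.conj_mem _ h (s : G)⁻¹
      simpa [mul_assoc] using this
    rw [eT_of_not_mem N T b ht, eT_of_not_mem N T b ht']

theorem memLocalRing_eT [hMp : M.IsPrime] (hb : IsPBlock M b) (t : T) :
    MemLocalRing M (eT N T b t) := by
  by_cases ht : (t : G) ∈ N
  · rw [eT_of_mem N T b ht]; exact Helper16.osima hb _
  · rw [eT_of_not_mem N T b ht]; exact Helper16.memLocalRing_zero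

/-- Pairing of `eT` with a function on `T`. -/
theorem sum_eT_mul (F : T → ℂ) :
    ∑ t : T, eT N T b t * F t = ∑ n : N, blockCoeff b n * F (Subgroup.inclusion hNT n) := by
  rw [sum_eq_sum_inclusion hNT (fun t => eT N T b t * F t)
    (fun t ht => by rw [eT_of_not_mem N T b ht, zero_mul])]
  refine Finset.sum_congr rfl (fun n _ => ?_)
  rw [eT_inclusion]

end FR

section Core

variable {G : Type u} [Group G] [Fintype G] {M : Ideal AlgInt} {p : ℕ}
variable (N : Subgroup G) [hN : N.Normal] [Fintype N]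
variable (T : Subgroup G) [Fintype T] (hNT : N ≤ T) (b : Set (IrrCharacter N))

include hNT

/-- `eT` is an idempotent of the centre of the group algebra of `T`. -/
theorem conv_eT_eT [hMp : M.IsPrime] (hb : IsPBlock M b) :
    Helper16.conv (eT N T b) (eT N T b) = eT N T b := by
  classical
  funext t
  rw [Helper16.conv_apply, sum_eT_mul N T hNT b (fun x => eT N T b (x⁻¹ * t))]
  by_cases ht : (t : G) ∈ N
  · rw [eT_of_mem N T b ht]
    have h1 := congrFun (Helper77.blockCoeff_conv_self hb) ⟨(t : G), ht⟩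
    rw [Helper16.conv_apply] at h1
    rw [← h1]
    refine Finset.sum_congr rfl (fun n _ => ?_)
    have hm : (((Subgroup.inclusion hNT n)⁻¹ * t : T) : G) ∈ N := by
      have : (((Subgroup.inclusion hNT n)⁻¹ * t : T) : G) = (n : G)⁻¹ * (t : G) := by simp
      rw [this]
      exact N.mul_mem (N.inv_mem n.2) ht
    rw [eT_of_mem N T b hm]
    congr 2
  · rw [eT_of_not_mem N T b ht]
    refine Finset.sum_eq_zero (fun n _ => ?_)
    have hm : (((Subgroup.inclusion hNT n)⁻¹ * t : T) : G) ∉ N := by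
      have : (((Subgroup.inclusion hNT n)⁻¹ * t : T) : G) = (n : G)⁻¹ * (t : G) := by simp
      rw [this]
      intro h
      apply ht
      have := N.mul_mem n.2 h
      rwa [mul_inv_cancel_left] at this
    rw [eT_of_not_mem N T b hm, mul_zero]

open Classical in
/-- The central character of `ψ ∈ Irr(T)` at `eT`, in terms of the constituents of `ψ_N`. -/
theorem omega_eT (ψ : IrrCharacter T) :
    Helper16.omega (ψ : T → ℂ) (eT N T b) =
      (∑ θ : IrrCharacter N, (if θ ∈ b then (1 : ℂ) else 0) * (θ : N → ℂ) 1 *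
        classInner (Helper15.resTo N T hNT (ψ : T → ℂ)) (θ : N → ℂ)) / (ψ : T → ℂ) 1 := by
  classical
  unfold Helper16.omega
  rw [sum_eT_mul N T hNT b (fun t => (ψ : T → ℂ) t),
    ← Helper16.sum_blockCoeff_mul b (Helper15.resTo N T hNT (ψ : T → ℂ))]
  rfl

/-- `ω_ψ(eT)` is `0` or `1`. -/
theorem omega_eT_sq [hMp : M.IsPrime] (hb : IsPBlock M b)
    (hstab : ∀ t ∈ T, ∀ θ : IrrCharacter N, Helper16.irrConj N t θ ∈ b ↔ θ ∈ b)
    (ψ : IrrCharacter T) :
    Helper16.omega (ψ : T → ℂ) (eT N T b) = 0 ∨ Helper16.omega (ψ : T → ℂ) (eT N T b) = 1 := by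
  have hcf := isClassFunction_eT N T b hstab
  have h := Helper16.irr_omega_conv ψ hcf hcf
  rw [conv_eT_eT N T hNT b hb] at h
  have h2 : Helper16.omega (ψ : T → ℂ) (eT N T b) *
      (Helper16.omega (ψ : T → ℂ) (eT N T b) - 1) = 0 := by
    rw [mul_sub, mul_one, ← h, sub_self]
  rcases mul_eq_zero.mp h2 with h3 | h3
  · exact Or.inl h3
  · exact Or.inr (sub_eq_zero.mp h3)

/-- A character of `T` lying over `b` has `ω_ψ(eT) = 1`. -/
theorem omega_eT_eq_one [hMp : M.IsPrime] (hb : IsPBlock M b)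
    (hstab : ∀ t ∈ T, ∀ θ : IrrCharacter N, Helper16.irrConj N t θ ∈ b ↔ θ ∈ b)
    (ψ : IrrCharacter T) (θ₀ : IrrCharacter N) (hθ₀ : θ₀ ∈ b)
    (h : classInner (Helper15.resTo N T hNT (ψ : T → ℂ)) (θ₀ : N → ℂ) ≠ 0) :
    Helper16.omega (ψ : T → ℂ) (eT N T b) = 1 := by
  classical
  rcases omega_eT_sq N T hNT b hb hstab ψ with h0 | h1
  · exfalso
    rw [omega_eT N T hNT b ψ, div_eq_zero_iff] at h0
    rcases h0 with h0 | h0
    · -- the sum of natural numbers with a positive term is nonzero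
      have hψN : IsCharacter N (Helper15.resTo N T hNT (ψ : T → ℂ)) :=
        Helper15.isCharacter_resTo N T hNT (Helper74.irr_isCharacter ψ)
      choose m hm using fun θ : IrrCharacter N =>
        Helper15.isCharacter_inner_nat hψN (Helper74.irr_isCharacter θ)
      choose d hd using fun θ : IrrCharacter N => Helper15.irr_degree_pos θ.2
      have hsum : ∑ θ : IrrCharacter N, (if θ ∈ b then (1 : ℂ) else 0) * (θ : N → ℂ) 1 *
          classInner (Helper15.resTo N T hNT (ψ : T → ℂ)) (θ : N → ℂ) =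
          ((∑ θ : IrrCharacter N, (if θ ∈ b then 1 else 0) * d θ * m θ : ℕ) : ℂ) := by
        push_cast
        refine Finset.sum_congr rfl (fun θ _ => ?_)
        rw [hm θ, (hd θ).2]
      rw [hsum] at h0
      have h0' : ∑ θ : IrrCharacter N, (if θ ∈ b then 1 else 0) * d θ * m θ = 0 := by
        exact_mod_cast h0
      have h1 := (Finset.sum_eq_zero_iff.mp h0') θ₀ (Finset.mem_univ _)
      rw [if_pos hθ₀, one_mul] at h1
      rcases Nat.mul_eq_zero.mp h1 with h2 | h2
      · exact (hd θ₀).1.ne' h2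
      · apply h
        rw [hm θ₀, h2]
        simp
    · exact Helper16.irr_one_ne_zero ψ h0
  · exact h1

/-- Conversely, `ω_ψ(eT) = 1` forces `ψ` to lie over `b`. -/
theorem exists_of_omega_eT_eq_one (ψ : IrrCharacter T)
    (h : Helper16.omega (ψ : T → ℂ) (eT N T b) = 1) :
    ∃ θ ∈ b, classInner (Helper15.resTo N T hNT (ψ : T → ℂ)) (θ : N → ℂ) ≠ 0 := by
  classical
  by_contra hcon
  push_neg at hcon
  rw [omega_eT N T hNT b ψ] at h
  have : ∑ θ : IrrCharacter N, (if θ ∈ b then (1 : ℂ) else 0) * (θ : N → ℂ) 1 *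
      classInner (Helper15.resTo N T hNT (ψ : T → ℂ)) (θ : N → ℂ) = 0 := by
    refine Finset.sum_eq_zero (fun θ _ => ?_)
    by_cases hθ : θ ∈ b
    · rw [hcon θ hθ, mul_zero]
    · rw [if_neg hθ, zero_mul, zero_mul]
  rw [this, zero_div] at h
  exact zero_ne_one h

/-- `ψ(s) = ∑ e_b(n) ψ(s n)` for `ψ` over `b`. -/
theorem sum_blockCoeff_mul_irr
    (hstab : ∀ t ∈ T, ∀ θ : IrrCharacter N, Helper16.irrConj N t θ ∈ b ↔ θ ∈ b)
    (ψ : IrrCharacter T) (hω : Helper16.omega (ψ : T → ℂ) (eT N T b) = 1) (s : T) :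
    ∑ n : N, blockCoeff b n * (ψ : T → ℂ) (s * Subgroup.inclusion hNT n) = (ψ : T → ℂ) s := by
  have h := sum_mul_irr_mul ψ (isClassFunction_eT N T b hstab) s
  rw [hω, one_mul, sum_eT_mul N T hNT b (fun u => (ψ : T → ℂ) (s * u))] at h
  exact h

/-- An element of the group algebra of `N` orthogonal to `e_b` is killed by `ψ` over `b`. -/
theorem sum_mul_irr_eq_zero
    (hstab : ∀ t ∈ T, ∀ θ : IrrCharacter N, Helper16.irrConj N t θ ∈ b ↔ θ ∈ b)
    (ψ : IrrCharacter T) (hω : Helper16.omega (ψ : T → ℂ) (eT N T b) = 1) (f : N → ℂ)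
    (hf : Helper16.conv f (blockCoeff b) = 0) (y : T) :
    ∑ n : N, f n * (ψ : T → ℂ) (y * Subgroup.inclusion hNT n) = 0 := by
  classical
  have h1 : ∀ n : N, (ψ : T → ℂ) (y * Subgroup.inclusion hNT n) =
      ∑ k : N, blockCoeff b (n⁻¹ * k) * (ψ : T → ℂ) (y * Subgroup.inclusion hNT k) := by
    intro n
    rw [← sum_blockCoeff_mul_irr N T hNT b hstab ψ hω (y * Subgroup.inclusion hNT n)]
    rw [← Equiv.sum_comp (Equiv.mulLeft n)
      (fun k : N => blockCoeff b (n⁻¹ * k) * (ψ : T → ℂ) (y * Subgroup.inclusion hNT k))]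
    refine Finset.sum_congr rfl (fun m _ => ?_)
    simp only [Equiv.coe_mulLeft, inv_mul_cancel_left, map_mul, mul_assoc]
  calc ∑ n : N, f n * (ψ : T → ℂ) (y * Subgroup.inclusion hNT n)
      = ∑ n : N, ∑ k : N, f n * blockCoeff b (n⁻¹ * k) *
          (ψ : T → ℂ) (y * Subgroup.inclusion hNT k) := by
        refine Finset.sum_congr rfl (fun n _ => ?_)
        rw [h1 n, Finset.mul_sum]
        refine Finset.sum_congr rfl (fun k _ => ?_)
        ring
    _ = ∑ k : N, (∑ n : N, f n * blockCoeff b (n⁻¹ * k)) *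
          (ψ : T → ℂ) (y * Subgroup.inclusion hNT k) := by
        rw [Finset.sum_comm]
        refine Finset.sum_congr rfl (fun k _ => ?_)
        rw [Finset.sum_mul]
    _ = 0 := by
        refine Finset.sum_eq_zero (fun k _ => ?_)
        have := congrFun hf k
        rw [Helper16.conv_apply] at this
        rw [this, Pi.zero_apply, zero_mul]

end Core

section Core2

variable {G : Type u} [Group G] [Fintype G] {M : Ideal AlgInt} {p : ℕ}
variable (N : Subgroup G) [hN : N.Normal] [Fintype N]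
variable (T : Subgroup G) [Fintype T] (hNT : N ≤ T) (b : Set (IrrCharacter N))

include hNT

/-- The core identity: `((ψ^G)_T) e_b = ψ` for `ψ ∈ Irr(T)` over `b`. -/
theorem sum_blockCoeff_mul_indFun [hMp : M.IsPrime] (hb : IsPBlock M b)
    (hstab : ∀ t ∈ T, ∀ θ : IrrCharacter N, Helper16.irrConj N t θ ∈ b ↔ θ ∈ b)
    (hnot : ∀ x : G, x ∉ T → ∃ θ ∈ b, Helper16.irrConj N x θ ∉ b)
    (ψ : IrrCharacter T) (hω : Helper16.omega (ψ : T → ℂ) (eT N T b) = 1) (s : T) :
    ∑ n : N, blockCoeff b n * indFun T (ψ : T → ℂ) ((s : G) * (n : G)) = (ψ : T → ℂ) s := by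
  classical
  have key : ∀ x : G, ∑ n : N, blockCoeff b n *
      extendByZero T (ψ : T → ℂ) (x⁻¹ * ((s : G) * (n : G)) * x) =
      extendByZero T (fun _ : T => (ψ : T → ℂ) s) x := by
    intro x
    by_cases hx : x ∈ T
    · rw [Helper15.extendByZero_of_mem T _ hx]
      have h1 : ∀ n : N, extendByZero T (ψ : T → ℂ) (x⁻¹ * ((s : G) * (n : G)) * x) =
          (ψ : T → ℂ) (s * Subgroup.inclusion hNT n) := by
        intro n
        have e1 : x⁻¹ * ((s : G) * (n : G)) * x =
            (((⟨x, hx⟩ : T)⁻¹ * (s * Subgroup.inclusion hNT n) * (⟨x, hx⟩ : T)⁻¹⁻¹ : T) : G) := by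
          simp
        rw [e1, Helper15.extendByZero_coe]
        exact Helper16.irr_isClassFunction ψ _ _
      simp_rw [h1]
      exact sum_blockCoeff_mul_irr N T hNT b hstab ψ hω s
    · rw [Helper15.extendByZero_of_not_mem T _ hx]
      by_cases hy : x⁻¹ * (s : G) * x ∈ T
      · -- the conjugate block is orthogonal to `b`
        obtain ⟨θ₁, hθ₁, hθ₁'⟩ := hnot x hx
        have hne : conjBlk N x b ≠ b := by
          intro h
          apply hθ₁'
          rw [← h]
          exact (irrConj_mem_conjBlk_iff N x b θ₁).mpr hθ₁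
        have hf : Helper16.conv (blockCoeff (conjBlk N x b)) (blockCoeff b) = 0 :=
          Helper77.blockCoeff_conv_of_ne (isPBlock_conjBlk N x hb) hb hne
        have h0 := sum_mul_irr_eq_zero N T hNT b hstab ψ hω _ hf ⟨_, hy⟩
        rw [← h0, ← Equiv.sum_comp (MulAut.conjNormal x : N ≃* N).toEquiv]
        refine Finset.sum_congr rfl (fun n' _ => ?_)
        have e2 : ((MulAut.conjNormal x : N ≃* N).toEquiv n' : N) =
            ⟨x * (n' : G) * x⁻¹, hN.conj_mem (n' : G) n'.2 x⟩ := by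
          apply Subtype.ext
          exact MulAut.conjNormal_apply x n'
        rw [e2, blockCoeff_conj_eq_conjBlk]
        congr 1
        have e3 : x⁻¹ * ((s : G) * ((⟨x * (n' : G) * x⁻¹, hN.conj_mem (n' : G) n'.2 x⟩ : N) : G))
            * x = (((⟨x⁻¹ * (s : G) * x, hy⟩ : T) * Subgroup.inclusion hNT n' : T) : G) := by
          simp only [Subgroup.coe_mul, Subgroup.coe_inclusion]
          group
        rw [e3, Helper15.extendByZero_coe]
      · refine Finset.sum_eq_zero (fun n _ => ?_)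
        have hnm : x⁻¹ * ((s : G) * (n : G)) * x ∉ T := by
          intro h
          apply hy
          have h2 : x⁻¹ * (n : G) * x⁻¹⁻¹ ∈ T := hNT (hN.conj_mem (n : G) n.2 x⁻¹)
          have h3 := T.mul_mem h (T.inv_mem h2)
          have e4 : x⁻¹ * ((s : G) * (n : G)) * x * (x⁻¹ * (n : G) * x⁻¹⁻¹)⁻¹ =
              x⁻¹ * (s : G) * x := by group
          rwa [e4] at h3
        rw [Helper15.extendByZero_of_not_mem T _ hnm, mul_zero]
  have hT0 : (Nat.card T : ℂ) ≠ 0 := by
    have : 0 < Nat.card T := Nat.card_pos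
    exact_mod_cast this.ne'
  calc ∑ n : N, blockCoeff b n * indFun T (ψ : T → ℂ) ((s : G) * (n : G))
      = (Nat.card T : ℂ)⁻¹ * ∑ x : G, ∑ n : N, blockCoeff b n *
          extendByZero T (ψ : T → ℂ) (x⁻¹ * ((s : G) * (n : G)) * x) := by
        rw [Finset.sum_comm, Finset.mul_sum]
        refine Finset.sum_congr rfl (fun n _ => ?_)
        rw [Helper15.indFun_apply, Finset.mul_sum, Finset.mul_sum, Finset.mul_sum]
        refine Finset.sum_congr rfl (fun x _ => ?_)
        ring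
    _ = (Nat.card T : ℂ)⁻¹ * ∑ x : G, extendByZero T (fun _ : T => (ψ : T → ℂ) s) x := by
        simp_rw [key]
    _ = (ψ : T → ℂ) s := by
        rw [Helper15.sum_extendByZero, Finset.sum_const, Finset.card_univ, nsmul_eq_mul,
          ← Nat.card_eq_fintype_card, ← mul_assoc, inv_mul_cancel₀ hT0, one_mul]

end Core2

section Corr

variable {G : Type u} [Group G] [Fintype G] {M : Ideal AlgInt} {p : ℕ}

/-- `conj e_B(g) = e_B(g⁻¹)`. -/
theorem conj_blockCoeff_eq_inv {H : Type u} [Group H] [Fintype H] (B : Set (IrrCharacter H))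
    (h : H) : conj (blockCoeff B h) = blockCoeff B h⁻¹ := by
  classical
  rw [Helper16.blockCoeff_eq_sum, Helper16.blockCoeff_eq_sum]
  simp only [map_mul, map_sum, map_inv₀, map_natCast, Complex.conj_conj]
  congr 1
  refine Finset.sum_congr rfl (fun χ _ => ?_)
  have h1 : conj ((χ : H → ℂ) 1) = (χ : H → ℂ) 1 := by
    have := Helper74.char_inv (Helper74.irr_isCharacter χ) 1
    rw [inv_one] at this
    exact this.symm
  have h2 : conj ((χ : H → ℂ) h⁻¹) = (χ : H → ℂ) h := by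
    rw [Helper74.char_inv (Helper74.irr_isCharacter χ), Complex.conj_conj]
  have h3 : conj (if χ ∈ B then (1 : ℂ) else 0) = if χ ∈ B then (1 : ℂ) else 0 := by
    split_ifs <;> simp
  rw [h1, h2, h3]

variable (N : Subgroup G) [hN : N.Normal] [Fintype N]
variable (T : Subgroup G) [Fintype T] (hNT : N ≤ T) (b : Set (IrrCharacter N))

include hNT

/-- `[(ψ^G)_T, ξ] = [ψ, ξ]` for `ψ, ξ ∈ Irr(T)` over `b`. -/
theorem classInner_res_indFun [hMp : M.IsPrime] (hb : IsPBlock M b)
    (hstab : ∀ t ∈ T, ∀ θ : IrrCharacter N, Helper16.irrConj N t θ ∈ b ↔ θ ∈ b)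
    (hnot : ∀ x : G, x ∉ T → ∃ θ ∈ b, Helper16.irrConj N x θ ∉ b)
    (ψ ξ : IrrCharacter T) (hψ : Helper16.omega (ψ : T → ℂ) (eT N T b) = 1)
    (hξ : Helper16.omega (ξ : T → ℂ) (eT N T b) = 1) :
    classInner (fun t : T => indFun T (ψ : T → ℂ) (t : G)) (ξ : T → ℂ) =
      classInner (ψ : T → ℂ) (ξ : T → ℂ) := by
  classical
  unfold classInner
  congr 1
  have h1 : ∀ t : T, conj ((ξ : T → ℂ) t) =
      ∑ n : N, blockCoeff b n⁻¹ * conj ((ξ : T → ℂ) (t * Subgroup.inclusion hNT n)) := by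
    intro t
    rw [← sum_blockCoeff_mul_irr N T hNT b hstab ξ hξ t, map_sum]
    refine Finset.sum_congr rfl (fun n _ => ?_)
    rw [map_mul, conj_blockCoeff_eq_inv]
  calc ∑ t : T, indFun T (ψ : T → ℂ) (t : G) * conj ((ξ : T → ℂ) t)
      = ∑ t : T, ∑ n : N, blockCoeff b n⁻¹ * indFun T (ψ : T → ℂ) (t : G) *
          conj ((ξ : T → ℂ) (t * Subgroup.inclusion hNT n)) := by
        refine Finset.sum_congr rfl (fun t _ => ?_)
        rw [h1 t, Finset.mul_sum]
        refine Finset.sum_congr rfl (fun n _ => ?_)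
        ring
    _ = ∑ n : N, ∑ t : T, blockCoeff b n⁻¹ * indFun T (ψ : T → ℂ) (t : G) *
          conj ((ξ : T → ℂ) (t * Subgroup.inclusion hNT n)) := Finset.sum_comm
    _ = ∑ n : N, ∑ t : T, blockCoeff b n⁻¹ *
          indFun T (ψ : T → ℂ) ((t : G) * ((n⁻¹ : N) : G)) * conj ((ξ : T → ℂ) t) := by
        refine Finset.sum_congr rfl (fun n _ => ?_)
        rw [← Equiv.sum_comp (Equiv.mulRight (Subgroup.inclusion hNT n)⁻¹)]
        refine Finset.sum_congr rfl (fun t _ => ?_)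
        simp only [Equiv.coe_mulRight, inv_mul_cancel_right, Subgroup.coe_mul, Subgroup.coe_inv,
          Subgroup.coe_inclusion]
    _ = ∑ t : T, (∑ n : N, blockCoeff b n *
          indFun T (ψ : T → ℂ) ((t : G) * (n : G))) * conj ((ξ : T → ℂ) t) := by
        rw [Finset.sum_comm]
        refine Finset.sum_congr rfl (fun t _ => ?_)
        rw [Finset.sum_mul, ← Equiv.sum_comp (Equiv.inv N)]
        simp only [Equiv.inv_apply, inv_inv]
    _ = ∑ t : T, (ψ : T → ℂ) t * conj ((ξ : T → ℂ) t) := by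
        refine Finset.sum_congr rfl (fun t _ => ?_)
        rw [sum_blockCoeff_mul_indFun N T hNT b hb hstab hnot ψ hψ t]

/-- `ψ^G` is irreducible for `ψ ∈ Irr(T)` over `b`. -/
theorem isIrrCharacter_indFun_of_omega [hMp : M.IsPrime] (hb : IsPBlock M b)
    (hstab : ∀ t ∈ T, ∀ θ : IrrCharacter N, Helper16.irrConj N t θ ∈ b ↔ θ ∈ b)
    (hnot : ∀ x : G, x ∉ T → ∃ θ ∈ b, Helper16.irrConj N x θ ∉ b)
    (ψ : IrrCharacter T) (hψ : Helper16.omega (ψ : T → ℂ) (eT N T b) = 1) :
    IsIrrCharacter G (indFun T (ψ : T → ℂ)) := by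
  apply Helper15.isIrrCharacter_of_inner_self_eq_one
    (Helper15.isCharacter_indFun T (Helper74.irr_isCharacter ψ))
  rw [Helper15.frobenius_reciprocity T (ψ : T → ℂ) _ (Helper15.isClassFunction_indFun T _),
    ← Helper15.classInner_conj_symm,
    classInner_res_indFun N T hNT b hb hstab hnot ψ ψ hψ hψ, Helper74.irr_inner_self, map_one]

/-- Induction is injective on the characters of `T` over `b`. -/
theorem indFun_injective_of_omega [hMp : M.IsPrime] (hb : IsPBlock M b)
    (hstab : ∀ t ∈ T, ∀ θ : IrrCharacter N, Helper16.irrConj N t θ ∈ b ↔ θ ∈ b)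
    (hnot : ∀ x : G, x ∉ T → ∃ θ ∈ b, Helper16.irrConj N x θ ∉ b)
    (ψ₁ ψ₂ : IrrCharacter T) (h₁ : Helper16.omega (ψ₁ : T → ℂ) (eT N T b) = 1)
    (h₂ : Helper16.omega (ψ₂ : T → ℂ) (eT N T b) = 1)
    (h : indFun T (ψ₁ : T → ℂ) = indFun T (ψ₂ : T → ℂ)) : ψ₁ = ψ₂ := by
  by_contra hne
  have h0 : classInner (ψ₂ : T → ℂ) (ψ₁ : T → ℂ) = 0 := Helper74.irr_inner_ne (Ne.symm hne)
  have hirr := isIrrCharacter_indFun_of_omega N T hNT b hb hstab hnot ψ₁ h₁
  have h1 : classInner (indFun T (ψ₁ : T → ℂ)) (indFun T (ψ₁ : T → ℂ)) = 1 :=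
    Helper74.irr_inner_self ⟨_, hirr⟩
  nth_rewrite 2 [h] at h1
  rw [Helper15.frobenius_reciprocity T (ψ₁ : T → ℂ) _ (Helper15.isClassFunction_indFun T _),
    ← Helper15.classInner_conj_symm,
    classInner_res_indFun N T hNT b hb hstab hnot ψ₂ ψ₁ h₂ h₁, h0, map_zero] at h1
  exact zero_ne_one h1

/-- Every irreducible character of `G` over `b` is induced from a character of `T` over `b`. -/
theorem exists_indFun_eq_of_liesOver [hMp : M.IsPrime] (hb : IsPBlock M b)
    (hstab : ∀ t ∈ T, ∀ θ : IrrCharacter N, Helper16.irrConj N t θ ∈ b ↔ θ ∈ b)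
    (hnot : ∀ x : G, x ∉ T → ∃ θ ∈ b, Helper16.irrConj N x θ ∉ b)
    (χ : IrrCharacter G) (θ : IrrCharacter N) (hθ : θ ∈ b)
    (h : classInner (fun n : N => (χ : G → ℂ) n) (θ : N → ℂ) ≠ 0) :
    ∃ ψ : IrrCharacter T, Helper16.omega (ψ : T → ℂ) (eT N T b) = 1 ∧
      (χ : G → ℂ) = indFun T (ψ : T → ℂ) := by
  classical
  let _ := Helper74.irrFintype T
  rw [Helper81.inner_restrict_eq_sum N T hNT (Helper74.irr_isCharacter χ) (θ : N → ℂ)] at h
  obtain ⟨ξ, _, hξ⟩ := Finset.exists_ne_zero_of_sum_ne_zero h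
  have hξ1 := left_ne_zero_of_mul hξ
  have hξ2 := right_ne_zero_of_mul hξ
  have hω := omega_eT_eq_one N T hNT b hb hstab ξ θ hθ hξ2
  refine ⟨ξ, hω, ?_⟩
  have hirr := isIrrCharacter_indFun_of_omega N T hNT b hb hstab hnot ξ hω
  by_contra hne
  have hne' : χ ≠ ⟨_, hirr⟩ := fun h => hne (congrArg Subtype.val h)
  have h0 := Helper74.irr_inner_ne hne'
  rw [Helper15.frobenius_reciprocity' T (ξ : T → ℂ) _ (Helper74.irr_isClassFunction χ)] at h0
  exact hξ1 h0

/-- `ψ^G` lies over `b` for `ψ` over `b`. -/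
theorem liesOver_indFun_of_omega [hMp : M.IsPrime] (hb : IsPBlock M b)
    (hstab : ∀ t ∈ T, ∀ θ : IrrCharacter N, Helper16.irrConj N t θ ∈ b ↔ θ ∈ b)
    (hnot : ∀ x : G, x ∉ T → ∃ θ ∈ b, Helper16.irrConj N x θ ∉ b)
    (ψ : IrrCharacter T) (hψ : Helper16.omega (ψ : T → ℂ) (eT N T b) = 1) :
    ∃ θ ∈ b, classInner (fun n : N => indFun T (ψ : T → ℂ) n) (θ : N → ℂ) ≠ 0 := by
  classical
  let _ := Helper74.irrFintype T
  obtain ⟨θ, hθ, hθψ⟩ := exists_of_omega_eT_eq_one N T hNT b ψ hψ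
  refine ⟨θ, hθ, ?_⟩
  have hχc : IsCharacter G (indFun T (ψ : T → ℂ)) :=
    Helper15.isCharacter_indFun T (Helper74.irr_isCharacter ψ)
  obtain ⟨m, f, e, hm, hf, he, hsum⟩ :=
    Helper81.exists_nat_inner_restrict N T hNT hχc (Helper74.irr_isCharacter θ)
  rw [he]
  have hma : m ψ = 1 := by
    have h1 := hm ψ
    rw [classInner_res_indFun N T hNT b hb hstab hnot ψ ψ hψ hψ, Helper74.irr_inner_self] at h1
    exact_mod_cast h1.symm
  have hfa : f ψ ≠ 0 := by
    intro h0; apply hθψ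
    have := hf ψ; rw [h0] at this; simpa using this
  have : m ψ * f ψ ≤ ∑ ξ, m ξ * f ξ :=
    Finset.single_le_sum (f := fun ξ => m ξ * f ξ) (fun _ _ => Nat.zero_le _) (Finset.mem_univ ψ)
  have h4 : 0 < m ψ * f ψ := by rw [hma, one_mul]; exact Nat.pos_of_ne_zero hfa
  have : e ≠ 0 := by omega
  exact_mod_cast this

end Corr

section IndS

variable {G : Type u} [Group G] [Fintype G] {M : Ideal AlgInt} {p : ℕ}

/-- A sum over `G` of a function constant on left cosets of `T`. -/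
theorem sum_eq_card_mul_sum_quotient (T : Subgroup G) [Fintype T] [Fintype (G ⧸ T)] (F : G → ℂ)
    (hF : ∀ (x : G) (t : T), F (x * (t : G)) = F x) :
    ∑ x : G, F x = (Nat.card T : ℂ) * ∑ q : G ⧸ T, F q.out := by
  classical
  rw [← Finset.sum_fiberwise (Finset.univ) (fun x : G => (x : G ⧸ T)) F, Finset.mul_sum]
  refine Finset.sum_congr rfl (fun q _ => ?_)
  have himg : Finset.univ.filter (fun x : G => (x : G ⧸ T) = q) =
      (Finset.univ : Finset T).image (fun t : T => q.out * (t : G)) := by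
    ext x
    simp only [Finset.mem_filter, Finset.mem_univ, true_and, Finset.mem_image]
    constructor
    · intro hx
      refine ⟨⟨q.out⁻¹ * x, ?_⟩, by simp⟩
      rw [← QuotientGroup.eq, QuotientGroup.out_eq', hx]
    · rintro ⟨t, rfl⟩
      rw [QuotientGroup.mk_mul_of_mem _ t.2, QuotientGroup.out_eq']
  rw [himg, Finset.sum_image (by
    intro t _ t' _ h
    exact Subtype.ext (mul_left_cancel h))]
  simp_rw [hF]
  rw [Finset.sum_const, Finset.card_univ, nsmul_eq_mul, Nat.card_eq_fintype_card]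

/-- The function induced from a class function with values in the local ring has values in the
local ring. -/
theorem memLocalRing_indFun [hMp : M.IsPrime] (T : Subgroup G) [Fintype T] {φ : T → ℂ}
    (hφ : IsClassFunction T φ) (hS : ∀ t, MemLocalRing M (φ t)) (g : G) :
    MemLocalRing M (indFun T φ g) := by
  classical
  let _ : Fintype (G ⧸ T) := Fintype.ofFinite _
  have hF : ∀ (x : G) (t : T), extendByZero T φ ((x * (t : G))⁻¹ * g * (x * (t : G))) =
      extendByZero T φ (x⁻¹ * g * x) := by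
    intro x t
    by_cases hx : x⁻¹ * g * x ∈ T
    · have e1 : (x * (t : G))⁻¹ * g * (x * (t : G)) =
          ((t⁻¹ * ⟨x⁻¹ * g * x, hx⟩ * t⁻¹⁻¹ : T) : G) := by
        simp only [Subgroup.coe_mul, Subgroup.coe_inv, inv_inv]
        group
      rw [e1, Helper15.extendByZero_coe, Helper15.extendByZero_of_mem T _ hx]
      exact hφ _ _
    · have hx' : (x * (t : G))⁻¹ * g * (x * (t : G)) ∉ T := by
        intro h
        apply hx
        have h2 := T.mul_mem (T.mul_mem t.2 h) (T.inv_mem t.2)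
        have e2 : (t : G) * ((x * (t : G))⁻¹ * g * (x * (t : G))) * (t : G)⁻¹ = x⁻¹ * g * x := by
          group
        rwa [e2] at h2
      rw [Helper15.extendByZero_of_not_mem T _ hx, Helper15.extendByZero_of_not_mem T _ hx']
  have hT0 : (Nat.card T : ℂ) ≠ 0 := by
    have : 0 < Nat.card T := Nat.card_pos
    exact_mod_cast this.ne'
  rw [Helper15.indFun_apply,
    sum_eq_card_mul_sum_quotient T (fun x => extendByZero T φ (x⁻¹ * g * x)) hF,
    ← mul_assoc, inv_mul_cancel₀ hT0, one_mul]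
  refine Helper16.memLocalRing_sum _ _ (fun q _ => ?_)
  by_cases hx : q.out⁻¹ * g * q.out ∈ T
  · rw [Helper15.extendByZero_of_mem T _ hx]
    exact hS _
  · rw [Helper15.extendByZero_of_not_mem T _ hx]
    exact Helper16.memLocalRing_zero

/-- Pairing an induced function with a class function. -/
theorem sum_indFun_mul (T : Subgroup G) [Fintype T] (φ : T → ℂ) {χ : G → ℂ}
    (hχ : IsClassFunction G χ) :
    ∑ g : G, indFun T φ g * χ g = (T.index : ℂ) * ∑ t : T, φ t * χ (t : G) := by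
  have hcf : IsClassFunction G (fun g => conj (χ g)) := by
    intro g h
    show conj (χ (h * g * h⁻¹)) = conj (χ g)
    rw [hχ g h]
  have h := Helper15.frobenius_reciprocity T φ (fun g => conj (χ g)) hcf
  unfold classInner at h
  simp only [Complex.conj_conj] at h
  have hG0 : (Nat.card G : ℂ) ≠ 0 := by
    have : 0 < Nat.card G := Nat.card_pos
    exact_mod_cast this.ne'
  have hT0 : (Nat.card T : ℂ) ≠ 0 := by
    have : 0 < Nat.card T := Nat.card_pos
    exact_mod_cast this.ne'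
  have hidx : (Nat.card G : ℂ) = (T.index : ℂ) * (Nat.card T : ℂ) := by
    rw [← Nat.cast_mul, Subgroup.index_mul_card]
  have h2 : ∑ g : G, indFun T φ g * χ g =
      (Nat.card G : ℂ) * ((Nat.card T : ℂ)⁻¹ * ∑ t : T, φ t * χ (t : G)) := by
    rw [← h, ← mul_assoc, mul_inv_cancel₀ hG0, one_mul]
  rw [h2, hidx]
  field_simp

end IndS

section Blk

variable {G : Type u} [Group G] [Fintype G] {M : Ideal AlgInt} {p : ℕ}

/-- Characters in one block of `T` induce into one block of `G`. -/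
theorem sameBlock_indFun_of_mem [hMp : M.IsPrime] (T : Subgroup G) [Fintype T]
    {B' : Set (IrrCharacter T)} (hB' : IsPBlock M B') {ψ ψ' : IrrCharacter T}
    (hψ : ψ ∈ B') (hψ' : ψ' ∈ B') :
    SameBlock M (indFun T (ψ : T → ℂ)) (indFun T (ψ' : T → ℂ)) := by
  intro g
  rw [← Cfsg.Agent.S0932.result T (ψ : T → ℂ) (Helper74.irr_isCharacter ψ) g,
    ← Cfsg.Agent.S0932.result T (ψ' : T → ℂ) (Helper74.irr_isCharacter ψ') g]
  exact Helper16.inducedCentralChar_sub_memLocalIdeal T (sameBlock_of_mem_of_mem hMp hB' hψ hψ') g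

/-- If some `ψ₀ ∈ B'` induces to an irreducible character `χ₀`, then `B'` induces the block of
`χ₀`. -/
theorem isInducedBlock_blockOf_indFun [hMp : M.IsPrime] (T : Subgroup G) [Fintype T]
    {B' : Set (IrrCharacter T)} (hB' : IsPBlock M B') {ψ₀ : IrrCharacter T} (h₀ : ψ₀ ∈ B')
    (χ₀ : IrrCharacter G) (hχ₀ : (χ₀ : G → ℂ) = indFun T (ψ₀ : T → ℂ)) :
    IsInducedBlock M T B' (blockOf M (χ₀ : G → ℂ)) := by
  refine ⟨hB', ⟨χ₀, rfl⟩, fun ξ hξ χ hχ g => ?_⟩
  have h1 := sameBlock_indFun_of_mem T hB' hξ h₀ g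
  rw [← hχ₀, ← Cfsg.Agent.S0932.result T (ξ : T → ℂ) (Helper74.irr_isCharacter ξ) g] at h1
  have h2 : MemLocalIdeal M (centralChar (χ₀ : G → ℂ) g - centralChar (χ : G → ℂ) g) := hχ g
  have h3 := Helper16.memLocalIdeal_add h1 h2
  have e : inducedCentralChar T (ξ : T → ℂ) g - centralChar (χ₀ : G → ℂ) g +
      (centralChar (χ₀ : G → ℂ) g - centralChar (χ : G → ℂ) g) =
      inducedCentralChar T (ξ : T → ℂ) g - centralChar (χ : G → ℂ) g := by ring
  rwa [e] at h3

variable (N : Subgroup G) [hN : N.Normal] [Fintype N]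
variable (T : Subgroup G) [Fintype T] (hNT : N ≤ T) (b : Set (IrrCharacter N))

include hNT

/-- If one member of a block of `T` lies over `b`, all do. -/
theorem omega_eT_eq_one_of_mem_block [hMp : M.IsPrime] (hb : IsPBlock M b)
    (hstab : ∀ t ∈ T, ∀ θ : IrrCharacter N, Helper16.irrConj N t θ ∈ b ↔ θ ∈ b)
    {B' : Set (IrrCharacter T)} (hB' : IsPBlock M B') {ψ₀ ψ : IrrCharacter T} (h₀ : ψ₀ ∈ B')
    (hψ : ψ ∈ B') (hω : Helper16.omega (ψ₀ : T → ℂ) (eT N T b) = 1) :
    Helper16.omega (ψ : T → ℂ) (eT N T b) = 1 := by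
  rcases omega_eT_sq N T hNT b hb hstab ψ with h0 | h1
  · exfalso
    have hsame : SameBlock M (ψ₀ : T → ℂ) (ψ : T → ℂ) := sameBlock_of_mem_of_mem hMp hB' h₀ hψ
    have := Helper16.omega_sub_memLocalIdeal hsame (isClassFunction_eT N T b hstab)
      (memLocalRing_eT N T b hb)
    rw [hω, h0, sub_zero] at this
    exact Helper16.not_memLocalIdeal_one this
  · exact h1

open Classical in
/-- The transfer of the block idempotent of `B'` detects membership in `B'` on induced
characters. -/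
theorem omega_indFun_blockCoeff [hMp : M.IsPrime] (hb : IsPBlock M b)
    (hstab : ∀ t ∈ T, ∀ θ : IrrCharacter N, Helper16.irrConj N t θ ∈ b ↔ θ ∈ b)
    (hnot : ∀ x : G, x ∉ T → ∃ θ ∈ b, Helper16.irrConj N x θ ∉ b)
    {B' : Set (IrrCharacter T)}
    (hcov : ∀ ξ ∈ B', Helper16.omega (ξ : T → ℂ) (eT N T b) = 1)
    (ψ : IrrCharacter T) (hψ : Helper16.omega (ψ : T → ℂ) (eT N T b) = 1)
    (χ : IrrCharacter G) (hχ : (χ : G → ℂ) = indFun T (ψ : T → ℂ)) :
    Helper16.omega (χ : G → ℂ) (indFun T (blockCoeff B')) = if ψ ∈ B' then 1 else 0 := by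
  unfold Helper16.omega
  rw [sum_indFun_mul T (blockCoeff B') (Helper74.irr_isClassFunction χ),
    Helper16.sum_blockCoeff_mul B' (fun t : T => (χ : G → ℂ) t)]
  have h1 : ∀ ξ : IrrCharacter T, (if ξ ∈ B' then (1 : ℂ) else 0) * (ξ : T → ℂ) 1 *
      classInner (fun t : T => (χ : G → ℂ) t) (ξ : T → ℂ) =
      if ξ = ψ then (if ψ ∈ B' then (1 : ℂ) else 0) * (ψ : T → ℂ) 1 else 0 := by
    intro ξ
    by_cases hξ : ξ ∈ B'
    · rw [hχ, classInner_res_indFun N T hNT b hb hstab hnot ψ ξ hψ (hcov ξ hξ)]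
      by_cases hξψ : ξ = ψ
      · subst hξψ
        rw [if_pos rfl, Helper74.irr_inner_self, mul_one]
      · rw [if_neg hξψ, Helper74.irr_inner_ne (Ne.symm hξψ), mul_zero]
    · rw [if_neg hξ, zero_mul, zero_mul]
      by_cases hξψ : ξ = ψ
      · subst hξψ
        rw [if_pos rfl, if_neg hξ, zero_mul]
      · rw [if_neg hξψ]
  simp_rw [h1]
  rw [Finset.sum_ite_eq' Finset.univ ψ, if_pos (Finset.mem_univ ψ), hχ, Helper15.indFun_apply_one]
  have hidx : (T.index : ℂ) ≠ 0 := by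
    have : T.index ≠ 0 := Subgroup.index_ne_zero_of_finite
    exact_mod_cast this
  have hψ1 : (ψ : T → ℂ) 1 ≠ 0 := Helper16.irr_one_ne_zero ψ
  field_simp

end Blk

section Main

variable {G : Type u} [Group G] [Fintype G] {M : Ideal AlgInt} {p : ℕ}
variable (N : Subgroup G) [hN : N.Normal] [Fintype N]
variable (T : Subgroup G) [Fintype T] (hNT : N ≤ T) (b : Set (IrrCharacter N))

include hNT

/-- Members of the block of `χ₀ = ψ₀^G` are induced from members of the block of `ψ₀`. -/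
theorem exists_mem_indFun_eq [hMp : M.IsPrime] (hb : IsPBlock M b)
    (hstab : ∀ t ∈ T, ∀ θ : IrrCharacter N, Helper16.irrConj N t θ ∈ b ↔ θ ∈ b)
    (hnot : ∀ x : G, x ∉ T → ∃ θ ∈ b, Helper16.irrConj N x θ ∉ b)
    {B' : Set (IrrCharacter T)} (hB' : IsPBlock M B') {ψ₀ : IrrCharacter T} (h₀ : ψ₀ ∈ B')
    (hω₀ : Helper16.omega (ψ₀ : T → ℂ) (eT N T b) = 1)
    (χ₀ : IrrCharacter G) (hχ₀ : (χ₀ : G → ℂ) = indFun T (ψ₀ : T → ℂ))
    (χ : IrrCharacter G) (hχ : SameBlock M (χ₀ : G → ℂ) (χ : G → ℂ)) :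
    ∃ ψ ∈ B', (χ : G → ℂ) = indFun T (ψ : T → ℂ) := by
  classical
  have hcov : ∀ ξ ∈ B', Helper16.omega (ξ : T → ℂ) (eT N T b) = 1 := fun ξ hξ =>
    omega_eT_eq_one_of_mem_block N T hNT b hb hstab hB' h₀ hξ hω₀
  obtain ⟨θ, hθ, hθχ⟩ := liesOver_indFun_of_omega N T hNT b hb hstab hnot ψ₀ hω₀
  rw [← hχ₀] at hθχ
  have h1 : Helper16.LiesOver N (χ₀ : G → ℂ) (Helper16.conjUnion N b) :=
    ⟨θ, Helper16.subset_conjUnion N b hθ, hθχ⟩
  have h2 : Helper16.LiesOver N (χ : G → ℂ) (Helper16.conjUnion N b) :=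
    (Helper16.liesOver_iff_of_sameBlock N (Helper16.gStable_conjUnion N b)
      (Helper16.memLocalRing_blockCoeff_conjUnion N hb) hχ).mp h1
  obtain ⟨θ', hθ', hθχ'⟩ :=
    Helper16.liesOver_of_liesOver_conjUnion N (Helper74.irr_isClassFunction χ) h2
  obtain ⟨ξ, hωξ, hχξ⟩ :=
    exists_indFun_eq_of_liesOver N T hNT b hb hstab hnot χ θ' hθ' hθχ'
  refine ⟨ξ, ?_, hχξ⟩
  have h3 := Helper16.omega_sub_memLocalIdeal hχ
    (Helper15.isClassFunction_indFun T (blockCoeff B'))
    (memLocalRing_indFun T (Helper16.isClassFunction_blockCoeff B')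
      (fun t => Helper77.blockCoeff_memLocalRing hB' t))
  rw [omega_indFun_blockCoeff N T hNT b hb hstab hnot hcov ψ₀ hω₀ χ₀ hχ₀,
    omega_indFun_blockCoeff N T hNT b hb hstab hnot hcov ξ hωξ χ hχξ, if_pos h₀] at h3
  by_contra hξ
  rw [if_neg hξ, sub_zero] at h3
  exact Helper16.not_memLocalIdeal_one h3

/-- Two blocks of `T` covering `b` whose members induce into the same block of `G` coincide. -/
theorem block_eq_of_sameBlock_indFun [hMp : M.IsPrime] (hb : IsPBlock M b)
    (hstab : ∀ t ∈ T, ∀ θ : IrrCharacter N, Helper16.irrConj N t θ ∈ b ↔ θ ∈ b)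
    (hnot : ∀ x : G, x ∉ T → ∃ θ ∈ b, Helper16.irrConj N x θ ∉ b)
    {B'₁ B'₂ : Set (IrrCharacter T)} (hB'₁ : IsPBlock M B'₁) (hB'₂ : IsPBlock M B'₂)
    {ψ₁ ψ₂ : IrrCharacter T} (h₁ : ψ₁ ∈ B'₁) (h₂ : ψ₂ ∈ B'₂)
    (hω₁ : Helper16.omega (ψ₁ : T → ℂ) (eT N T b) = 1)
    (hω₂ : Helper16.omega (ψ₂ : T → ℂ) (eT N T b) = 1)
    (hsame : SameBlock M (indFun T (ψ₁ : T → ℂ)) (indFun T (ψ₂ : T → ℂ))) : B'₁ = B'₂ := by
  classical
  have hcov : ∀ ξ ∈ B'₁, Helper16.omega (ξ : T → ℂ) (eT N T b) = 1 := fun ξ hξ =>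
    omega_eT_eq_one_of_mem_block N T hNT b hb hstab hB'₁ h₁ hξ hω₁
  let χ₁ : IrrCharacter G :=
    ⟨_, isIrrCharacter_indFun_of_omega N T hNT b hb hstab hnot ψ₁ hω₁⟩
  let χ₂ : IrrCharacter G :=
    ⟨_, isIrrCharacter_indFun_of_omega N T hNT b hb hstab hnot ψ₂ hω₂⟩
  have hs : SameBlock M (χ₁ : G → ℂ) (χ₂ : G → ℂ) := hsame
  have h3 := Helper16.omega_sub_memLocalIdeal hs
    (Helper15.isClassFunction_indFun T (blockCoeff B'₁))
    (memLocalRing_indFun T (Helper16.isClassFunction_blockCoeff B'₁)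
      (fun t => Helper77.blockCoeff_memLocalRing hB'₁ t))
  rw [omega_indFun_blockCoeff N T hNT b hb hstab hnot hcov ψ₁ hω₁ χ₁ rfl,
    omega_indFun_blockCoeff N T hNT b hb hstab hnot hcov ψ₂ hω₂ χ₂ rfl, if_pos h₁] at h3
  have h4 : ψ₂ ∈ B'₁ := by
    by_contra hξ
    rw [if_neg hξ, sub_zero] at h3
    exact Helper16.not_memLocalIdeal_one h3
  exact isPBlock_eq_of_mem_of_mem hMp hB'₁ hB'₂ h4 h₂

end Main

end Cfsg.Agent.Helper78
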