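import Cfsg.Agent.Helper78.RelCentral
import Cfsg.Agent.Helper38.ConjOrbit

/-!
# Extensions of principal-block characters lying in the principal block (helper78)

`N ⊴ G`, `Q ≤ N` of index prime to `p` in `N`, `C ≤ C_G(Q)` with `G = N C`.  Let `ψ ∈ Irr(G)` extend
`θ ∈ B₀(N)`.  If `ψ(y)/ψ(1) ≡ 1` modulo the local ideal for all `y ∈ C`, then `ψ ∈ B₀(G)`.
-/

set_option autoImplicit false
set_option linter.unusedSectionVars false

namespace Cfsg.Agent.Helper78

open Cfsg Cfsg.Agent.Helper16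

section RelPrincipal

variable {G : Type*} [Group G] [Fintype G] {M : Ideal AlgInt} {p : ℕ}

/-- The augmentation is multiplicative for convolution. -/
theorem sum_conv_eq (s t : G → ℂ) : ∑ g : G, conv s t g = (∑ g : G, s g) * ∑ g : G, t g := by
  simp_rw [conv_apply]
  rw [Finset.sum_comm, Finset.sum_mul]
  refine Finset.sum_congr rfl (fun x _ => ?_)
  rw [← Finset.mul_sum]
  congr 1
  exact Equiv.sum_comp (Equiv.mulLeft x⁻¹) t

variable (N : Subgroup G) [hN : N.Normal] [Fintype N]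

/-- If `ψ` extends `θ ∈ B₀(N)`, then `omega ψ f ≡ ∑ f` for `N`-invariant local-integer valued
functions supported on `N`. -/
theorem omega_sub_sum_memLocalIdeal [hMp : M.IsPrime] (θ : IrrCharacter N)
    (hθ : θ ∈ principalBlock M N) (ψ : IrrCharacter G)
    (hψ : ∀ n : N, (ψ : G → ℂ) n = (θ : N → ℂ) n) {f : G → ℂ}
    (hfN : Helper77.InvUnder (N : Set G) f) (hfR : RValued M f) (hfs : SuppCoset N 1 f) :
    MemLocalIdeal M (omega (ψ : G → ℂ) f - ∑ x : G, f x) := by
  set y : N → ℂ := Helper77.resFun N f with hydef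
  have hyext : Helper77.extFun N y = f :=
    Helper77.extFun_resFun_of_support N f (fun g hg => eq_zero_of_suppCoset_one N hfs hg)
  have hycl : IsClassFunction N y := Helper77.isClassFunction_resFun hfN
  have hyR : ∀ n : N, MemLocalRing M (y n) := fun n => hfR (n : G)
  have h1 : omega (ψ : G → ℂ) f = omega (θ : N → ℂ) y := by
    unfold omega
    have hone : (ψ : G → ℂ) 1 = (θ : N → ℂ) 1 := by
      have := hψ 1
      rwa [Subgroup.coe_one] at this
    rw [hone]
    congr 1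
    conv_lhs => rw [← hyext]
    rw [sum_extFun]
    refine Finset.sum_congr rfl (fun k _ => ?_)
    rw [hψ k]
  have h2 : ∑ x : G, f x = omega ((Helper79.principalIrr N : IrrCharacter N) : N → ℂ) y := by
    unfold omega
    show _ = (∑ x : N, y x * (1 : ℂ)) / 1
    rw [div_one]
    conv_lhs => rw [← hyext]
    have := sum_extFun N y (fun _ => (1 : ℂ))
    simp only [mul_one] at this ⊢
    exact this
  rw [h1, h2]
  have hsame : SameBlock M ((Helper79.principalIrr N : IrrCharacter N) : N → ℂ) (θ : N → ℂ) := hθ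
  have h3 := omega_sub_memLocalIdeal hsame hycl hyR
  have h4 := Helper77.memLocalIdeal_neg h3
  rwa [neg_sub] at h4

/-- The basic congruence: for `N`-invariant functions on inverse cosets, the product of the
relative central characters is congruent to the product of the augmentations. -/
theorem omega_mul_omega_sub_memLocalIdeal [hMp : M.IsPrime] (θ : IrrCharacter N)
    (hθ : θ ∈ principalBlock M N) (ψ : IrrCharacter G)
    (hψ : ∀ n : N, (ψ : G → ℂ) n = (θ : N → ℂ) n) {γ₁ γ₂ : G ⧸ N} (hγ : γ₁ * γ₂ = 1)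
    {f₁ f₂ : G → ℂ} (h₁N : Helper77.InvUnder (N : Set G) f₁) (h₁R : RValued M f₁)
    (h₁s : SuppCoset N γ₁ f₁) (h₂N : Helper77.InvUnder (N : Set G) f₂) (h₂R : RValued M f₂)
    (h₂s : SuppCoset N γ₂ f₂) :
    MemLocalIdeal M (omega (ψ : G → ℂ) f₁ * omega (ψ : G → ℂ) f₂ -
      (∑ x : G, f₁ x) * ∑ x : G, f₂ x) := by
  have hres : IsIrrCharacter N (fun n : N => (ψ : G → ℂ) n) := by
    have : (fun n : N => (ψ : G → ℂ) n) = (θ : N → ℂ) := funext hψ
    rw [this]; exact θ.2
  rw [← omega_conv_of_invUnder N ψ hres h₁N h₂N, ← sum_conv_eq]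
  refine omega_sub_sum_memLocalIdeal N θ hθ ψ hψ (Helper77.invUnder_conv h₁N h₂N)
    (rValued_conv h₁R h₂R) ?_
  have := suppCoset_conv N h₁s h₂s
  rwa [hγ] at this

/-- Elements of `C ≤ C_G(Q)` have `N`-orbits of size prime to `p` when `p ∤ |N : Q|`. -/
theorem not_dvd_card_conjOrb (C Q : Subgroup G) (hQN : Q ≤ N) (hQ : ¬ p ∣ Q.relIndex N)
    (hCQ : C ≤ Subgroup.centralizer (Q : Set G)) {h : G} (hh : h ∈ C) :
    ¬ p ∣ (conjOrb N h).card := by
  classical
  intro hdvd
  apply hQ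
  have hQh : Q ≤ Subgroup.centralizer ({h} : Set G) := by
    intro q hq
    rw [Subgroup.mem_centralizer_singleton_iff]
    have := hCQ hh
    rw [Subgroup.mem_centralizer_iff] at this
    exact (this q hq)
  have h1 := Cfsg.Agent.Helper38.ConjOrbit.card_conjOrbit_dvd_relIndex N h Q hQN hQh
  exact dvd_trans hdvd h1

/-- Every element of `G = N C` is congruent modulo `N` to an element of `C`. -/
theorem exists_mem_mk_eq (C : Subgroup G) (hsup : N ⊔ C = ⊤) (g : G) :
    ∃ y ∈ C, (QuotientGroup.mk y : G ⧸ N) = QuotientGroup.mk g := by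
  have hg : g ∈ ((N ⊔ C : Subgroup G) : Set G) := by rw [hsup]; trivial
  rw [Subgroup.normal_mul] at hg
  obtain ⟨n, hn, c, hc, rfl⟩ := Set.mem_mul.mp hg
  refine ⟨c, hc, ?_⟩
  rw [QuotientGroup.mk_mul, (QuotientGroup.eq_one_iff n).mpr hn, one_mul]

/-- The key congruence: under `(*)`, every relative central character value of `ψ` is congruent to
the orbit size. -/
theorem omega_orbInd_sub_card_memLocalIdeal [Fact p.Prime] (hM : IsPModular p M)
    (C Q : Subgroup G) (hsup : N ⊔ C = ⊤) (hQN : Q ≤ N) (hQ : ¬ p ∣ Q.relIndex N)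
    (hCQ : C ≤ Subgroup.centralizer (Q : Set G)) (θ : IrrCharacter N)
    (hθ : θ ∈ principalBlock M N) (ψ : IrrCharacter G)
    (hψ : ∀ n : N, (ψ : G → ℂ) n = (θ : N → ℂ) n)
    (hstar : ∀ y ∈ C, MemLocalIdeal M ((ψ : G → ℂ) y / (ψ : G → ℂ) 1 - 1)) (g : G) :
    MemLocalIdeal M (omega (ψ : G → ℂ) (orbInd N g) - ((conjOrb N g).card : ℂ)) := by
  haveI hMp : M.IsPrime := Helper77.isPrime_of_isPModular hM
  have hres : IsIrrCharacter N (fun n : N => (ψ : G → ℂ) n) := by
    have : (fun n : N => (ψ : G → ℂ) n) = (θ : N → ℂ) := funext hψ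
    rw [this]; exact θ.2
  obtain ⟨y, hyC, hy⟩ := exists_mem_mk_eq N C hsup g
  set h : G := y⁻¹ with hhdef
  have hhC : h ∈ C := C.inv_mem hyC
  have hγ : (QuotientGroup.mk g : G ⧸ N) * QuotientGroup.mk h = 1 := by
    rw [hhdef, QuotientGroup.mk_inv, ← hy, mul_inv_cancel]
  set A : ℂ := omega (ψ : G → ℂ) (orbInd N g) with hAdef
  set Ah : ℂ := omega (ψ : G → ℂ) (orbInd N h) with hAhdef
  set c : ℕ := (conjOrb N g).card with hcdef
  set ch : ℕ := (conjOrb N h).card with hchdef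
  have hch : ¬ p ∣ ch := not_dvd_card_conjOrb N C Q hQN hQ hCQ hhC
  have hchI : ¬ MemLocalIdeal M (ch : ℂ) := fun hh => hch ((Helper77.memLocalIdeal_natCast_iff hM ch).mp hh)
  -- `Ah ≡ ch`
  have hAh : Ah = (ch : ℂ) * ((ψ : G → ℂ) h / (ψ : G → ℂ) 1) := by
    rw [hAhdef, omega_orbInd N (irr_isClassFunction ψ) h, mul_div_assoc]
  have hAhc : MemLocalIdeal M (Ah - (ch : ℂ)) := by
    have : Ah - (ch : ℂ) = (ch : ℂ) * ((ψ : G → ℂ) h / (ψ : G → ℂ) 1 - 1) := by
      rw [hAh]; ring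
    rw [this]
    exact Helper77.memLocalIdeal_mul_left M (Helper77.memLocalRing_natCast M ch) (hstar h hhC)
  -- `A` is a local integer
  have hAR : MemLocalRing M A := by
    apply Helper77.memLocalRing_of_isIntegral M
    exact isIntegral_omega_indicator N ψ hres (conjOrb N g) (fun n hn x hx => conj_mem_conjOrb N hn hx)
  -- the basic congruence
  have hE := omega_mul_omega_sub_memLocalIdeal N θ hθ ψ hψ hγ (invUnder_orbInd N g)
    (rValued_orbInd N g) (suppCoset_orbInd N g) (invUnder_orbInd N h) (rValued_orbInd N h)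
    (suppCoset_orbInd N h)
  rw [sum_orbInd, sum_orbInd] at hE
  -- combine
  have h1 : MemLocalIdeal M ((A - (c : ℂ)) * (ch : ℂ)) := by
    have : (A - (c : ℂ)) * (ch : ℂ) = (A * Ah - (c : ℂ) * (ch : ℂ)) - A * (Ah - (ch : ℂ)) := by ring
    rw [this]
    exact Helper77.memLocalIdeal_sub M hE (Helper77.memLocalIdeal_mul_left M hAR hAhc)
  rcases Helper77.memLocalIdeal_or_of_mul M
    (Helper77.memLocalRing_sub M hAR (Helper77.memLocalRing_natCast M c))
    (Helper77.memLocalRing_natCast M ch) h1 with h2 | h2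
  · exact h2
  · exact absurd h2 hchI

/-- **(B)** If `ψ ∈ Irr(G)` extends `θ ∈ B₀(N)` and `ψ(y)/ψ(1) ≡ 1` for all `y ∈ C`, where
`G = N C`, `C ≤ C_G(Q)`, `Q ≤ N` of index prime to `p`, then `ψ ∈ B₀(G)`. -/
theorem mem_principalBlock_of_congr_one [Fact p.Prime] (hM : IsPModular p M)
    (C Q : Subgroup G) (hsup : N ⊔ C = ⊤) (hQN : Q ≤ N) (hQ : ¬ p ∣ Q.relIndex N)
    (hCQ : C ≤ Subgroup.centralizer (Q : Set G)) (θ : IrrCharacter N)
    (hθ : θ ∈ principalBlock M N) (ψ : IrrCharacter G)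
    (hψ : ∀ n : N, (ψ : G → ℂ) n = (θ : N → ℂ) n)
    (hstar : ∀ y ∈ C, MemLocalIdeal M ((ψ : G → ℂ) y / (ψ : G → ℂ) 1 - 1)) :
    ψ ∈ principalBlock M G := by
  classical
  haveI hMp : M.IsPrime := Helper77.isPrime_of_isPModular hM
  intro g
  have hkey := omega_orbInd_sub_card_memLocalIdeal N hM C Q hsup hQN hQ hCQ θ hθ ψ hψ hstar g
  obtain ⟨r, hr⟩ := Cfsg.Agent.Helper38.ConjOrbit.card_conjOrbit_dvd_index N g
  have hr' : (Subgroup.centralizer ({g} : Set G)).index = (conjOrb N g).card * r := hr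
  rw [omega_orbInd N (irr_isClassFunction ψ) g] at hkey
  unfold centralChar
  rw [hr']
  have : (((conjOrb N g).card * r : ℕ) : ℂ) * (fun _ : G => (1 : ℂ)) g / (fun _ : G => (1 : ℂ)) 1 -
      (((conjOrb N g).card * r : ℕ) : ℂ) * (ψ : G → ℂ) g / (ψ : G → ℂ) 1 =
      (r : ℂ) * (-(((conjOrb N g).card : ℂ) * (ψ : G → ℂ) g / (ψ : G → ℂ) 1 -
        ((conjOrb N g).card : ℂ))) := by
    push_cast
    ring
  rw [this]
  exact Helper77.memLocalIdeal_mul_left M (Helper77.memLocalRing_natCast M r)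
    (Helper77.memLocalIdeal_neg hkey)

end RelPrincipal

end Cfsg.Agent.Helper78
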