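import Cfsg.Agent.Helper16.StableBlock
import Cfsg.Agent.Helper77.BlockPartition
import Cfsg.Agent.Helper77.DefectOrder
import Cfsg.Agent.S0911
import Cfsg.Agent.Helper78.LocalRing
import Cfsg.Agent.Helper78.BlockBasic

/-!
# Fong's theorem on blocks covering a `G`-invariant block of a normal subgroup
-/

set_option autoImplicit false
set_option linter.unusedSectionVars false
set_option linter.unusedVariables false

namespace Cfsg.Agent.Helper78

open Cfsg
open scoped ComplexConjugate

universe u

variable {G : Type u} [Group G] [Fintype G] {M : Ideal AlgInt} {p : ℕ}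
variable (N : Subgroup G) [hN : N.Normal] [Fintype N]

/-- A class of `N` on which both the idempotent of the stable block `b` and the central character
of a character `χ` over `b` are units is a defect class of `b`, and the number of `N`-classes in
its `G`-class is prime to `p`. -/
theorem fong_defectClass [Fact p.Prime] (hM : IsPModular p M) {b : Set (IrrCharacter N)}
    (hb : IsPBlock M b) (hst : Helper16.GStable N b) (χ : IrrCharacter G) (θ : IrrCharacter N)
    (hθ : θ ∈ b) (h : classInner (fun n : N => (χ : G → ℂ) n) (θ : N → ℂ) ≠ 0) (n : N)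
    (he : ¬ MemLocalIdeal M (blockCoeff b n))
    (hχn : ¬ MemLocalIdeal M (centralChar (χ : G → ℂ) (n : G))) :
    IsDefectClass M b n ∧ ∃ m : ℕ, ¬ p ∣ m ∧
      (Subgroup.centralizer ({(n : G)} : Set G)).index =
        m * (Subgroup.centralizer ({n} : Set N)).index := by
  classical
  haveI hMp : M.IsPrime := isPrime_of_isPModular hM
  obtain ⟨m, hm⟩ : ∃ m : ℕ, (∑ C : ConjClasses N,
      Helper16.classInd (n : G) ((Helper16.classRep C : N) : G)) = (m : ℂ) := by
    refine ⟨(Finset.univ.filter
      (fun C : ConjClasses N => IsConj (n : G) ((Helper16.classRep C : N) : G))).card, ?_⟩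
    unfold Helper16.classInd
    rw [Finset.card_eq_sum_ones, Finset.sum_filter]
    push_cast
    refine Finset.sum_congr rfl (fun C _ => ?_)
    by_cases h : IsConj (n : G) ((Helper16.classRep C : N) : G)
    · rw [if_pos h, if_pos h]
    · rw [if_neg h, if_neg h]
  have hcong := Helper16.centralChar_sub_memLocalIdeal_of_stable N hb hst χ θ hθ h n
  rw [hm] at hcong
  have hθR : MemLocalRing M (centralChar (θ : N → ℂ) n) := Helper16.centralChar_memLocalRing θ n
  have hprod : ¬ MemLocalIdeal M ((m : ℂ) * centralChar (θ : N → ℂ) n) := by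
    intro hc
    apply hχn
    have := Helper16.memLocalIdeal_add hcong hc
    rwa [sub_add_cancel] at this
  have hm' : ¬ p ∣ m := fun hd =>
    hprod (Helper16.memLocalIdeal_mul_right ((memLocalIdeal_natCast_iff hM).mpr hd) hθR)
  have hθn : ¬ MemLocalIdeal M (centralChar (θ : N → ℂ) n) := fun hc =>
    hprod (Helper16.memLocalIdeal_mul_left (Helper16.memLocalRing_natCast m) hc)
  refine ⟨⟨Helper16.osima hb n, he, fun θ' hθ' =>
    Helper16.not_memLocalIdeal_centralChar_of_mem (sameBlock_of_mem_of_mem hMp hb hθ hθ') hθn⟩,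
    m, hm', ?_⟩
  have := Helper16.index_centralizer_eq_sum_classes_mul N n
  rw [hm] at this
  exact_mod_cast this

/-- Counting: if the `G`-class of `n ∈ N` consists of `m` classes of `N`, `p ∤ m`, then
`|C_G(n)|_p = |G : N|_p |C_N(n)|_p`. -/
theorem fong_card_centralizer [Fact p.Prime] (n : N) (m : ℕ) (hm : ¬ p ∣ m)
    (hidx : (Subgroup.centralizer ({(n : G)} : Set G)).index =
      m * (Subgroup.centralizer ({n} : Set N)).index) :
    (Nat.card (Subgroup.centralizer ({(n : G)} : Set G))).factorization p =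
      N.index.factorization p +
        (Nat.card (Subgroup.centralizer ({n} : Set N))).factorization p := by
  have hC := Subgroup.card_mul_index (Subgroup.centralizer ({(n : G)} : Set G))
  have hC' := Subgroup.card_mul_index (Subgroup.centralizer ({n} : Set N))
  have hNc := Subgroup.card_mul_index N
  have hi0 : (Subgroup.centralizer ({n} : Set N)).index ≠ 0 := Subgroup.index_ne_zero_of_finite
  have hN0 : N.index ≠ 0 := Subgroup.index_ne_zero_of_finite
  have hm0 : m ≠ 0 := by
    rintro rfl
    exact hm (dvd_zero p)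
  have hc0 : Nat.card (Subgroup.centralizer ({(n : G)} : Set G)) ≠ 0 := Nat.card_pos.ne'
  have hc0' : Nat.card (Subgroup.centralizer ({n} : Set N)) ≠ 0 := Nat.card_pos.ne'
  have key : Nat.card (Subgroup.centralizer ({(n : G)} : Set G)) * m =
      Nat.card (Subgroup.centralizer ({n} : Set N)) * N.index := by
    apply Nat.eq_of_mul_eq_mul_right (Nat.pos_of_ne_zero hi0)
    calc Nat.card (Subgroup.centralizer ({(n : G)} : Set G)) * m *
          (Subgroup.centralizer ({n} : Set N)).index
        = Nat.card (Subgroup.centralizer ({(n : G)} : Set G)) *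
          (Subgroup.centralizer ({(n : G)} : Set G)).index := by rw [hidx, mul_assoc]
      _ = Nat.card G := hC
      _ = Nat.card N * N.index := hNc.symm
      _ = Nat.card (Subgroup.centralizer ({n} : Set N)) *
          (Subgroup.centralizer ({n} : Set N)).index * N.index := by rw [hC']
      _ = Nat.card (Subgroup.centralizer ({n} : Set N)) * N.index *
          (Subgroup.centralizer ({n} : Set N)).index := by ring
  have : (Nat.card (Subgroup.centralizer ({(n : G)} : Set G)) * m).factorization p =
      (Nat.card (Subgroup.centralizer ({n} : Set N)) * N.index).factorization p := by rw [key]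
  rw [Nat.factorization_mul hc0 hm0, Nat.factorization_mul hc0' hN0, Finsupp.add_apply,
    Finsupp.add_apply, Nat.factorization_eq_zero_of_not_dvd hm, add_zero] at this
  rw [this, add_comm]

/-- For `χ` over the stable block `b` there is a class of `N` at which the idempotent of `b` and
the central character of `χ` are both units. -/
theorem fong_exists_class [Fact p.Prime] (hM : IsPModular p M) {b : Set (IrrCharacter N)}
    (hb : IsPBlock M b) (hst : Helper16.GStable N b) (χ : IrrCharacter G)
    (hχ : Helper16.LiesOver N (χ : G → ℂ) b) :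
    ∃ n : N, ¬ MemLocalIdeal M (blockCoeff b n) ∧
      ¬ MemLocalIdeal M (centralChar (χ : G → ℂ) (n : G)) := by
  classical
  haveI hMp : M.IsPrime := isPrime_of_isPModular hM
  have hcf : IsClassFunction G (extendByZero N (blockCoeff b)) :=
    Helper16.isClassFunction_extendByZero N (Helper16.blockCoeff_conj_of_gStable N hst)
  have h1 : Helper16.omega (χ : G → ℂ) (extendByZero N (blockCoeff b)) = 1 := by
    rw [Helper16.omega_ext_blockCoeff N χ hst, if_pos hχ]
  rw [Helper16.omega_eq_sum_classes _ _ (Helper16.irr_isClassFunction χ) hcf] at h1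
  by_contra hcon
  push_neg at hcon
  have hall : ∀ C : ConjClasses G, MemLocalIdeal M
      (extendByZero N (blockCoeff b) (Helper16.classRep C) *
        centralChar (χ : G → ℂ) (Helper16.classRep C)) := by
    intro C
    by_cases hg : Helper16.classRep C ∈ N
    · rw [Helper15.extendByZero_of_mem N _ hg]
      by_cases he : MemLocalIdeal M (blockCoeff b ⟨Helper16.classRep C, hg⟩)
      · exact Helper16.memLocalIdeal_mul_right he (Helper16.centralChar_memLocalRing χ _)
      · exact Helper16.memLocalIdeal_mul_left (Helper16.osima hb _) (hcon ⟨_, hg⟩ he)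
    · rw [Helper15.extendByZero_of_not_mem N _ hg, zero_mul]
      exact Helper16.memLocalIdeal_zero
  have := Helper16.memLocalIdeal_sum Finset.univ _ (fun C _ => hall C)
  rw [h1] at this
  exact Helper16.not_memLocalIdeal_one this

open Classical in
/-- The idempotent of a stable block of `N` is the sum of the idempotents of the blocks of `G`
covering it. -/
theorem extendByZero_blockCoeff_eq_sum [hMp : M.IsPrime] {b : Set (IrrCharacter N)}
    (hb : IsPBlock M b) (hst : Helper16.GStable N b) :
    extendByZero N (blockCoeff b) =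
      ∑ B'' ∈ (Helper77.blocksFinset M G).filter
        (fun B'' => ∃ χ : IrrCharacter G, χ ∈ B'' ∧ Helper16.LiesOver N (χ : G → ℂ) b),
        blockCoeff B'' := by
  classical
  have hcf : IsClassFunction G (extendByZero N (blockCoeff b)) :=
    Helper16.isClassFunction_extendByZero N (Helper16.blockCoeff_conj_of_gStable N hst)
  apply Helper16.classFunction_ext_omega hcf
    (Helper16.isClassFunction_sum _ _ (fun B'' hB'' => Helper16.isClassFunction_blockCoeff B''))
  intro χ
  rw [Helper16.omega_ext_blockCoeff N χ hst, Helper16.omega_sum]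
  by_cases hχ : Helper16.LiesOver N (χ : G → ℂ) b
  · rw [if_pos hχ, Finset.sum_eq_single (blockOf M (χ : G → ℂ))]
    · rw [Helper16.omega_blockCoeff, if_pos (mem_blockOf_self hMp χ)]
    · intro B'' hB'' hne
      rw [Helper16.omega_blockCoeff, if_neg]
      intro hχB
      exact hne (isPBlock_eq_blockOf_of_mem hMp
        (Helper77.mem_blocksFinset.mp (Finset.mem_filter.mp hB'').1) hχB)
    · intro hnot
      exfalso
      exact hnot (Finset.mem_filter.mpr ⟨Helper77.mem_blocksFinset.mpr ⟨χ, rfl⟩, χ,
        mem_blockOf_self hMp χ, hχ⟩)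
  · rw [if_neg hχ]
    symm
    refine Finset.sum_eq_zero (fun B'' hB'' => ?_)
    rw [Helper16.omega_blockCoeff, if_neg]
    intro hχB
    obtain ⟨hB''1, χ', hχ', hover⟩ := Finset.mem_filter.mp hB''
    have hsame : SameBlock M (χ' : G → ℂ) (χ : G → ℂ) :=
      sameBlock_of_mem_of_mem hMp (Helper77.mem_blocksFinset.mp hB''1) hχ' hχB
    exact hχ ((Helper16.liesOver_iff_of_sameBlock N hst (fun n => Helper16.osima hb n) hsame).mp
      hover)

/-- The defect of a block is read off from any defect class. -/
theorem blockDefect_eq_of_defectClass [Fact p.Prime] (hM : IsPModular p M)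
    {B : Set (IrrCharacter G)} (hB : IsPBlock M B) {g : G} (hg : IsDefectClass M B g) :
    blockDefect p B = (Nat.card (Subgroup.centralizer ({g} : Set G))).factorization p := by
  classical
  obtain ⟨D⟩ : Nonempty (Sylow p (Subgroup.centralizer ({g} : Set G))) := inferInstance
  have hD : IsDefectGroup p M B ((D : Subgroup (Subgroup.centralizer ({g} : Set G))).map
      (Subgroup.centralizer ({g} : Set G)).subtype) := ⟨g, hg, D, rfl⟩
  have h1 := Helper77.card_defectGroup hM hB _ hD
  rw [Subgroup.card_map_of_injective (Subgroup.subtype_injective _), D.card_eq_multiplicity] at h1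
  exact (Nat.pow_right_injective (Fact.out : p.Prime).two_le h1).symm

/-- Upper bound and structure: a defect group `P` of a block covering the stable block `b`
centralizes a defect class `n` of `b` with `|C_G(n)|_p = |G : N|_p |C_N(n)|_p`. -/
theorem fong_upper [Fact p.Prime] (hM : IsPModular p M) {b : Set (IrrCharacter N)}
    (hb : IsPBlock M b) (hst : Helper16.GStable N b) {B : Set (IrrCharacter G)}
    (hB : IsPBlock M B) (χ : IrrCharacter G) (hχB : χ ∈ B) (θ : IrrCharacter N) (hθ : θ ∈ b)
    (h : classInner (fun n : N => (χ : G → ℂ) n) (θ : N → ℂ) ≠ 0) (P : Subgroup G)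
    (hP : IsDefectGroup p M B P) :
    ∃ n : N, IsDefectClass M b n ∧ P ≤ Subgroup.centralizer ({(n : G)} : Set G) ∧
      (Nat.card (Subgroup.centralizer ({(n : G)} : Set G))).factorization p =
        N.index.factorization p +
          (Nat.card (Subgroup.centralizer ({n} : Set N))).factorization p := by
  classical
  haveI hMp : M.IsPrime := isPrime_of_isPModular hM
  obtain ⟨n₀, he₀, hχn₀⟩ := fong_exists_class N hM hb hst χ ⟨θ, hθ, h⟩
  obtain ⟨g₀, hg₀, D, hPD⟩ := hP
  obtain ⟨x, Q, hxQ⟩ := (Cfsg.Agent.S0911.result p M hM B hB g₀ hg₀ D (n₀ : G)).2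
    ⟨χ, hχB, hχn₀⟩
  have he : blockCoeff b ⟨x⁻¹ * (n₀ : G) * x⁻¹⁻¹, hN.conj_mem (n₀ : G) n₀.2 x⁻¹⟩ =
      blockCoeff b n₀ := Helper16.blockCoeff_conj_of_gStable N hst x⁻¹ n₀
  have hconj : IsConj (n₀ : G) (x⁻¹ * (n₀ : G) * x⁻¹⁻¹) := isConj_iff.mpr ⟨x⁻¹, rfl⟩
  have hχn : centralChar (χ : G → ℂ) (x⁻¹ * (n₀ : G) * x⁻¹⁻¹) =
      centralChar (χ : G → ℂ) (n₀ : G) :=
    Helper16.centralChar_of_isConj (Helper16.irr_isClassFunction χ) hconj
  obtain ⟨hdc, m, hm, hidx⟩ := fong_defectClass N hM hb hst χ θ hθ h
    ⟨x⁻¹ * (n₀ : G) * x⁻¹⁻¹, hN.conj_mem (n₀ : G) n₀.2 x⁻¹⟩ (by rw [he]; exact he₀)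
    (by rw [hχn]; exact hχn₀)
  refine ⟨_, hdc, ?_, fong_card_centralizer N _ m hm hidx⟩
  intro u hu
  rw [hPD] at hu
  have h1 : (MulAut.conj x).toMonoidHom u ∈
      (Q : Subgroup (Subgroup.centralizer ({(n₀ : G)} : Set G))).map
        (Subgroup.centralizer ({(n₀ : G)} : Set G)).subtype := hxQ ⟨u, hu, rfl⟩
  obtain ⟨q, -, hq⟩ := h1
  have hq2 := q.2
  rw [Subgroup.mem_centralizer_singleton_iff] at hq2
  have hq3 : (q : G) = x * u * x⁻¹ := by
    rw [← MulAut.conj_apply]; exact hq
  rw [hq3] at hq2
  rw [Subgroup.mem_centralizer_singleton_iff]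
  show u * (x⁻¹ * (n₀ : G) * x⁻¹⁻¹) = x⁻¹ * (n₀ : G) * x⁻¹⁻¹ * u
  have e1 : u * (x⁻¹ * (n₀ : G) * x⁻¹⁻¹) = x⁻¹ * (x * u * x⁻¹ * (n₀ : G)) * x := by group
  have e2 : x⁻¹ * (n₀ : G) * x⁻¹⁻¹ * u = x⁻¹ * ((n₀ : G) * (x * u * x⁻¹)) * x := by group
  rw [e1, e2, hq2]

/-- Lower bound: some block of `G` covering the stable block `b` has defect at least
`d(b) + ν_p |G : N|`. -/
theorem fong_lower [Fact p.Prime] (hM : IsPModular p M) {b : Set (IrrCharacter N)}
    (hb : IsPBlock M b) (hst : Helper16.GStable N b) :
    ∃ B'' : Set (IrrCharacter G), IsPBlock M B'' ∧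
      (∃ χ : IrrCharacter G, χ ∈ B'' ∧ Helper16.LiesOver N (χ : G → ℂ) b) ∧
      N.index.factorization p + blockDefect p b ≤ blockDefect p B'' := by
  classical
  haveI hMp : M.IsPrime := isPrime_of_isPModular hM
  have hp : p.Prime := Fact.out
  obtain ⟨θ₀, hθ₀⟩ := isPBlock_nonempty hMp hb
  obtain ⟨χ₀, hχ₀⟩ := Helper16.exists_irr_over N θ₀
  obtain ⟨n, he, hχn⟩ := fong_exists_class N hM hb hst χ₀ ⟨θ₀, hθ₀, hχ₀⟩
  obtain ⟨hdc, m, hm, hidx⟩ := fong_defectClass N hM hb hst χ₀ θ₀ hθ₀ hχ₀ n he hχn
  have hcount := fong_card_centralizer N n m hm hidx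
  have hdb : blockDefect p b =
      (Nat.card (Subgroup.centralizer ({n} : Set N))).factorization p :=
    blockDefect_eq_of_defectClass hM hb hdc
  -- a covering block whose idempotent is a unit at `n`
  have hdecomp := congrFun (extendByZero_blockCoeff_eq_sum N hb hst) (n : G)
  rw [Helper15.extendByZero_of_mem N _ n.2, Finset.sum_apply] at hdecomp
  have hex : ∃ B'' ∈ (Helper77.blocksFinset M G).filter
      (fun B'' => ∃ χ : IrrCharacter G, χ ∈ B'' ∧ Helper16.LiesOver N (χ : G → ℂ) b),
      ¬ MemLocalIdeal M (blockCoeff B'' (n : G)) := by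
    by_contra hcon
    push_neg at hcon
    apply he
    have := Helper16.memLocalIdeal_sum _ _ hcon
    rw [← hdecomp] at this
    exact this
  obtain ⟨B'', hB''mem, hB''n⟩ := hex
  obtain ⟨hB''1, hB''cov⟩ := Finset.mem_filter.mp hB''mem
  have hB'' : IsPBlock M B'' := Helper77.mem_blocksFinset.mp hB''1
  refine ⟨B'', hB'', hB''cov, ?_⟩
  obtain ⟨χ'', hχ''⟩ := id hB''
  obtain ⟨g'', hg''⟩ := Helper16.exists_defectClass (M := M) χ''
  rw [← hχ''] at hg''
  obtain ⟨D''⟩ : Nonempty (Sylow p (Subgroup.centralizer ({g''} : Set G))) := inferInstance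
  obtain ⟨x, Q, hxQ⟩ := (Cfsg.Agent.S0911.result p M hM B'' hB'' g'' hg'' D'' (n : G)).1
    (Helper16.osima hB'' _) hB''n
  have hc1 := Subgroup.card_le_of_le hxQ
  rw [Subgroup.card_map_of_injective (Subgroup.subtype_injective _),
    Subgroup.card_map_of_injective (MulAut.conj x).injective,
    Subgroup.card_map_of_injective (Subgroup.subtype_injective _),
    Q.card_eq_multiplicity, D''.card_eq_multiplicity] at hc1
  have hc2 := (Nat.pow_le_pow_iff_right hp.one_lt).mp hc1
  rw [← blockDefect_eq_of_defectClass hM hB'' hg''] at hc2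
  rw [hdb, ← hcount]
  exact hc2

end Cfsg.Agent.Helper78
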