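import Cfsg.Agent.Helper78.FongReynolds
import Cfsg.Agent.Helper78.InducedDefect
import Cfsg.Agent.Helper78.FirstMain
import Cfsg.Agent.Helper77.DefectOrder
import Cfsg.Agent.Helper77.MaxPair

/-!
# Fong–Reynolds: defects and heights

Degrees of induced characters and the comparison of the minimal `p`-parts of degrees in a block
of `T` and the induced block of `G`.
-/

set_option autoImplicit false
set_option linter.unusedSectionVars false
set_option linter.unusedVariables false

namespace Cfsg.Agent.Helper78

open Cfsg
open scoped ComplexConjugate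

universe u

/-- The infimum of a shifted image. -/
theorem sInf_image_shift {α β : Type*} (A : Set α) (B : Set β) (f : α → ℕ) (g : β → ℕ) (c : ℕ)
    (hA : A.Nonempty) (h1 : ∀ a ∈ A, ∃ b ∈ B, g b = c + f a)
    (h2 : ∀ b ∈ B, ∃ a ∈ A, g b = c + f a) :
    sInf (g '' B) = c + sInf (f '' A) := by
  have hA' : (f '' A).Nonempty := hA.image f
  obtain ⟨a, ha, hfa⟩ := Nat.sInf_mem hA'
  obtain ⟨b, hb, hgb⟩ := h1 a ha
  have hB' : (g '' B).Nonempty := ⟨g b, b, hb, rfl⟩
  apply le_antisymm
  · rw [← hfa, ← hgb]
    have : sInf (g '' B) ≤ g b := Nat.sInf_le ⟨b, hb, rfl⟩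
    exact this
  · obtain ⟨b', hb', hgb'⟩ := Nat.sInf_mem hB'
    obtain ⟨a', ha', h⟩ := h2 b' hb'
    rw [← hgb', h]
    have : sInf (f '' A) ≤ f a' := Nat.sInf_le ⟨a', ha', rfl⟩
    omega

variable {G : Type u} [Group G] [Fintype G]

/-- The degree of an irreducible induced character. -/
theorem charDegree_indFun (T : Subgroup G) [Fintype T] (ψ : IrrCharacter T)
    (hirr : IsIrrCharacter G (indFun T (ψ : T → ℂ))) :
    charDegree (indFun T (ψ : T → ℂ)) = T.index * charDegree (ψ : T → ℂ) := by
  have h1 := irrChar_one_eq_charDegree hirr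
  rw [Helper15.indFun_apply_one, irrChar_one_eq_charDegree ψ.2] at h1
  exact_mod_cast h1.symm

theorem factorization_charDegree_indFun (p : ℕ) (T : Subgroup G) [Fintype T] (ψ : IrrCharacter T)
    (hirr : IsIrrCharacter G (indFun T (ψ : T → ℂ))) :
    (charDegree (indFun T (ψ : T → ℂ))).factorization p =
      T.index.factorization p + (charDegree (ψ : T → ℂ)).factorization p := by
  rw [charDegree_indFun T ψ hirr, Nat.factorization_mul Subgroup.index_ne_zero_of_finite
    (charDegree_pos_of_isIrrCharacter ψ.2).ne']
  rfl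

theorem factorization_card_eq_index_add (p : ℕ) (T : Subgroup G) :
    (Nat.card G).factorization p = T.index.factorization p + (Nat.card T).factorization p := by
  rw [← Subgroup.index_mul_card T, Nat.factorization_mul Subgroup.index_ne_zero_of_finite
    Nat.card_pos.ne']
  rfl

end Cfsg.Agent.Helper78
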