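import Cfsg.Agent.Helper78.FongReynoldsDefect
import Cfsg.Agent.Helper77.FullCent
import Cfsg.Agent.Helper16.Covering3
import Cfsg.Agent.S0970

/-!
# Fong's theorem combined with the Fong–Reynolds correspondence

`N ⊴ X`, `b` a block of `N` with stabilizer `T`.  There is a block of `X` covering `b` whose
defect is `d(b) + ν_p |T : N|`.
-/

set_option autoImplicit false
set_option linter.unusedSectionVars false
set_option linter.unusedVariables false

namespace Cfsg.Agent.Helper78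

open Cfsg
open scoped ComplexConjugate

universe u

/-- Transport of the inner product along a group isomorphism. -/
theorem classInner_comp_mulEquiv {A B : Type*} [Group A] [Group B] [Fintype A] [Fintype B]
    (e : A ≃* B) (f g : B → ℂ) :
    classInner (fun a => f (e a)) (fun a => g (e a)) = classInner f g := by
  unfold classInner
  rw [Nat.card_congr e.toEquiv]
  congr 1
  exact Fintype.sum_equiv e.toEquiv _ _ (fun a => rfl)

section

variable {G : Type u} [Group G] [Fintype G] {M : Ideal AlgInt} {p : ℕ}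
variable (N : Subgroup G) [hN : N.Normal] [Fintype N]
variable (T : Subgroup G) [Fintype T] (hNT : N ≤ T) (b : Set (IrrCharacter N))

include hNT

/-- The Fong–Reynolds correspondence preserves defects. -/
theorem blockDefect_blockOf_indFun [Fact p.Prime] (hM : IsPModular p M) (hb : IsPBlock M b)
    (hstab : ∀ t ∈ T, ∀ θ : IrrCharacter N, Helper16.irrConj N t θ ∈ b ↔ θ ∈ b)
    (hnot : ∀ x : G, x ∉ T → ∃ θ ∈ b, Helper16.irrConj N x θ ∉ b)
    {B' : Set (IrrCharacter T)} (hB' : IsPBlock M B') {ψ₀ : IrrCharacter T} (h₀ : ψ₀ ∈ B')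
    (hω₀ : Helper16.omega (ψ₀ : T → ℂ) (eT N T b) = 1)
    (χ₀ : IrrCharacter G) (hχ₀ : (χ₀ : G → ℂ) = indFun T (ψ₀ : T → ℂ)) :
    blockDefect p (blockOf M (χ₀ : G → ℂ)) = blockDefect p B' := by
  classical
  have hMp : M.IsPrime := hM.2.1.isPrime
  have hcov : ∀ ξ ∈ B', Helper16.omega (ξ : T → ℂ) (eT N T b) = 1 := fun ξ hξ =>
    omega_eT_eq_one_of_mem_block N T hNT b hb hstab hB' h₀ hξ hω₀
  have hirr : ∀ ψ ∈ B', IsIrrCharacter G (indFun T (ψ : T → ℂ)) := fun ψ hψ =>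
    isIrrCharacter_indFun_of_omega N T hNT b hb hstab hnot ψ (hcov ψ hψ)
  have hmemB : ∀ ψ (hψ : ψ ∈ B'), (⟨_, hirr ψ hψ⟩ : IrrCharacter G) ∈ blockOf M (χ₀ : G → ℂ) := by
    intro ψ hψ
    show SameBlock M (χ₀ : G → ℂ) (indFun T (ψ : T → ℂ))
    rw [hχ₀]
    exact sameBlock_indFun_of_mem T hB' h₀ hψ
  have hshift : sInf ((fun χ : IrrCharacter G => (charDegree (χ : G → ℂ)).factorization p) ''
      blockOf M (χ₀ : G → ℂ)) = T.index.factorization p +
        sInf ((fun ψ : IrrCharacter T => (charDegree (ψ : T → ℂ)).factorization p) '' B') := by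
    apply sInf_image_shift B' (blockOf M (χ₀ : G → ℂ)) _ _ _ ⟨ψ₀, h₀⟩
    · intro ψ hψ
      exact ⟨⟨_, hirr ψ hψ⟩, hmemB ψ hψ, factorization_charDegree_indFun p T ψ (hirr ψ hψ)⟩
    · intro χ hχ
      obtain ⟨ψ, hψ, hχψ⟩ :=
        exists_mem_indFun_eq N T hNT b hb hstab hnot hB' h₀ hω₀ χ₀ hχ₀ χ hχ
      refine ⟨ψ, hψ, ?_⟩
      show (charDegree (χ : G → ℂ)).factorization p = _
      rw [hχψ]
      exact factorization_charDegree_indFun p T ψ (hirr ψ hψ)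
  unfold blockDefect
  rw [hshift, factorization_card_eq_index_add p T, Nat.add_sub_add_left]

/-- Fong's theorem in the stabilizer combined with the Fong–Reynolds correspondence: some block of
`G` covering `b` has defect `d(b) + ν_p |T : N|`. -/
theorem exists_block_covering_defect [Fact p.Prime] (hM : IsPModular p M) (hb : IsPBlock M b)
    (hstab : ∀ t ∈ T, ∀ θ : IrrCharacter N, Helper16.irrConj N t θ ∈ b ↔ θ ∈ b)
    (hnot : ∀ x : G, x ∉ T → ∃ θ ∈ b, Helper16.irrConj N x θ ∉ b) :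
    ∃ B₁ : Set (IrrCharacter G), IsPBlock M B₁ ∧
      (∃ χ ∈ B₁, ∃ θ ∈ b, classInner (fun n : N => (χ : G → ℂ) n) (θ : N → ℂ) ≠ 0) ∧
      blockDefect p B₁ = blockDefect p b + (N.relIndex T).factorization p := by
  classical
  have hMp : M.IsPrime := hM.2.1.isPrime
  -- the group `T` and its normal subgroup `N_T`
  let NT : Subgroup T := N.subgroupOf T
  haveI hNTn : NT.Normal := hN.subgroupOf T
  haveI : Fintype NT := Fintype.ofFinite _
  let e : NT ≃* N := Subgroup.subgroupOfEquivOfLe hNT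
  let bT : Set (IrrCharacter NT) := irrMap e.symm '' b
  have hbT : IsPBlock M bT := Helper77.isPBlock_image_irrMap e.symm hb
  have hconj : ∀ (g : T) (θ₀ : IrrCharacter N) (θ' : IrrCharacter NT),
      (∀ n : NT, (θ' : NT → ℂ) n =
        (irrMap e.symm θ₀ : NT → ℂ) ⟨g * n * g⁻¹, hNTn.conj_mem n n.2 g⟩) →
      θ' = irrMap e.symm (Helper16.irrConj N (g : G) θ₀) := by
    intro g θ₀ θ' h
    apply Subtype.ext
    funext n
    rw [h n]
    rfl
  have hinv : ∀ g : T, ∀ θ ∈ bT, ∀ θ' : IrrCharacter NT,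
      (∀ n : NT, (θ' : NT → ℂ) n = (θ : NT → ℂ) ⟨g * n * g⁻¹, hNTn.conj_mem n n.2 g⟩) →
      θ' ∈ bT := by
    rintro g _ ⟨θ₀, hθ₀, rfl⟩ θ' h
    rw [hconj g θ₀ θ' h]
    exact ⟨_, (hstab g g.2 θ₀).mpr hθ₀, rfl⟩
  -- a covering block of maximal defect
  obtain ⟨θ₀, hθ₀⟩ := isPBlock_nonempty hMp hb
  obtain ⟨ψ₁, hψ₁⟩ := Helper16.exists_irr_over NT (irrMap e.symm θ₀)
  let S : Set (Set (IrrCharacter T)) := {B' | IsPBlock M B' ∧ ∃ χ ∈ B', ∃ θ ∈ bT,
    classInner (fun n : NT => (χ : T → ℂ) n) (θ : NT → ℂ) ≠ 0}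
  have hSne : S.Nonempty := ⟨blockOf M (ψ₁ : T → ℂ), ⟨ψ₁, rfl⟩, ψ₁, mem_blockOf_self hMp ψ₁, _,
    ⟨θ₀, hθ₀, rfl⟩, hψ₁⟩
  haveI : Finite (IrrCharacter T) := Finite.of_fintype _
  have hSfin : S.Finite := Set.toFinite S
  obtain ⟨B', ⟨hB', hcov'⟩, hmax⟩ :=
    Set.exists_max_image S (fun B' => blockDefect p B') hSfin hSne
  obtain ⟨ψ₂, hψ₂⟩ := isPBlock_nonempty hMp hB'
  obtain ⟨P', hP'⟩ := Helper16.exists_defectGroup (M := M) p ψ₂
  rw [← isPBlock_eq_blockOf_of_mem hMp hB' hψ₂] at hP'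
  have hfong := (Cfsg.Agent.S0970.result p M hM NT bT hbT hinv B' hB' hcov'
    (fun B'' hB'' hc'' => hmax B'' ⟨hB'', hc''⟩) P' hP').2.2
  rw [Helper77.blockDefect_image_irrMap p e.symm b] at hfong
  -- the Fong–Reynolds correspondent
  obtain ⟨ψ₀, h₀, θ', ⟨θ₁, hθ₁, rfl⟩, hc⟩ := hcov'
  have hc' : classInner (Helper15.resTo N T hNT (ψ₀ : T → ℂ)) (θ₁ : N → ℂ) ≠ 0 := by
    rw [← classInner_comp_mulEquiv e]
    exact hc
  have hω₀ := omega_eT_eq_one N T hNT b hb hstab ψ₀ θ₁ hθ₁ hc'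
  let χ₀ : IrrCharacter G :=
    ⟨_, isIrrCharacter_indFun_of_omega N T hNT b hb hstab hnot ψ₀ hω₀⟩
  refine ⟨blockOf M (χ₀ : G → ℂ), ⟨χ₀, rfl⟩, ?_, ?_⟩
  · obtain ⟨θ, hθ, hθχ⟩ := liesOver_indFun_of_omega N T hNT b hb hstab hnot ψ₀ hω₀
    exact ⟨χ₀, mem_blockOf_self hMp χ₀, θ, hθ, hθχ⟩
  · rw [blockDefect_blockOf_indFun N T hNT b hM hb hstab hnot hB' h₀ hω₀ χ₀ rfl, hfong]
    rfl

end

end Cfsg.Agent.Helper78
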