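import Cfsg.Agent.Helper78.ColumnFormula
import Cfsg.Agent.Helper78.PPart
import Cfsg.Agent.Helper16.BlockOrthogonality
import Cfsg.Agent.Helper81.GlaubP1

/-!
# Vanishing column sums (Brauer)

For a generalized character `θ` of a `p`-subgroup `P` vanishing off a set `U`, and weights `f χ`
such that `∑_{χ ∈ B} χ(u⁻¹) f(χ) = 0` for `u ∈ U`, the sums `∑_{χ ∈ B} a_χ(θ) f(χ)` vanish.
Applications for an involution `t` no conjugate of which inverts an element of `U`.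
-/

set_option autoImplicit false
set_option linter.unusedSectionVars false
set_option linter.unusedVariables false

namespace Cfsg.Agent.Helper78

open Cfsg
open scoped ComplexConjugate

universe u

section Vanish

variable {G : Type u} [Group G] [Fintype G] {M : Ideal AlgInt} {p : ℕ}

/-- General vanishing principle. -/
theorem sum_coeff_mul_eq_zero (B : Finset (IrrCharacter G)) (P : Subgroup G) [Fintype P]
    (θ : P → ℂ) (U : Set G) (hθU : ∀ y : P, (y : G) ∉ U → θ y = 0) (f : IrrCharacter G → ℂ)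
    (hf : ∀ u : P, (u : G) ∈ U → ∑ χ ∈ B, (χ : G → ℂ) ((u : G)⁻¹) * f χ = 0) :
    ∑ χ ∈ B, ((Nat.card P : ℂ)⁻¹ * ∑ y : P, (χ : G → ℂ) (y : G) * θ y⁻¹) * f χ = 0 := by
  classical
  simp_rw [sum_char_mul_inv P _ θ, mul_assoc, Finset.sum_mul]
  rw [← Finset.mul_sum, Finset.sum_comm]
  have : ∀ u : P, ∑ χ ∈ B, θ u * (χ : G → ℂ) ((u : G)⁻¹) * f χ = 0 := by
    intro u
    by_cases hu : (u : G) ∈ U
    · simp_rw [mul_assoc]
      rw [← Finset.mul_sum, hf u hu, mul_zero]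
    · rw [hθU u hu]; simp
  rw [Finset.sum_eq_zero (fun u _ => this u), mul_zero]

variable [Fact p.Prime]

/-- Weights `χ(1)`: needs `1 ∉ U`. -/
theorem sum_inv_mul_one_eq_zero (hM : IsPModular p M) {B : Set (IrrCharacter G)} (hB : IsPBlock M B)
    (hBf : B.Finite) (u : G) (hu : ∃ k : ℕ, orderOf u = p ^ k) (hu1 : u ≠ 1) :
    ∑ χ ∈ hBf.toFinset, (χ : G → ℂ) u⁻¹ * (χ : G → ℂ) 1 = 0 := by
  have hp : p.Prime := Fact.out
  have hu' : ∃ k : ℕ, orderOf u⁻¹ = p ^ k := by rw [orderOf_inv]; exact hu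
  have h := Helper16.block_orthogonality hM u⁻¹ 1 u⁻¹ 1 (isPPart_self_of_orderOf hp hu')
    (isPPart_self_of_orderOf hp ⟨0, by simp⟩) ?_ B hB
  · rw [finsum_mem_eq_finite_toFinset_sum _ hBf] at h
    simpa using h
  · intro hc
    rw [isConj_one_left] at hc
    exact hu1 (inv_eq_one.mp hc)

/-- Weights `χ(t)` for an involution `t`: needs `u⁻¹` not conjugate to `t`. -/
theorem sum_inv_mul_invol_eq_zero (hM : IsPModular p M) {B : Set (IrrCharacter G)}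
    (hB : IsPBlock M B) (hBf : B.Finite) (u t : G) (hu : ∃ k : ℕ, orderOf u = p ^ k)
    (ht : ∃ k : ℕ, orderOf t = p ^ k) (htt : t⁻¹ = t) (hne : ¬ IsConj u⁻¹ t) :
    ∑ χ ∈ hBf.toFinset, (χ : G → ℂ) u⁻¹ * (χ : G → ℂ) t = 0 := by
  have hp : p.Prime := Fact.out
  have hu' : ∃ k : ℕ, orderOf u⁻¹ = p ^ k := by rw [orderOf_inv]; exact hu
  have h := Helper16.block_orthogonality hM u⁻¹ t u⁻¹ t (isPPart_self_of_orderOf hp hu')
    (isPPart_self_of_orderOf hp ht) hne B hB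
  rw [finsum_mem_eq_finite_toFinset_sum _ hBf, htt] at h
  exact h

/-- Weights `χ(t)²/χ(1)`: needs that no conjugate of `u⁻¹` is the `p`-part of a product
`t (g t g⁻¹)`. -/
theorem sum_inv_mul_sq_div_eq_zero (hM : IsPModular p M) {B : Set (IrrCharacter G)}
    (hB : IsPBlock M B) (hBf : B.Finite) (u t : G) (hu : ∃ k : ℕ, orderOf u = p ^ k)
    (htt : t⁻¹ = t)
    (hne : ∀ g z : G, IsPPart p (t * (g * t * g⁻¹)) z → ¬ IsConj u⁻¹ z) :
    ∑ χ ∈ hBf.toFinset, (χ : G → ℂ) u⁻¹ * ((χ : G → ℂ) t ^ 2 / (χ : G → ℂ) 1) = 0 := by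
  classical
  have hp : p.Prime := Fact.out
  have hu' : ∃ k : ℕ, orderOf u⁻¹ = p ^ k := by rw [orderOf_inv]; exact hu
  have hG0 : (Nat.card G : ℂ) ≠ 0 := by
    have : 0 < Nat.card G := Nat.card_pos
    exact_mod_cast this.ne'
  have hf : ∀ χ : IrrCharacter G, (χ : G → ℂ) t ^ 2 / (χ : G → ℂ) 1 =
      (Nat.card G : ℂ)⁻¹ * ∑ g : G, (χ : G → ℂ) (g * t * g⁻¹ * t) := by
    intro χ
    have h1 := Helper81.irr_sum_conj_mul χ t t
    have hχ1 : (χ : G → ℂ) 1 ≠ 0 := Helper16.irr_one_ne_zero χ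
    field_simp
    rw [mul_comm, h1]
    ring
  simp_rw [hf, Finset.mul_sum]
  rw [Finset.sum_comm]
  refine Finset.sum_eq_zero (fun g _ => ?_)
  obtain ⟨z, hz⟩ := Helper16.exists_isPPart p hp (t * (g * t * g⁻¹))
  have h := Helper16.block_orthogonality hM u⁻¹ (t * (g * t * g⁻¹)) u⁻¹ z
    (isPPart_self_of_orderOf hp hu') hz (hne g z hz) B hB
  rw [finsum_mem_eq_finite_toFinset_sum _ hBf] at h
  have hinv : (t * (g * t * g⁻¹))⁻¹ = g * t * g⁻¹ * t := by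
    rw [mul_inv_rev, mul_inv_rev, mul_inv_rev, inv_inv, htt]
    group
  rw [hinv] at h
  have h2 : ∑ χ ∈ hBf.toFinset, (χ : G → ℂ) u⁻¹ * ((Nat.card G : ℂ)⁻¹ *
      (χ : G → ℂ) (g * t * g⁻¹ * t)) = (Nat.card G : ℂ)⁻¹ *
      ∑ χ ∈ hBf.toFinset, (χ : G → ℂ) u⁻¹ * (χ : G → ℂ) (g * t * g⁻¹ * t) := by
    rw [Finset.mul_sum]
    refine Finset.sum_congr rfl (fun χ _ => ?_)
    ring
  rw [h2, h, mul_zero]

end Vanish

section Invert

variable {G : Type u} [Group G] [Finite G]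

/-- If `u⁻¹` is conjugate to the `p`-part of a product `t (g t g⁻¹)` of two conjugates of the
involution `t`, then some conjugate of `t` inverts `u`. -/
theorem exists_conj_inverts_of_isPPart {p : ℕ} (hp : p.Prime) {t u g z : G} (htt : t⁻¹ = t)
    (hz : IsPPart p (t * (g * t * g⁻¹)) z) (hc : IsConj u⁻¹ z) :
    ∃ c : G, (c * t * c⁻¹) * u * (c * t * c⁻¹)⁻¹ = u⁻¹ := by
  obtain ⟨a, ha⟩ := exists_pow_eq_of_isPPart hp hz
  set h := t * (g * t * g⁻¹) with hh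
  have ht2 : t * t = 1 := by
    have := mul_inv_cancel t
    rwa [htt] at this
  have hth : t * h * t⁻¹ = h⁻¹ := by
    rw [eq_inv_iff_mul_eq_one, hh, htt]
    calc t * (t * (g * t * g⁻¹)) * t * (t * (g * t * g⁻¹))
        = (t * t) * g * t * g⁻¹ * (t * t) * g * t * g⁻¹ := by group
      _ = g * t * t * g⁻¹ := by rw [ht2]; group
      _ = g * (t * t) * g⁻¹ := by group
      _ = 1 := by rw [ht2]; group
  have htz : t * z * t⁻¹ = z⁻¹ := by
    rw [← ha, ← inv_pow, ← hth, conj_pow]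
  obtain ⟨c, hc⟩ := isConj_iff.mp hc
  refine ⟨c⁻¹, ?_⟩
  have hu : u⁻¹ = c⁻¹ * z * c := by rw [← hc]; group
  have h1 : (c⁻¹ * t * c⁻¹⁻¹) * u⁻¹ * (c⁻¹ * t * c⁻¹⁻¹)⁻¹ = u := by
    rw [hu]
    calc c⁻¹ * t * c⁻¹⁻¹ * (c⁻¹ * z * c) * (c⁻¹ * t * c⁻¹⁻¹)⁻¹
        = c⁻¹ * (t * z * t⁻¹) * c := by group
      _ = c⁻¹ * z⁻¹ * c := by rw [htz]
      _ = (c⁻¹ * z * c)⁻¹ := by group
      _ = u := by rw [← hu, inv_inv]
  calc (c⁻¹ * t * c⁻¹⁻¹) * u * (c⁻¹ * t * c⁻¹⁻¹)⁻¹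
      = ((c⁻¹ * t * c⁻¹⁻¹) * u⁻¹ * (c⁻¹ * t * c⁻¹⁻¹)⁻¹)⁻¹ := by group
    _ = u⁻¹ := by rw [h1]

end Invert

section RealArith

variable {ι : Type*}

/-- Real-number core of Brauer's sign argument. -/
theorem real_ratio_const (s : Finset ι) (r d x : ι → ℝ) (hd : ∀ i ∈ s, 0 < d i)
    (h1 : ∑ i ∈ s, r i * d i = 0) (h2 : ∑ i ∈ s, r i * x i = 0)
    (h3 : ∑ i ∈ s, r i * x i ^ 2 / d i = 0) (c : ℝ)
    (hc : ∀ i ∈ s, 0 < r i → x i / d i = c) :
    ∀ i ∈ s, r i ≠ 0 → x i / d i = c := by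
  have hsum : ∑ i ∈ s, r i * d i * (x i / d i - c) ^ 2 = 0 := by
    have hexp : ∀ i ∈ s, r i * d i * (x i / d i - c) ^ 2 =
        r i * x i ^ 2 / d i - 2 * c * (r i * x i) + c ^ 2 * (r i * d i) := by
      intro i hi
      have := (hd i hi).ne'
      field_simp
      ring
    rw [Finset.sum_congr rfl hexp, Finset.sum_add_distrib, Finset.sum_sub_distrib,
      ← Finset.mul_sum, ← Finset.mul_sum, h1, h2, h3]
    ring
  have hnonpos : ∀ i ∈ s, r i * d i * (x i / d i - c) ^ 2 ≤ 0 := by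
    intro i hi
    by_cases hri : 0 < r i
    · rw [hc i hi hri, sub_self]; simp
    · push Not at hri
      have : r i * d i ≤ 0 := mul_nonpos_of_nonpos_of_nonneg hri (hd i hi).le
      exact mul_nonpos_of_nonpos_of_nonneg this (sq_nonneg _)
  have hzero := (Finset.sum_eq_zero_iff_of_nonpos hnonpos).mp hsum
  intro i hi hri
  have h := hzero i hi
  have hdi := (hd i hi).ne'
  rcases mul_eq_zero.mp h with h | h
  · rcases mul_eq_zero.mp h with h | h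
    · exact absurd h hri
    · exact absurd h hdi
  · have := pow_eq_zero_iff (two_ne_zero) |>.mp h
    linarith

/-- If at most one `r i` is positive (or at most one is negative), all indices with `r i ≠ 0`
have `x i = d i`, given one such index with `x i₀ = d i₀`. -/
theorem real_signs (s : Finset ι) (r d x : ι → ℝ) (hd : ∀ i ∈ s, 0 < d i)
    (h1 : ∑ i ∈ s, r i * d i = 0) (h2 : ∑ i ∈ s, r i * x i = 0)
    (h3 : ∑ i ∈ s, r i * x i ^ 2 / d i = 0) (i₀ : ι) (hi₀ : i₀ ∈ s) (hr0 : r i₀ ≠ 0)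
    (hx0 : x i₀ = d i₀)
    (hpos : ∀ i ∈ s, ∀ j ∈ s, 0 < r i → 0 < r j → i = j) :
    ∀ i ∈ s, r i ≠ 0 → x i = d i := by
  classical
  have key : ∃ c : ℝ, ∀ i ∈ s, 0 < r i → x i / d i = c := by
    by_cases hex : ∃ ψ ∈ s, 0 < r ψ
    · obtain ⟨ψ, hψ, hrψ⟩ := hex
      refine ⟨x ψ / d ψ, fun i hi hri => ?_⟩
      rw [hpos i hi ψ hψ hri hrψ]
    · push Not at hex
      exact ⟨1, fun i hi hri => absurd hri (not_lt.mpr (hex i hi))⟩
  obtain ⟨c, hc⟩ := key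
  have hall := real_ratio_const s r d x hd h1 h2 h3 c hc
  have hc1 : c = 1 := by
    rw [← hall i₀ hi₀ hr0, hx0, div_self (hd i₀ hi₀).ne']
  intro i hi hri
  have := hall i hi hri
  rw [hc1, div_eq_one_iff_eq (hd i hi).ne'] at this
  exact this

end RealArith

end Cfsg.Agent.Helper78
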