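import Cfsg.Agent.Helper78.Residue
import Mathlib.LinearAlgebra.Determinant
import Mathlib.LinearAlgebra.Trace
import Mathlib.LinearAlgebra.Projection
import Mathlib.RingTheory.RootsOfUnity.Complex
import Mathlib.RingTheory.Polynomial.Cyclotomic.Eval

/-!
# The rank of an idempotent matrix over the local ring at `M` is determined by its reduction

`trace_eq_of_idempotent_of_congr`: two idempotent complex matrices with entries in the local ring at
`M` which are entrywise congruent modulo the local ideal have the same trace (= rank).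

Proof: `det (1 + x • E) = (1 + x) ^ r` for an idempotent `E` of rank `r`; take `x = ζ - 1` for a
primitive `ℓ`-th root of unity, `ℓ` a large prime different from `p`.
-/

set_option autoImplicit false
set_option linter.unusedSectionVars false
set_option linter.unusedVariables false

namespace Cfsg.Agent.Helper78

open Cfsg Cfsg.Agent.Helper77

/-- For an idempotent complex matrix `E` there is `r : ℕ` with `trace E = r` and
`det (1 + x • E) = (1 + x) ^ r` for every `x`. -/
theorem exists_nat_trace_det_one_add_smul {n : Type*} [Fintype n] [DecidableEq n]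
    (E : Matrix n n ℂ) (hE : E * E = E) :
    ∃ r : ℕ, r ≤ Fintype.card n ∧ E.trace = (r : ℂ) ∧
      ∀ x : ℂ, (1 + x • E).det = (1 + x) ^ r := by
  classical
  set f : (n → ℂ) →ₗ[ℂ] (n → ℂ) := Matrix.toLin' E with hf
  have hff : IsIdempotentElem f := by
    show f * f = f
    rw [hf, Module.End.mul_eq_comp, ← Matrix.toLin'_mul, hE]
  have hproj : LinearMap.IsProj (LinearMap.range f) f :=
    LinearMap.IsIdempotentElem.isProj_range f hff
  set e := (LinearMap.range f).prodEquivOfIsCompl (LinearMap.ker f) hproj.isCompl with he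
  have hfe : f = e.conj (LinearMap.prodMap LinearMap.id 0) := hproj.eq_conj_prodMap
  refine ⟨Module.finrank ℂ (LinearMap.range f), ?_, ?_, ?_⟩
  · calc Module.finrank ℂ (LinearMap.range f) ≤ Module.finrank ℂ (n → ℂ) :=
        Submodule.finrank_le _
      _ = Fintype.card n := Module.finrank_fintype_fun_eq_card ℂ
  · have h1 : LinearMap.trace ℂ (n → ℂ) f = (Module.finrank ℂ (LinearMap.range f) : ℂ) :=
      hproj.trace
    rw [← h1, hf, Matrix.trace_toLin'_eq]
  · intro x
    have h1 : (1 + x • E).det = LinearMap.det (Matrix.toLin' (1 + x • E)) :=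
      (LinearMap.det_toLin' _).symm
    have h2 : Matrix.toLin' (1 + x • E) = LinearMap.id + x • f := by
      rw [map_add, map_smul, Matrix.toLin'_one]
    have h3 : LinearMap.id + x • f =
        e.conj (LinearMap.prodMap ((1 + x) • LinearMap.id) LinearMap.id) := by
      have h4 : (LinearMap.prodMap ((1 + x) • LinearMap.id) LinearMap.id :
          Module.End ℂ (↥(LinearMap.range f) × ↥(LinearMap.ker f))) =
          LinearMap.id + x • LinearMap.prodMap LinearMap.id 0 := by
        ext v <;> simp [add_smul]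
      rw [h4, map_add, map_smul, LinearEquiv.conj_id, ← hfe]
    rw [h1, h2, h3, LinearEquiv.conj_apply, LinearMap.comp_assoc, LinearMap.det_conj,
      LinearMap.det_prodMap,
      LinearMap.det_smul, LinearMap.det_id, LinearMap.det_id, mul_one, mul_one]


variable {M : Ideal AlgInt} {p : ℕ}

/-- A root of unity of prime order `ℓ ≠ p` is not congruent to `1` modulo the local ideal. -/
theorem not_memLocalIdeal_primitiveRoot_sub_one (hM : IsPModular p M) {ℓ : ℕ} (hℓ : ℓ.Prime)
    (hℓp : ℓ ≠ p) {η : ℂ} (hη : IsPrimitiveRoot η ℓ) : ¬ MemLocalIdeal M (η - 1) := by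
  haveI hMp : M.IsPrime := isPrime_of_isPModular hM
  intro h
  have hηR : MemLocalRing M η :=
    memLocalRing_of_isIntegral M (hη.isIntegral hℓ.pos)
  have hpow : ∀ j : ℕ, MemLocalIdeal M (1 - η ^ j) := by
    intro j
    induction j with
    | zero => simpa using memLocalIdeal_zero M
    | succ j ih =>
      have h1 : (1 : ℂ) - η ^ (j + 1) = (1 - η ^ j) + η ^ j * (-(η - 1)) := by ring
      rw [h1]
      exact memLocalIdeal_add M ih
        (memLocalIdeal_mul_left M (memLocalRing_pow M hηR j) (memLocalIdeal_neg h))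
  have hsum : ∑ j ∈ Finset.range ℓ, η ^ j = 0 := hη.geom_sum_eq_zero hℓ.one_lt
  have hℓmem : MemLocalIdeal M (ℓ : ℂ) := by
    have h2 : (ℓ : ℂ) = ∑ j ∈ Finset.range ℓ, (1 - η ^ j) := by
      rw [Finset.sum_sub_distrib, hsum, sub_zero, Finset.sum_const, Finset.card_range,
        nsmul_eq_mul, mul_one]
    rw [h2]
    exact memLocalIdeal_sum M _ _ (fun j _ => hpow j)
  have hdvd : p ∣ ℓ := (memLocalIdeal_natCast_iff hM ℓ).mp hℓmem
  have := (Nat.prime_dvd_prime_iff_eq hM.1 hℓ).mp hdvd
  exact hℓp this.symm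

/-- **The rank of an idempotent matrix is determined by its reduction.**  Two idempotent complex
matrices with entries in the local ring at `M`, entrywise congruent modulo the local ideal, have
the same trace. -/
theorem trace_eq_of_idempotent_of_congr (hM : IsPModular p M) {n : Type*} [Fintype n]
    [DecidableEq n] (E E' : Matrix n n ℂ) (hE : E * E = E) (hE' : E' * E' = E')
    (hR : ∀ i j, MemLocalRing M (E i j)) (hR' : ∀ i j, MemLocalRing M (E' i j))
    (hc : ∀ i j, MemLocalIdeal M (E i j - E' i j)) : E.trace = E'.trace := by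
  classical
  haveI hMp : M.IsPrime := isPrime_of_isPModular hM
  obtain ⟨r, hr, htr, hdet⟩ := exists_nat_trace_det_one_add_smul E hE
  obtain ⟨r', hr', htr', hdet'⟩ := exists_nat_trace_det_one_add_smul E' hE'
  rw [htr, htr']
  by_contra hne
  have hrr : r ≠ r' := fun h => hne (by rw [h])
  -- a large prime `ℓ ≠ p`
  obtain ⟨ℓ, hℓge, hℓ⟩ := Nat.exists_infinite_primes (max (Fintype.card n) p + 1)
  have hℓn : Fintype.card n < ℓ := lt_of_lt_of_le (Nat.lt_succ_of_le (le_max_left _ _)) hℓge
  have hℓp : ℓ ≠ p := by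
    have : p < ℓ := lt_of_lt_of_le (Nat.lt_succ_of_le (le_max_right _ _)) hℓge
    omega
  set ζ : ℂ := Complex.exp (2 * Real.pi * Complex.I / ℓ) with hζdef
  have hζ : IsPrimitiveRoot ζ ℓ := Complex.isPrimitiveRoot_exp ℓ hℓ.ne_zero
  have hζR : MemLocalRing M ζ := memLocalRing_of_isIntegral M (hζ.isIntegral hℓ.pos)
  have hζ1R : MemLocalRing M (ζ - 1) := memLocalRing_sub M hζR (localRing M).one_mem
  -- the two matrices
  have hA : ∀ i j, MemLocalRing M ((1 + (ζ - 1) • E) i j) := by
    intro i j
    rw [Matrix.add_apply, Matrix.smul_apply, smul_eq_mul]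
    refine memLocalRing_add M ?_ (memLocalRing_mul M hζ1R (hR i j))
    by_cases hij : i = j
    · rw [hij, Matrix.one_apply_eq]; exact (localRing M).one_mem
    · rw [Matrix.one_apply_ne hij]; exact (localRing M).zero_mem
  have hA' : ∀ i j, MemLocalRing M ((1 + (ζ - 1) • E') i j) := by
    intro i j
    rw [Matrix.add_apply, Matrix.smul_apply, smul_eq_mul]
    refine memLocalRing_add M ?_ (memLocalRing_mul M hζ1R (hR' i j))
    by_cases hij : i = j
    · rw [hij, Matrix.one_apply_eq]; exact (localRing M).one_mem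
    · rw [Matrix.one_apply_ne hij]; exact (localRing M).zero_mem
  have hAA' : ∀ i j, MemLocalIdeal M ((1 + (ζ - 1) • E) i j - (1 + (ζ - 1) • E') i j) := by
    intro i j
    rw [Matrix.add_apply, Matrix.add_apply, Matrix.smul_apply, Matrix.smul_apply, smul_eq_mul,
      smul_eq_mul]
    have : (1 : Matrix n n ℂ) i j + (ζ - 1) * E i j - ((1 : Matrix n n ℂ) i j + (ζ - 1) * E' i j) =
        (ζ - 1) * (E i j - E' i j) := by ring
    rw [this]
    exact memLocalIdeal_mul_left M hζ1R (hc i j)
  have hdd := det_sub_det_memLocalIdeal M _ _ hA hA' hAA'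
  rw [hdet, hdet', add_sub_cancel] at hdd
  -- `ζ ^ r - ζ ^ r' ∈ MR` with `r ≠ r'`, both `< ℓ`
  have key : ∀ a b : ℕ, a < b → b < ℓ → MemLocalIdeal M (ζ ^ b - ζ ^ a) → False := by
    intro a b hab hbℓ hmem
    have hd : 0 < b - a := Nat.sub_pos_of_lt hab
    have hdl : b - a < ℓ := lt_of_le_of_lt (Nat.sub_le _ _) hbℓ
    have hcop : Nat.Coprime (b - a) ℓ :=
      ((Nat.Prime.coprime_iff_not_dvd hℓ).mpr (Nat.not_dvd_of_pos_of_lt hd hdl)).symm
    have hη : IsPrimitiveRoot (ζ ^ (b - a)) ℓ := hζ.pow_of_coprime _ hcop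
    have haℓ : a < ℓ := lt_trans hab hbℓ
    have h1 : ζ ^ (b - a) - 1 = ζ ^ (ℓ - a) * (ζ ^ b - ζ ^ a) := by
      have hb' : b = (b - a) + a := (Nat.sub_add_cancel hab.le).symm
      have e1 : ζ ^ (ℓ - a) * ζ ^ a = 1 := by
        rw [← pow_add, Nat.sub_add_cancel haℓ.le, hζ.pow_eq_one]
      have e2 : ζ ^ b = ζ ^ (b - a) * ζ ^ a := by
        conv_lhs => rw [hb', pow_add]
      rw [e2, mul_sub, ← mul_assoc, mul_comm (ζ ^ (ℓ - a)) (ζ ^ (b - a)), mul_assoc, e1, mul_one]
    have h2 : MemLocalIdeal M (ζ ^ (b - a) - 1) := by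
      rw [h1]
      exact memLocalIdeal_mul_left M (memLocalRing_pow M hζR _) hmem
    exact not_memLocalIdeal_primitiveRoot_sub_one hM hℓ hℓp hη h2
  rcases lt_or_gt_of_ne hrr with h | h
  · exact key r r' h (lt_of_le_of_lt hr' hℓn) (by
      have := memLocalIdeal_neg hdd
      rwa [neg_sub] at this)
  · exact key r' r h (lt_of_le_of_lt hr hℓn) hdd

end Cfsg.Agent.Helper78
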