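import Cfsg.Agent.Helper78.PSection
import Cfsg.Agent.Helper78.IrrBasic
import Cfsg.Agent.Helper78.BlockBasic
import Cfsg.Agent.Helper77.DefectOrder
import Cfsg.Agent.Helper77.BlockOrth
import Cfsg.Agent.Helper80.Degree
import Cfsg.Agent.Helper16.Defect

/-!
# Height zero characters and defect classes
-/

set_option autoImplicit false
set_option linter.unusedSectionVars false
set_option linter.unusedVariables false

namespace Cfsg.Agent.Helper78

open Cfsg

universe u

variable {G : Type u} [Group G] [Finite G] {M : Ideal AlgInt} {p : ℕ}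

/-- Defect classes consist of `p`-regular elements. -/
theorem not_dvd_orderOf_of_isDefectClass (hM : IsPModular p M) {B : Set (IrrCharacter G)}
    (hB : IsPBlock M B) {y : G} (hy : IsDefectClass M B y) : ¬ p ∣ orderOf y := by
  classical
  haveI : Fintype G := Fintype.ofFinite G
  have hMp : M.IsPrime := isPrime_of_isPModular hM
  intro hdiv
  apply hy.2.1
  rw [Helper77.blockCoeff_eq_zero_of_dvd_orderOf hM hB y hdiv]
  exact memLocalIdeal_zero hMp

/-- Every block contains a character of height zero. -/
theorem exists_height_zero (hMp : M.IsPrime) {B : Set (IrrCharacter G)} (hB : IsPBlock M B) :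
    ∃ χ ∈ B, blockHeight p B (χ : G → ℂ) = 0 := by
  obtain ⟨χ₀, hχ₀⟩ := isPBlock_nonempty hMp hB
  have hne : ((fun ψ : IrrCharacter G => (charDegree (ψ : G → ℂ)).factorization p) '' B).Nonempty :=
    ⟨_, χ₀, hχ₀, rfl⟩
  obtain ⟨χ, hχ, hval⟩ := Nat.sInf_mem hne
  refine ⟨χ, hχ, ?_⟩
  unfold blockHeight
  have hval' : (charDegree (χ : G → ℂ)).factorization p =
      sInf ((fun ψ : IrrCharacter G => (charDegree (ψ : G → ℂ)).factorization p) '' B) := hval
  rw [hval']
  exact Nat.sub_self _

/-- The defect of a block is the exponent of `p` in the order of the centralizer of a defect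
class. -/
theorem blockDefect_eq_of_isDefectClass [Fact p.Prime] (hM : IsPModular p M)
    {B : Set (IrrCharacter G)} (hB : IsPBlock M B) {y : G} (hy : IsDefectClass M B y) :
    blockDefect p B = (Nat.card (Subgroup.centralizer ({y} : Set G))).factorization p := by
  classical
  haveI : Fintype G := Fintype.ofFinite G
  have hp : p.Prime := hM.1
  obtain ⟨P⟩ : Nonempty (Sylow p (Subgroup.centralizer ({y} : Set G))) := inferInstance
  have hDdef : IsDefectGroup p M B ((P : Subgroup (Subgroup.centralizer ({y} : Set G))).map
      (Subgroup.centralizer ({y} : Set G)).subtype) := ⟨y, hy, P, rfl⟩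
  have h1 := Helper77.card_defectGroup hM hB _ hDdef
  rw [Subgroup.card_map_of_injective (Subgroup.subtype_injective _), P.card_eq_multiplicity] at h1
  exact (Nat.pow_right_injective hp.two_le h1).symm

/-- For a character of height zero in `B` and a defect class `y` of `B`, the `p`-parts of `χ 1` and
of the class size of `y` agree. -/
theorem factorization_charDegree_of_height_zero [Fact p.Prime] (hM : IsPModular p M)
    {B : Set (IrrCharacter G)} (hB : IsPBlock M B) {y : G} (hy : IsDefectClass M B y)
    (χ : IrrCharacter G) (hχ : χ ∈ B) (hht : blockHeight p B (χ : G → ℂ) = 0) :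
    (charDegree (χ : G → ℂ)).factorization p =
      (Subgroup.centralizer ({y} : Set G)).index.factorization p := by
  have hp : p.Prime := hM.1
  have hd := blockDefect_eq_of_isDefectClass hM hB hy
  unfold blockDefect at hd
  unfold blockHeight at hht
  set S := ((fun ψ : IrrCharacter G => (charDegree (ψ : G → ℂ)).factorization p) '' B) with hS
  have h1 : sInf S ≤ (charDegree (χ : G → ℂ)).factorization p := Nat.sInf_le ⟨χ, hχ, rfl⟩
  have hdvd : charDegree (χ : G → ℂ) ∣ Nat.card G :=
    Helper80.IsIrrCharacter.charDegree_dvd_card χ.2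
  have hdeg0 : charDegree (χ : G → ℂ) ≠ 0 := (charDegree_pos_of_isIrrCharacter χ.2).ne'
  have hG0 : Nat.card G ≠ 0 := Nat.card_pos.ne'
  have h2 : (charDegree (χ : G → ℂ)).factorization p ≤ (Nat.card G).factorization p :=
    (Nat.factorization_le_iff_dvd hdeg0 hG0).mpr hdvd p
  have h3 : (Subgroup.centralizer ({y} : Set G)).index *
      Nat.card (Subgroup.centralizer ({y} : Set G)) = Nat.card G := Subgroup.index_mul_card _
  have hi0 : (Subgroup.centralizer ({y} : Set G)).index ≠ 0 := by
    intro h0; rw [h0, zero_mul] at h3; exact hG0 h3.symm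
  have hc0 : Nat.card (Subgroup.centralizer ({y} : Set G)) ≠ 0 := Nat.card_pos.ne'
  have h4 : (Subgroup.centralizer ({y} : Set G)).index.factorization p +
      (Nat.card (Subgroup.centralizer ({y} : Set G))).factorization p =
      (Nat.card G).factorization p := by
    rw [← h3, Nat.factorization_mul hi0 hc0]
    rfl
  omega

/-- If the `p`-part of `χ 1` is at most that of the class size of `g`, then `χ g` in the ideal
forces the central character at `g` into the ideal. -/
theorem centralChar_memLocalIdeal_of_value (hM : IsPModular p M) (χ : IrrCharacter G) (g : G)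
    (h : (charDegree (χ : G → ℂ)).factorization p ≤
      (Subgroup.centralizer ({g} : Set G)).index.factorization p)
    (hg : MemLocalIdeal M ((χ : G → ℂ) g)) : MemLocalIdeal M (centralChar (χ : G → ℂ) g) := by
  have hMp : M.IsPrime := isPrime_of_isPModular hM
  have hdeg0 : charDegree (χ : G → ℂ) ≠ 0 := (charDegree_pos_of_isIrrCharacter χ.2).ne'
  have hi0 : (Subgroup.centralizer ({g} : Set G)).index ≠ 0 := by
    have h3 : (Subgroup.centralizer ({g} : Set G)).index *
      Nat.card (Subgroup.centralizer ({g} : Set G)) = Nat.card G := Subgroup.index_mul_card _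
    intro h0; rw [h0, zero_mul] at h3; exact Nat.card_pos.ne' h3.symm
  unfold centralChar
  rw [irrChar_one_eq_charDegree χ.2]
  have e : ((Subgroup.centralizer ({g} : Set G)).index : ℂ) * (χ : G → ℂ) g /
      (charDegree (χ : G → ℂ) : ℂ) =
      ((Subgroup.centralizer ({g} : Set G)).index : ℂ) / (charDegree (χ : G → ℂ) : ℂ) *
        (χ : G → ℂ) g := by ring
  rw [e]
  exact memLocalIdeal_mul_left hMp (memLocalRing_natCast_div hM hdeg0 hi0 h) hg

/-- If the `p`-part of the class size of `g` is at most that of `χ 1`, then the central character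
at `g` in the ideal forces `χ g` into the ideal. -/
theorem value_memLocalIdeal_of_centralChar (hM : IsPModular p M) (χ : IrrCharacter G) (g : G)
    (h : (Subgroup.centralizer ({g} : Set G)).index.factorization p ≤
      (charDegree (χ : G → ℂ)).factorization p)
    (hg : MemLocalIdeal M (centralChar (χ : G → ℂ) g)) : MemLocalIdeal M ((χ : G → ℂ) g) := by
  have hMp : M.IsPrime := isPrime_of_isPModular hM
  have hdeg0 : charDegree (χ : G → ℂ) ≠ 0 := (charDegree_pos_of_isIrrCharacter χ.2).ne'
  have hi0 : (Subgroup.centralizer ({g} : Set G)).index ≠ 0 := by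
    have h3 : (Subgroup.centralizer ({g} : Set G)).index *
      Nat.card (Subgroup.centralizer ({g} : Set G)) = Nat.card G := Subgroup.index_mul_card _
    intro h0; rw [h0, zero_mul] at h3; exact Nat.card_pos.ne' h3.symm
  have hdegc : (charDegree (χ : G → ℂ) : ℂ) ≠ 0 := by exact_mod_cast hdeg0
  have hic : ((Subgroup.centralizer ({g} : Set G)).index : ℂ) ≠ 0 := by exact_mod_cast hi0
  have e : (χ : G → ℂ) g = (charDegree (χ : G → ℂ) : ℂ) /
      ((Subgroup.centralizer ({g} : Set G)).index : ℂ) * centralChar (χ : G → ℂ) g := by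
    unfold centralChar
    rw [irrChar_one_eq_charDegree χ.2]
    field_simp
  rw [e]
  exact memLocalIdeal_mul_left hMp (memLocalRing_natCast_div hM hi0 hdeg0 h) hg

end Cfsg.Agent.Helper78
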