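import Mathlib
import Cfsg.Agent.Helper77.Blk.Defs

/-!
# S3888 farm (helper77), piece (C3): `class_fam3`
-/

set_option autoImplicit false

universe u

namespace Cfsg.Agent.Helper78.Blk

open Subgroup Cfsg.Agent.Helper77.Blk

section aux
variable {G : Type u} [Group G]

theorem C3_conj_pow (x g : G) (k : ℕ) : x⁻¹ * g ^ k * x = (x⁻¹ * g * x) ^ k := by
  have := conj_pow (a := x⁻¹) (b := g) (i := k)
  simpa using this.symm

theorem C3_conj_mul (x g h : G) : x⁻¹ * (g * h) * x = (x⁻¹ * g * x) * (x⁻¹ * h * x) := by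
  group

theorem C3_pow_congr {g : G} {p a b : ℕ} (hg : g ^ p = 1) (h : a ≡ b [MOD p]) : g ^ a = g ^ b :=
  pow_eq_pow_iff_modEq.2 (h.of_dvd (orderOf_dvd_of_pow_eq_one hg))

theorem C3_mem_of_pow_mem {p : ℕ} (hp : p.Prime) (K : Subgroup G) (g : G) (i : ℕ) (hg : g ^ p = 1)
    (hi : ¬ p ∣ i) (h : g ^ i ∈ K) : g ∈ K := by
  have hcop : Nat.Coprime i p := (Nat.Coprime.symm ((Nat.Prime.coprime_iff_not_dvd hp).2 hi))
  obtain ⟨j, -, hj⟩ := Nat.exists_mul_mod_eq_one_of_coprime hcop hp.one_lt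
  have h1 : g ^ (i * j) = g ^ 1 := by
    apply C3_pow_congr hg
    unfold Nat.ModEq
    rw [hj, Nat.one_mod_eq_one.2 hp.one_lt.ne']
  rw [pow_one, pow_mul] at h1
  rw [← h1]
  exact K.pow_mem h j

theorem C3_card_lt [Finite G] {H K : Subgroup G} (h : H < K) : Nat.card H < Nat.card K := by
  by_contra hcon
  rw [not_lt] at hcon
  exact h.ne (Subgroup.eq_of_le_of_card_ge h.le hcon)

end aux

section beta
variable {G : Type u} [Group G] [Finite G] {p : ℕ} [hp : Fact p.Prime]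

/-- generation -/
theorem C3_gen (n : ℕ) (hG : Nat.card G = p ^ n) (x z y : G) (m : ℕ) (hn : n = m + 2)
    (hz : orderOf z = p ^ m) (hyz : y ∉ zpowers z) (hxC : x ∉ closure ({z, y} : Set G))
    (K : Subgroup G) (hzK : z ∈ K) (hyK : y ∈ K) (hxK : x ∈ K) : K = ⊤ := by
  have hpp := hp.out
  set H : Subgroup G := closure ({z, y} : Set G) with hH
  have hzH : z ∈ H := subset_closure (by simp)
  have hyH : y ∈ H := subset_closure (by simp)
  have hHK : H ≤ K := by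
    rw [hH, closure_le]
    intro g hg
    rcases hg with rfl | rfl
    · exact hzK
    · exact hyK
  have hlt1 : zpowers z < H := by
    refine lt_of_le_of_ne ((zpowers_le).2 hzH) ?_
    intro h
    exact hyz (h ▸ hyH)
  have hlt2 : H < K := by
    refine lt_of_le_of_ne hHK ?_
    intro h
    exact hxC (h ▸ hxK)
  obtain ⟨a, -, ha⟩ := (Nat.dvd_prime_pow hpp).1 (hG ▸ Subgroup.card_subgroup_dvd_card H)
  obtain ⟨b, hbn, hb⟩ := (Nat.dvd_prime_pow hpp).1 (hG ▸ Subgroup.card_subgroup_dvd_card K)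
  have h1 := C3_card_lt hlt1
  have h2 := C3_card_lt hlt2
  rw [Nat.card_zpowers, hz, ha] at h1
  rw [ha, hb] at h2
  have h1' : m < a := (Nat.pow_lt_pow_iff_right hpp.one_lt).1 h1
  have h2' : a < b := (Nat.pow_lt_pow_iff_right hpp.one_lt).1 h2
  have hbn' : b = n := by omega
  apply Subgroup.eq_top_of_le_card
  rw [hb, hG, hbn']

/-- the choice of `i` and `s` -/
theorem C3_choice (c : ℕ) (hc : ¬ p ∣ c) :
    ∃ i s : ℕ, ¬ p ∣ i ∧ (s = 1 ∨ ¬ IsSquare (s : ZMod p)) ∧ c * i * i ≡ s [MOD p] := by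
  have hpp := hp.out
  by_cases hsq : IsSquare ((c : ℕ) : ZMod p)
  · obtain ⟨d, hd⟩ := hsq
    have hc0 : ((c : ℕ) : ZMod p) ≠ 0 := by
      rw [Ne, ZMod.natCast_eq_zero_iff]
      exact hc
    have hd0 : d ≠ 0 := by
      rintro rfl
      apply hc0
      simpa using hd
    refine ⟨(d⁻¹).val, 1, ?_, Or.inl rfl, ?_⟩
    · rw [← ZMod.natCast_eq_zero_iff, ZMod.natCast_zmod_val]
      exact inv_ne_zero hd0
    · rw [← ZMod.natCast_eq_natCast_iff]
      push_cast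
      rw [ZMod.natCast_zmod_val, hd]
      field_simp
  · exact ⟨1, c, by simpa using hpp.one_lt.ne', Or.inr hsq, by simp [Nat.ModEq]⟩

/-- (C3) `p ∤ β` ⇒ `Fam3`. -/
theorem class_fam3 (hp2 : p ≠ 2) (n : ℕ) (hG : Nat.card G = p ^ n) (x z y : G) (m : ℕ) (hm : 2 ≤ m)
    (hn : n = m + 2) (hzy : z * y = y * z) (hz : orderOf z = p ^ m) (hy : y ^ p = 1)
    (hyz : y ∉ zpowers z) (hx : x ^ p = 1) (hxC : x ∉ closure ({z, y} : Set G))
    (hNT : ∀ (m α : ℕ), 1 ≤ m → α ^ p ≡ 1 [MOD p ^ m] → α ≡ 1 [MOD p ^ (m - 1)])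
    (hREC : ∀ (x z y z0 : G) (α γ : ℕ), x⁻¹ * z * x = z ^ α * y → x⁻¹ * y * x = y * z0 ^ γ → x⁻¹ * z0 * x = z0 →
      z * y = y * z → z * z0 = z0 * z → y * z0 = z0 * y → y ^ p = 1 → α % p = 1 → ∀ k : ℕ,
      (x ^ k)⁻¹ * z * x ^ k = z ^ (α ^ k) * y ^ k * z0 ^ (γ * k.choose 2))
    (α β γ : ℕ) (hzx : x⁻¹ * z * x = z ^ α * y ^ β) (hyx : x⁻¹ * y * x = y * (z ^ p ^ (m - 1)) ^ γ)
    (hα : α % p = 1) (hγ : ¬ p ∣ γ) (hz0 : x⁻¹ * z ^ p ^ (m - 1) * x = z ^ p ^ (m - 1))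
    (hβ : ¬ p ∣ β) : Fam3 p n G := by
  have hpp := hp.out
  have hp3 : 3 ≤ p := by
    have := hpp.two_le
    omega
  set z0 : G := z ^ p ^ (m - 1) with hz0def
  -- basic facts on z0
  have hz0p : z0 ^ p = 1 := by
    rw [hz0def, ← pow_mul, ← pow_succ, Nat.sub_add_cancel (by omega : 1 ≤ m), ← hz]
    exact pow_orderOf_eq_one z
  have czy : Commute z y := hzy
  have czz0 : Commute z z0 := (Commute.refl z).pow_right _
  have cyz0 : Commute y z0 := czy.symm.pow_right _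
  have cxz0 : Commute x z0 := by
    have : x * (x⁻¹ * z0 * x) = x * z0 := by rw [hz0]
    have h2 : z0 * x = x * z0 := by simpa [mul_assoc] using this
    exact h2.symm
  have hxz0k : ∀ k e : ℕ, (x ^ k)⁻¹ * z0 ^ e * x ^ k = z0 ^ e := by
    intro k e
    have : Commute (x ^ k) (z0 ^ e) := (cxz0.pow_left k).pow_right e
    rw [mul_assoc, ← this.eq, ← mul_assoc, inv_mul_cancel, one_mul]
  -- step 1 : y1 = y ^ β
  set y1 : G := y ^ β with hy1def
  have hy1p : y1 ^ p = 1 := by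
    rw [hy1def, ← pow_mul, mul_comm, pow_mul, hy, one_pow]
  have czy1 : Commute z y1 := czy.pow_right _
  have cy1z0 : Commute y1 z0 := cyz0.pow_left _
  have h1 : x⁻¹ * y1 * x = y1 * z0 ^ (γ * β) := by
    rw [hy1def, C3_conj_pow, hyx, (cyz0.pow_right γ).mul_pow, ← pow_mul]
  -- step 2 : α ^ p ≡ 1
  have hrec1 := hREC x z y1 z0 α (γ * β) hzx h1 hz0 czy1.eq czz0.eq cy1z0.eq hy1p hα p
  have hch : p ∣ p.choose 2 := hpp.dvd_choose_self (by norm_num) (by omega)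
  have hz0ch : z0 ^ (γ * β * p.choose 2) = 1 := by
    obtain ⟨t, ht⟩ := hch
    rw [ht, ← mul_assoc, mul_comm (γ * β) p, mul_assoc, pow_mul, hz0p, one_pow]
  rw [hx, inv_one, one_mul, mul_one, hy1p, mul_one, hz0ch, mul_one] at hrec1
  have hmod : α ^ p ≡ 1 [MOD p ^ m] := by
    have : z ^ (α ^ p) = z ^ 1 := by rw [pow_one]; exact hrec1.symm
    rw [pow_eq_pow_iff_modEq, hz] at this
    exact this
  have hmod' := hNT m α (by omega) hmod
  have hα1 : 1 ≤ α := by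
    rcases Nat.eq_zero_or_pos α with h | h
    · rw [h, Nat.zero_mod] at hα; omega
    · exact h
  obtain ⟨δ, hδ⟩ : ∃ δ, α = 1 + p ^ (m - 1) * δ := by
    have hdvd : p ^ (m - 1) ∣ α - 1 := (Nat.modEq_iff_dvd' hα1).1 hmod'.symm
    obtain ⟨δ, hδ⟩ := hdvd
    exact ⟨δ, by omega⟩
  have hzα : z ^ α = z * z0 ^ δ := by
    rw [hδ, pow_add, pow_one, pow_mul]
  -- step 3 : y2 = z0 ^ δ * y1
  set y2 : G := z0 ^ δ * y1 with hy2def
  set c : ℕ := γ * β with hcdef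
  have hc : ¬ p ∣ c := by
    rw [hcdef, hpp.dvd_mul, not_or]
    exact ⟨hγ, hβ⟩
  have h3 : x⁻¹ * z * x = z ^ 1 * y2 := by
    rw [hzx, hzα, pow_one, hy2def, mul_assoc]
  have czy2 : Commute z y2 := (czz0.pow_right δ).mul_right czy1
  have cy2z0 : Commute y2 z0 := ((Commute.refl z0).pow_left δ).mul_left cy1z0
  have hy2p : y2 ^ p = 1 := by
    rw [hy2def, ((cy1z0.pow_right δ).symm).mul_pow, hy1p, ← pow_mul, mul_comm, pow_mul, hz0p,
      one_pow, one_mul]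
  have h4 : x⁻¹ * y2 * x = y2 * z0 ^ c := by
    rw [hy2def, C3_conj_mul, h1]
    have := hxz0k 1 δ
    rw [pow_one] at this
    rw [this, mul_assoc]
  -- step 4 : powers of x
  have hone : 1 % p = 1 := Nat.one_mod_eq_one.2 hpp.one_lt.ne'
  have hrec2 := hREC x z y2 z0 1 c h3 h4 hz0 czy2.eq czz0.eq cy2z0.eq hy2p hone
  have h6 : ∀ i : ℕ, (x ^ i)⁻¹ * y2 * x ^ i = y2 * z0 ^ (c * i) := by
    intro i
    induction i with
    | zero => simp
    | succ i ih =>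
      have e : (x ^ (i + 1))⁻¹ * y2 * x ^ (i + 1) = x⁻¹ * ((x ^ i)⁻¹ * y2 * x ^ i) * x := by
        rw [pow_succ]; group
      rw [e, ih, C3_conj_mul, h4]
      have := hxz0k 1 (c * i)
      rw [pow_one] at this
      rw [this, mul_assoc, ← pow_add]
      congr 2
      ring
  obtain ⟨i, s, hi, hs, hcis⟩ := C3_choice (p := p) c hc
  set Y : G := y2 ^ i * z0 ^ (c * i.choose 2) with hYdef
  have h5 : (x ^ i)⁻¹ * z * x ^ i = z * Y := by
    rw [hrec2 i, one_pow, pow_one, hYdef, mul_assoc]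
  have czY : Commute z Y := (czy2.pow_right i).mul_right (czz0.pow_right _)
  have h7 : (x ^ i)⁻¹ * Y * x ^ i = Y * z0 ^ s := by
    have e1 : (x ^ i)⁻¹ * Y * x ^ i
        = ((x ^ i)⁻¹ * y2 ^ i * x ^ i) * ((x ^ i)⁻¹ * z0 ^ (c * i.choose 2) * x ^ i) := by
      rw [hYdef]; group
    have e2 : (x ^ i)⁻¹ * y2 ^ i * x ^ i = ((x ^ i)⁻¹ * y2 * x ^ i) ^ i := by
      have := C3_conj_pow (x ^ i) y2 i
      exact this
    rw [e1, e2, h6 i, hxz0k, (cy2z0.pow_right (c * i)).mul_pow, ← pow_mul, hYdef]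
    have e3 : z0 ^ (c * i * i) = z0 ^ s := C3_pow_congr hz0p hcis
    rw [e3]
    have cc : Commute (z0 ^ s) (z0 ^ (c * i.choose 2)) :=
      ((Commute.refl z0).pow_left s).pow_right _
    rw [mul_assoc, cc.eq, ← mul_assoc]
  have hYp : Y ^ p = 1 := by
    rw [hYdef, ((cy2z0.pow_left i).pow_right _).mul_pow, ← pow_mul, mul_comm i p, pow_mul, hy2p,
      one_pow, ← pow_mul, mul_comm _ p, pow_mul, hz0p, one_pow, one_mul]
  refine ⟨by omega, s, x ^ i, Y, z, hs, ?_, ?_, hYp, ?_, czY.symm.eq, ?_, ?_⟩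
  · -- generation
    set K : Subgroup G := closure ({x ^ i, Y, z} : Set G) with hK
    have hxiK : x ^ i ∈ K := subset_closure (by simp)
    have hYK : Y ∈ K := subset_closure (by simp)
    have hzK : z ∈ K := subset_closure (by simp)
    have hz0K : z0 ∈ K := K.pow_mem hzK _
    have hy2iK : y2 ^ i ∈ K := by
      have : y2 ^ i = Y * (z0 ^ (c * i.choose 2))⁻¹ := by rw [hYdef]; group
      rw [this]
      exact K.mul_mem hYK (K.inv_mem (K.pow_mem hz0K _))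
    have hy2K : y2 ∈ K := C3_mem_of_pow_mem hpp K y2 i hy2p hi hy2iK
    have hy1K : y1 ∈ K := by
      have : y1 = (z0 ^ δ)⁻¹ * y2 := by rw [hy2def]; group
      rw [this]
      exact K.mul_mem (K.inv_mem (K.pow_mem hz0K _)) hy2K
    have hyK : y ∈ K := C3_mem_of_pow_mem hpp K y β hy hβ hy1K
    have hxK : x ∈ K := C3_mem_of_pow_mem hpp K x i hx hi hxiK
    exact C3_gen n hG x z y m hn hz hyz hxC K hzK hyK hxK
  · rw [← pow_mul, mul_comm, pow_mul, hx, one_pow]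
  · have : n - 2 = m := by omega
    rw [this, ← hz]
    exact pow_orderOf_eq_one z
  · have : n - 3 = m - 1 := by omega
    rw [this, h7, mul_comm s, pow_mul]
  · rw [h5, czY.eq]

end beta

end Cfsg.Agent.Helper78.Blk
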