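import Cfsg.Agent.Helper78.KWH3c

/-!
# S4588 piece (L4) (helper78 for helper77): detection — a class function whose principal-block
part does not vanish at some `p`-regular element is seen by some PIM-type function
-/

set_option autoImplicit false

namespace Cfsg.Agent.Helper78.KW

open Cfsg
open scoped ComplexConjugate
open Cfsg.Agent.S4426 (cut)
open Cfsg.Agent.Helper77.KW (PimData lift)

universe u

section gen

variable {G : Type u} [Group G] [Fintype G]

/-- Parseval form: the inner product with a class function through the irreducible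
characters. -/
theorem classInner_eq_sum_irr (g F : G → ℂ) (hF : IsClassFunction G F) :
    classInner g F = ∑ ξ : IrrCharacter G, conj (classInner F (ξ : G → ℂ)) *
      classInner g (ξ : G → ℂ) := by
  have hexp := Helper74.classFunction_eq_sum_irr hF
  have h1 : classInner g F = classInner g
      (∑ ψ : IrrCharacter G, classInner F (ψ : G → ℂ) • (ψ : G → ℂ)) :=
    congrArg (classInner g) hexp
  rw [h1, Helper74.classInner_sum_right]
  exact Finset.sum_congr rfl fun ξ _ => Helper74.classInner_smul_right _ _ _

end gen

section L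

variable {H : Type u} [Group H] [Fintype H] {p : ℕ} [Fact p.Prime] {M : Ideal AlgInt}
  (z : H) [(Subgroup.zpowers z).Normal] (n : ℕ) (D : PimData p M (H ⧸ Subgroup.zpowers z))

/-- (L4) detection: a class function whose principal-block part does not vanish on `p`-regular
elements is seen by some PIM-type function -/
theorem exists_lift_inner_ne_zero (hM : IsPModular p M) (hz : z ∈ Subgroup.center H)
    (hzn : orderOf z = p ^ n) (F : H → ℂ) (hF : IsClassFunction H F) (c : H)
    (hc : ¬ p ∣ orderOf c) (hne : blockPart (principalBlock M H) F c ≠ 0) :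
    ∃ i : Fin D.e, classInner (cut p 1 (lift z n D i)) F ≠ 0 := by
  classical
  by_contra hall
  push_neg at hall
  apply hne
  rw [Helper16.blockPart_eq_sum]
  set w : Fin D.e → ℂ := fun i => (D.ε i : ℂ) *
    ((D.θ i : IrrCharacter (H ⧸ Subgroup.zpowers z)) :
      H ⧸ Subgroup.zpowers z → ℂ) (QuotientGroup.mk c) with hw_def
  have h1 : ∀ ξ : IrrCharacter H,
      (if ξ ∈ principalBlock M H then (1 : ℂ) else 0) *
        (classInner F (ξ : H → ℂ) * (ξ : H → ℂ) c) =
      ∑ i : Fin D.e, w i * (classInner F (ξ : H → ℂ) *
        conj (classInner (cut p 1 (lift z n D i)) (ξ : H → ℂ))) := by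
    intro ξ
    by_cases hξ : ξ ∈ principalBlock M H
    · rw [if_pos hξ, one_mul, irr_apply_pRegular_eq_sum_lift z n D hM hz hzn ξ hξ c hc,
        Finset.mul_sum]
      refine Finset.sum_congr rfl fun i _ => ?_
      rw [hw_def]
      ring
    · rw [if_neg hξ, zero_mul]
      symm
      refine Finset.sum_eq_zero fun i _ => ?_
      rw [classInner_cut_lift_eq_zero z n D hM hz hzn i ξ hξ, map_zero, mul_zero, mul_zero]
  rw [Finset.sum_congr rfl fun ξ _ => h1 ξ, Finset.sum_comm]
  refine Finset.sum_eq_zero fun i _ => ?_
  rw [← Finset.mul_sum]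
  have h2 : ∑ ξ : IrrCharacter H, classInner F (ξ : H → ℂ) *
      conj (classInner (cut p 1 (lift z n D i)) (ξ : H → ℂ)) =
      conj (classInner (cut p 1 (lift z n D i)) F) := by
    rw [classInner_eq_sum_irr (cut p 1 (lift z n D i)) F hF, map_sum]
    refine Finset.sum_congr rfl fun ξ _ => ?_
    rw [map_mul, Complex.conj_conj]
  rw [h2, hall i, map_zero, mul_zero]

end L

end Cfsg.Agent.Helper78.KW
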