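import Cfsg.Agent.Helper16.CoverUnder
import Cfsg.Agent.Helper74.CharBasic

/-!
# End game for the Alperin–Dade restriction theorem (helper78)

Let `N` be normal in `G`, `B` a block of `G` covering the `G`-stable block `b` of `N`, and
assume `ω_θ(e_B|_N) = 1 / |G : N|` for every `θ ∈ b`.  Then restriction is a bijection `B → b`.

The point: `|G : N| · ω_θ(e_B|_N) · θ(1) = Σ_{χ ∈ B} χ(1) [χ_N, θ]`, and every non-zero term on
the right is at least `θ(1)`, with equality only if `χ_N = θ`.
-/

set_option autoImplicit false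
set_option linter.unusedSectionVars false

namespace Cfsg.Agent.Helper78

open Cfsg Cfsg.Agent.Helper16
open scoped ComplexConjugate

section ADEnd

variable {G : Type*} [Group G] [Fintype G] {M : Ideal AlgInt} {p : ℕ}
variable (N : Subgroup G) [hN : N.Normal] [Fintype N]

/-- The multiplicity of `θ` in `χ_N` is a natural number. -/
theorem exists_nat_classInner_restrict (χ : IrrCharacter G) (θ : IrrCharacter N) :
    ∃ k : ℕ, classInner (fun n : N => (χ : G → ℂ) n) (θ : N → ℂ) = k :=
  Helper74.isCharacter_inner_irr_nat (Helper74.isCharacter_restrict N (Helper74.irr_isCharacter χ)) θ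

/-- The multiplicity of `θ` in `χ_N`, as a natural number. -/
noncomputable def resMult (χ : IrrCharacter G) (θ : IrrCharacter N) : ℕ :=
  (exists_nat_classInner_restrict N χ θ).choose

theorem resMult_spec (χ : IrrCharacter G) (θ : IrrCharacter N) :
    classInner (fun n : N => (χ : G → ℂ) n) (θ : N → ℂ) = (resMult N χ θ : ℂ) :=
  (exists_nat_classInner_restrict N χ θ).choose_spec

/-- `χ(1) = Σ_θ [χ_N, θ] θ(1)`. -/
theorem charDegree_eq_sum_resMult (χ : IrrCharacter G) :
    charDegree (χ : G → ℂ) =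
      ∑ θ : IrrCharacter N, resMult N χ θ * charDegree (θ : N → ℂ) := by
  have hcl : IsClassFunction N (fun n : N => (χ : G → ℂ) n) :=
    isClassFunction_restrict N (irr_isClassFunction χ)
  have h := congrFun (Helper79.classFunction_expansion hcl) 1
  have h1 : ((charDegree (χ : G → ℂ) : ℕ) : ℂ) =
      ((∑ θ : IrrCharacter N, resMult N χ θ * charDegree (θ : N → ℂ) : ℕ) : ℂ) := by
    rw [← Helper79.irr_one χ]
    push_cast
    have : ((1 : N) : G) = 1 := rfl
    rw [← this]
    rw [h, Finset.sum_apply]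
    refine Finset.sum_congr rfl (fun θ _ => ?_)
    rw [Pi.smul_apply, smul_eq_mul, resMult_spec, Helper79.irr_one θ]
  exact_mod_cast h1

/-- The basic formula for `ω_θ(e_B|_N)`. -/
theorem index_mul_omega_resFun_blockCoeff (B : Set (IrrCharacter G)) [DecidablePred (· ∈ B)]
    (θ : IrrCharacter N) :
    (N.index : ℂ) * omega (θ : N → ℂ) (Helper77.resFun N (blockCoeff B)) *
        (charDegree (θ : N → ℂ) : ℂ) =
      ((∑ χ : IrrCharacter G, (if χ ∈ B then 1 else 0) * charDegree (χ : G → ℂ) *
        resMult N χ θ : ℕ) : ℂ) := by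
  have hθ1 : (θ : N → ℂ) 1 ≠ 0 := irr_one_ne_zero θ
  have hN0 : (Nat.card N : ℂ) ≠ 0 := card_ne_zero'
  have hG0 : (Nat.card G : ℂ) ≠ 0 := card_ne_zero'
  have hidx : (N.index : ℂ) * (Nat.card N : ℂ) = (Nat.card G : ℂ) := by
    have := N.index_mul_card
    exact_mod_cast this
  -- the inner sums
  have hin : ∀ χ : IrrCharacter G, ∑ n : N, conj ((χ : G → ℂ) n) * (θ : N → ℂ) n =
      (Nat.card N : ℂ) * (resMult N χ θ : ℂ) := by
    intro χ
    have h1 := resMult_spec N χ θ
    have h2 : classInner (θ : N → ℂ) (fun n : N => (χ : G → ℂ) n) = (resMult N χ θ : ℂ) := by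
      rw [← Helper74.classInner_conj_symm, h1, Complex.conj_natCast]
    unfold classInner at h2
    rw [← h2, ← mul_assoc, mul_inv_cancel₀ hN0, one_mul]
    refine Finset.sum_congr rfl (fun n _ => ?_)
    ring
  unfold omega
  rw [← Helper79.irr_one θ, mul_div_assoc', div_mul_cancel₀ _ hθ1]
  have hs : ∀ n : N, Helper77.resFun N (blockCoeff B) n * (θ : N → ℂ) n =
      (Nat.card G : ℂ)⁻¹ * ∑ χ : IrrCharacter G, (if χ ∈ B then (1 : ℂ) else 0) *
        (χ : G → ℂ) 1 * (conj ((χ : G → ℂ) n) * (θ : N → ℂ) n) := by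
    intro n
    show blockCoeff B (n : G) * _ = _
    rw [blockCoeff_eq_sum, mul_assoc, Finset.sum_mul]
    congr 1
    refine Finset.sum_congr rfl (fun χ _ => ?_)
    ring
  simp_rw [hs]
  rw [← Finset.mul_sum, Finset.sum_comm]
  simp_rw [← Finset.mul_sum, hin]
  push_cast
  rw [← hidx]
  have hm0 : (N.index : ℂ) ≠ 0 := by
    intro h
    rw [h, zero_mul] at hidx
    exact hG0 hidx.symm
  rw [mul_inv, ← mul_assoc, ← mul_assoc, mul_inv_cancel₀ hm0, one_mul, Finset.mul_sum]
  refine Finset.sum_congr rfl (fun χ _ => ?_)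
  rw [Helper79.irr_one χ]
  field_simp

end ADEnd

end Cfsg.Agent.Helper78
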