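import Cfsg.Agent.Helper78.FirstMain
import Cfsg.Agent.S0920
import Cfsg.Agent.Helper77.BlockPartition

/-!
# The Brauer correspondence in terms of block idempotents

For a block `B` of `G` with defect group `P` and its Brauer correspondent `b` in `N_G(P)`, the
Brauer image of the block idempotent of `B` is the block idempotent of `b`, modulo the local ideal.
-/

set_option autoImplicit false
set_option linter.unusedSectionVars false
set_option linter.unusedVariables false

namespace Cfsg.Agent.Helper78

open Cfsg
open scoped ComplexConjugate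

universe u

section Idem

variable {G : Type u} [Group G] [Fintype G] {M : Ideal AlgInt}

/-- Two idempotents (one of them modulo the local ideal) of the centre of the local group ring
with congruent central characters are congruent coefficientwise. -/
theorem jValued_sub_of_omega_congr [M.IsPrime] {u e : G → ℂ} (hu : IsZS M u) (he : IsZS M e)
    (hee : Helper16.conv e e = e) (huu : JValued M (Helper16.conv u u - u))
    (hω : ∀ ψ : IrrCharacter G, MemLocalIdeal M
      (Helper16.omega (ψ : G → ℂ) u - Helper16.omega (ψ : G → ℂ) e)) :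
    JValued M (u - e) := by
  classical
  have hd1 : IsZS M (Helper16.deltaOne : G → ℂ) := isZS_deltaOne
  have hεε : ∀ ψ : IrrCharacter G, Helper16.omega (ψ : G → ℂ) e * Helper16.omega (ψ : G → ℂ) e =
      Helper16.omega (ψ : G → ℂ) e := by
    intro ψ
    rw [← Helper16.irr_omega_conv ψ he.1 he.1, hee]
  have huuZ : IsZS M (Helper16.conv u u - u) := (hu.conv hu).sub hu
  -- first element
  set w : G → ℂ := e - Helper16.conv e u with hw
  have hwZ : IsZS M w := he.sub (he.conv hu)
  have hw1 : Helper16.conv w w - w = Helper16.conv e (Helper16.conv u u - u) := by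
    apply Helper16.classFunction_ext_omega ((hwZ.conv hwZ).sub hwZ).1 (he.conv huuZ).1
    intro ψ
    rw [Helper16.omega_sub, Helper16.irr_omega_conv ψ hwZ.1 hwZ.1, hw, Helper16.omega_sub,
      Helper16.irr_omega_conv ψ he.1 hu.1, Helper16.irr_omega_conv ψ he.1 huuZ.1,
      Helper16.omega_sub, Helper16.irr_omega_conv ψ hu.1 hu.1]
    have := hεε ψ
    linear_combination (1 - Helper16.omega (ψ : G → ℂ) u) ^ 2 * this
  have hwJ : JValued M w := by
    apply hwZ.jValued_of_idem
    · rw [hw1]; exact jValued_conv_right he.2 huu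
    · intro ψ
      rw [hw, Helper16.omega_sub, Helper16.irr_omega_conv ψ he.1 hu.1]
      have h1 := Helper16.memLocalIdeal_mul_left (Helper16.omega_memLocalRing ψ he.1 he.2) (hω ψ)
      have e1 : Helper16.omega (ψ : G → ℂ) e - Helper16.omega (ψ : G → ℂ) e *
          Helper16.omega (ψ : G → ℂ) u = - (Helper16.omega (ψ : G → ℂ) e *
          (Helper16.omega (ψ : G → ℂ) u - Helper16.omega (ψ : G → ℂ) e)) := by
        have := hεε ψ
        linear_combination -this
      rw [e1]
      exact Helper16.memLocalIdeal_neg h1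
  -- second element
  set w' : G → ℂ := u - Helper16.conv u e with hw'
  have hw'Z : IsZS M w' := hu.sub (hu.conv he)
  have hde : IsZS M ((Helper16.deltaOne : G → ℂ) - e) := hd1.sub he
  have hw'1 : Helper16.conv w' w' - w' =
      Helper16.conv ((Helper16.deltaOne : G → ℂ) - e) (Helper16.conv u u - u) := by
    apply Helper16.classFunction_ext_omega ((hw'Z.conv hw'Z).sub hw'Z).1 (hde.conv huuZ).1
    intro ψ
    rw [Helper16.omega_sub, Helper16.irr_omega_conv ψ hw'Z.1 hw'Z.1, hw', Helper16.omega_sub,
      Helper16.irr_omega_conv ψ hu.1 he.1, Helper16.irr_omega_conv ψ hde.1 huuZ.1,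
      Helper16.omega_sub, Helper16.omega_sub, Helper16.irr_omega_conv ψ hu.1 hu.1,
      Helper16.omega_deltaOne _ (Helper16.irr_one_ne_zero ψ)]
    have := hεε ψ
    linear_combination (Helper16.omega (ψ : G → ℂ) u) ^ 2 * this
  have hw'J : JValued M w' := by
    apply hw'Z.jValued_of_idem
    · rw [hw'1]; exact jValued_conv_right hde.2 huu
    · intro ψ
      rw [hw', Helper16.omega_sub, Helper16.irr_omega_conv ψ hu.1 he.1]
      have h1 := Helper16.memLocalIdeal_mul_right (hω ψ)
        (Helper16.memLocalRing_sub Helper16.memLocalRing_one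
          (Helper16.omega_memLocalRing ψ he.1 he.2))
      have e1 : Helper16.omega (ψ : G → ℂ) u - Helper16.omega (ψ : G → ℂ) u *
          Helper16.omega (ψ : G → ℂ) e = (Helper16.omega (ψ : G → ℂ) u -
          Helper16.omega (ψ : G → ℂ) e) * (1 - Helper16.omega (ψ : G → ℂ) e) := by
        have := hεε ψ
        linear_combination -this
      rw [e1]
      exact h1
  -- commutativity
  have hcomm : Helper16.conv e u = Helper16.conv u e := by
    apply Helper16.classFunction_ext_omega (he.conv hu).1 (hu.conv he).1
    intro ψ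
    rw [Helper16.irr_omega_conv ψ he.1 hu.1, Helper16.irr_omega_conv ψ hu.1 he.1, mul_comm]
  intro g
  have := Helper16.memLocalIdeal_sub (hw'J g) (hwJ g)
  have e2 : w' g - w g = (u - e) g := by
    simp only [hw, hw', Pi.sub_apply, hcomm]
    ring
  rwa [e2] at this

end Idem

section Corr

variable {G : Type u} [Group G] [Fintype G] {M : Ideal AlgInt} {p : ℕ}

/-- If `t ↦ ω_ξ(Br_P t)` is congruent to the central character of `χ'`, then the block of `ξ`
induces the block of `χ'`. -/
theorem isInducedBlock_of_omega_congr [Fact p.Prime] (hM : IsPModular p M) {P H : Subgroup G}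
    (hP : IsPGroup p P) (hPH : P ≤ H) (hHN : H ≤ Subgroup.normalizer (P : Set G)) [Fintype H]
    (ξ : IrrCharacter H) (χ' : IrrCharacter G)
    (hχ' : ∀ t, IsZS M t → MemLocalIdeal M
      (Helper16.omega (ξ : H → ℂ) (brRes P H t) - Helper16.omega (χ' : G → ℂ) t)) :
    IsInducedBlock M H (blockOf M (ξ : H → ℂ)) (blockOf M (χ' : G → ℂ)) := by
  have hMp : M.IsPrime := isPrime_of_isPModular hM
  rw [isInducedBlock_iff_brauerCentralChar hM hP hPH hHN _ ⟨ξ, rfl⟩ _ ⟨χ', rfl⟩]
  intro ξ' hξ' χ hχ k
  have a1 : MemLocalIdeal M (brauerCentralChar P H (ξ' : H → ℂ) k -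
      brauerCentralChar P H (ξ : H → ℂ) k) := by
    rw [brauerCentralChar_eq_omega, brauerCentralChar_eq_omega]
    have hz := isZS_brRes (M := M) (P := P) (H := H) hHN (isZS_classInd (M := M) k)
    exact Helper16.omega_sub_memLocalIdeal
      (Helper16.sameBlock_symm (show SameBlock M (ξ : H → ℂ) (ξ' : H → ℂ) from hξ')) hz.1 hz.2
  have a2 : MemLocalIdeal M (brauerCentralChar P H (ξ : H → ℂ) k - centralChar (χ' : G → ℂ) k) := by
    have := hχ' _ (isZS_classInd (M := M) k)
    rwa [← brauerCentralChar_eq_omega,
      Helper16.omega_classInd _ (Helper16.irr_isClassFunction χ')] at this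
  have a3 : MemLocalIdeal M (centralChar (χ' : G → ℂ) k - centralChar (χ : G → ℂ) k) := hχ k
  have := Helper16.memLocalIdeal_add (Helper16.memLocalIdeal_add a1 a2) a3
  have e : brauerCentralChar P H (ξ' : H → ℂ) k - brauerCentralChar P H (ξ : H → ℂ) k +
      (brauerCentralChar P H (ξ : H → ℂ) k - centralChar (χ' : G → ℂ) k) +
      (centralChar (χ' : G → ℂ) k - centralChar (χ : G → ℂ) k) =
      brauerCentralChar P H (ξ' : H → ℂ) k - centralChar (χ : G → ℂ) k := by ring
  rwa [e] at this

/-- **Brauer correspondence, idempotent form**: if the block `b` of `N_G(P)` with defect group `P`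
induces the block `B` of `G` with defect group `P`, then the Brauer image of the idempotent of `B`
is congruent to the idempotent of `b`. -/
theorem brRes_blockCoeff_sub_mem [Fact p.Prime] (hM : IsPModular p M) (P : Subgroup G)
    (hP : IsPGroup p P) (B : Set (IrrCharacter G)) (hB : IsPBlock M B)
    (hPB : IsDefectGroup p M B P)
    (b : Set (IrrCharacter (Subgroup.normalizer (P : Set G)))) (hb : IsPBlock M b)
    (hPb : IsDefectGroup p M b (P.subgroupOf (Subgroup.normalizer (P : Set G))))
    (hind : IsInducedBlock M (Subgroup.normalizer (P : Set G)) b B)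
    (n : Subgroup.normalizer (P : Set G)) :
    MemLocalIdeal M (brRes P (Subgroup.normalizer (P : Set G)) (blockCoeff B) n -
      blockCoeff b n) := by
  classical
  have hMp : M.IsPrime := isPrime_of_isPModular hM
  haveI : Fintype (Subgroup.normalizer (P : Set G)) := Fintype.ofFinite _
  have hPN : P ≤ Subgroup.normalizer (P : Set G) := Subgroup.le_normalizer
  have hCN : Subgroup.centralizer (P : Set G) ≤ Subgroup.normalizer (P : Set G) :=
    Subgroup.centralizer_le_normalizer _
  have hnorm : (P.subgroupOf (Subgroup.normalizer (P : Set G))).Normal :=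
    Subgroup.normal_in_normalizer
  obtain ⟨χ₀, hχ₀⟩ := id hB
  have heB : IsZS M (blockCoeff B) := by
    rw [hχ₀]
    exact ⟨(Helper16.osima_strong (M := M) χ₀).1, (Helper16.osima_strong (M := M) χ₀).2.1⟩
  obtain ⟨ξ₀, hξ₀⟩ := id hb
  have heb : IsZS M (blockCoeff b) := by
    rw [hξ₀]
    exact ⟨(Helper16.osima_strong (M := M) ξ₀).1, (Helper16.osima_strong (M := M) ξ₀).2.1⟩
  have huZ : IsZS M (brRes P (Subgroup.normalizer (P : Set G)) (blockCoeff B)) :=
    isZS_brRes le_rfl heB
  have hidem : JValued M (Helper16.conv (brRes P (Subgroup.normalizer (P : Set G)) (blockCoeff B))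
      (brRes P (Subgroup.normalizer (P : Set G)) (blockCoeff B)) -
      brRes P (Subgroup.normalizer (P : Set G)) (blockCoeff B)) := by
    intro h
    have := brRes_conv_sub_mem hM hP hCN le_rfl heB heB h
    rw [Helper77.blockCoeff_conv_self hB] at this
    have := Helper16.memLocalIdeal_neg this
    simpa using this
  refine jValued_sub_of_omega_congr huZ heb (Helper77.blockCoeff_conv_self hb) hidem ?_ n
  intro ξ'
  obtain ⟨χ', hχ'⟩ := (isModHom_brauer hM hP hCN le_rfl ξ').exists_irr
  have h1 := hχ' _ heB
  rw [Helper16.omega_blockCoeff] at h1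
  rw [Helper16.omega_blockCoeff]
  have hind' := isInducedBlock_of_omega_congr hM hP hPN le_rfl ξ' χ' hχ'
  -- `χ' ∈ B ↔ ξ' ∈ b`
  have hiff : χ' ∈ B ↔ ξ' ∈ b := by
    constructor
    · intro hχ'B
      have hBeq : blockOf M (χ' : G → ℂ) = B :=
        (isPBlock_eq_blockOf_of_mem hMp hB hχ'B).symm
      rw [hBeq] at hind'
      -- the block of `ξ'` has defect group `P`
      obtain ⟨D', hD'⟩ := Helper16.exists_defectGroup (M := M) p ξ'
      have h2 : Cfsg.pCore p (Subgroup.normalizer (P : Set G)) ≤ D' :=
        Cfsg.Agent.S0912.result p M hM _ ⟨ξ', rfl⟩ D' hD'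
      obtain ⟨x, hx⟩ := defectGroup_le_of_induced hM _ _ _ hind' D' hD' P hPB
      have hc2 : Nat.card ((D'.map (Subgroup.normalizer (P : Set G)).subtype).map
          (MulAut.conj x).toMonoidHom) = Nat.card D' := by
        rw [Subgroup.card_map_of_injective (MulAut.conj x).injective,
          Subgroup.card_map_of_injective (Subgroup.subtype_injective _)]
      have hc3 : Nat.card D' ≤ Nat.card P := by
        rw [← hc2]; exact Subgroup.card_le_of_le hx
      have h3 : P.subgroupOf (Subgroup.normalizer (P : Set G)) ≤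
          Cfsg.pCore p (Subgroup.normalizer (P : Set G)) :=
        Cfsg.Agent.Lib.le_pCore hnorm hP.comap_subtype
      have hc4 : Nat.card (P.subgroupOf (Subgroup.normalizer (P : Set G))) = Nat.card P :=
        Nat.card_congr (Subgroup.subgroupOfEquivOfLe hPN).toEquiv
      have h4 : P.subgroupOf (Subgroup.normalizer (P : Set G)) = D' := by
        apply Subgroup.eq_of_le_of_card_ge (h3.trans h2)
        rw [hc4]; exact hc3
      rw [← h4] at hD'
      have := Cfsg.Agent.S0920.part_two_unique p M hM P hP B hB b (blockOf M (ξ' : _ → ℂ))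
        hb hPb hind ⟨ξ', rfl⟩ hind'
      rw [← this]
      exact Helper16.sameBlock_refl (M := M) _
    · intro hξ'b
      have hbeq : blockOf M (ξ' : Subgroup.normalizer (P : Set G) → ℂ) = b :=
        (isPBlock_eq_blockOf_of_mem hMp hb hξ'b).symm
      rw [hbeq] at hind'
      -- `χ'` lies in a block induced from `b`, hence in `B`
      have hχ'self : χ' ∈ blockOf M (χ' : G → ℂ) := Helper16.sameBlock_refl (M := M) _
      obtain ⟨χ₁, hχ₁⟩ : B.Nonempty := isPBlock_nonempty hMp hB
      have : SameBlock M (χ₁ : G → ℂ) (χ' : G → ℂ) := by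
        intro g
        have a1 := hind.2.2 ξ' hξ'b χ₁ hχ₁ g
        have a2 := hind'.2.2 ξ' hξ'b χ' hχ'self g
        have := Helper16.memLocalIdeal_sub a2 a1
        have e : inducedCentralChar (Subgroup.normalizer (P : Set G))
            (ξ' : Subgroup.normalizer (P : Set G) → ℂ) g - centralChar (χ' : G → ℂ) g -
            (inducedCentralChar (Subgroup.normalizer (P : Set G))
              (ξ' : Subgroup.normalizer (P : Set G) → ℂ) g - centralChar (χ₁ : G → ℂ) g) =
            centralChar (χ₁ : G → ℂ) g - centralChar (χ' : G → ℂ) g := by ring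
        rwa [e] at this
      rw [isPBlock_eq_blockOf_of_mem hMp hB hχ₁]
      exact this
  by_cases hξ'b : ξ' ∈ b
  · rw [if_pos hξ'b]
    rw [if_pos (hiff.mpr hξ'b)] at h1
    exact h1
  · rw [if_neg hξ'b]
    rw [if_neg (fun h => hξ'b (hiff.mp h))] at h1
    exact h1

/-- A block with defect group `P` is determined by its idempotent on `C_G(P)` modulo the local
ideal. -/
theorem block_eq_of_blockCoeff_congr_centralizer [Fact p.Prime] (hM : IsPModular p M)
    (P : Subgroup G) (hP : IsPGroup p P) (B B' : Set (IrrCharacter G)) (hB : IsPBlock M B)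
    (hB' : IsPBlock M B') (hPB : IsDefectGroup p M B P)
    (h : ∀ x ∈ Subgroup.centralizer (P : Set G),
      MemLocalIdeal M (blockCoeff B x - blockCoeff B' x)) : B = B' := by
  classical
  have hMp : M.IsPrime := isPrime_of_isPModular hM
  haveI : Fintype (Subgroup.normalizer (P : Set G)) := Fintype.ofFinite _
  have hCN : Subgroup.centralizer (P : Set G) ≤ Subgroup.normalizer (P : Set G) :=
    Subgroup.centralizer_le_normalizer _
  by_contra hne
  obtain ⟨χ₀, hχ₀⟩ := id hB
  have heB : IsZS M (blockCoeff B) := by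
    rw [hχ₀]
    exact ⟨(Helper16.osima_strong (M := M) χ₀).1, (Helper16.osima_strong (M := M) χ₀).2.1⟩
  obtain ⟨χ₁, hχ₁⟩ := id hB'
  have heB' : IsZS M (blockCoeff B') := by
    rw [hχ₁]
    exact ⟨(Helper16.osima_strong (M := M) χ₁).1, (Helper16.osima_strong (M := M) χ₁).2.1⟩
  have huZ : IsZS M (brRes P (Subgroup.normalizer (P : Set G)) (blockCoeff B)) :=
    isZS_brRes le_rfl heB
  have hu'Z : IsZS M (brRes P (Subgroup.normalizer (P : Set G)) (blockCoeff B')) :=
    isZS_brRes le_rfl heB'
  -- `u u' ≡ 0`
  have h1 : JValued M (Helper16.conv (brRes P (Subgroup.normalizer (P : Set G)) (blockCoeff B))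
      (brRes P (Subgroup.normalizer (P : Set G)) (blockCoeff B'))) := by
    intro n
    have := brRes_conv_sub_mem hM hP hCN le_rfl heB heB' n
    rw [Helper77.blockCoeff_conv_of_ne hB hB' hne] at this
    have h0 : brRes P (Subgroup.normalizer (P : Set G)) (0 : G → ℂ) n = 0 := by
      unfold brRes
      simp
    rw [h0, zero_sub] at this
    have := Helper16.memLocalIdeal_neg this
    rwa [neg_neg] at this
  -- `u ≡ u'`
  have h2 : JValued M (brRes P (Subgroup.normalizer (P : Set G)) (blockCoeff B) -
      brRes P (Subgroup.normalizer (P : Set G)) (blockCoeff B')) := by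
    intro n
    rw [Pi.sub_apply]
    by_cases hn : (n : G) ∈ Subgroup.centralizer (P : Set G)
    · rw [brRes_of_mem P _ _ hn, brRes_of_mem P _ _ hn]
      exact h _ hn
    · rw [brRes_of_not_mem P _ _ hn, brRes_of_not_mem P _ _ hn, sub_self]
      exact Helper16.memLocalIdeal_zero
  -- `u u ≡ 0`
  have h3 : JValued M (Helper16.conv (brRes P (Subgroup.normalizer (P : Set G)) (blockCoeff B))
      (brRes P (Subgroup.normalizer (P : Set G)) (blockCoeff B))) := by
    have e : brRes P (Subgroup.normalizer (P : Set G)) (blockCoeff B) =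
        brRes P (Subgroup.normalizer (P : Set G)) (blockCoeff B') +
        (brRes P (Subgroup.normalizer (P : Set G)) (blockCoeff B) -
          brRes P (Subgroup.normalizer (P : Set G)) (blockCoeff B')) := by
      funext n
      simp only [Pi.add_apply, Pi.sub_apply]
      ring
    intro n
    rw [e, conv_add_right, ← e, Pi.add_apply]
    exact Helper16.memLocalIdeal_add (h1 n) (jValued_conv_right huZ.2 h2 n)
  -- `u ≡ 0`
  have h4 : JValued M (brRes P (Subgroup.normalizer (P : Set G)) (blockCoeff B)) := by
    intro n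
    have := brRes_conv_sub_mem hM hP hCN le_rfl heB heB n
    rw [Helper77.blockCoeff_conv_self hB] at this
    have := Helper16.memLocalIdeal_add this (h3 n)
    rwa [sub_add_cancel] at this
  -- a defect class
  obtain ⟨g, hg, Q, hQ⟩ := id hPB
  have hgP : g ∈ Subgroup.centralizer (P : Set G) := by
    intro u hu
    rw [hQ] at hu
    obtain ⟨v, -, rfl⟩ := hu
    have := v.2
    rw [Subgroup.mem_centralizer_singleton_iff] at this
    exact this
  have := h4 ⟨g, hCN hgP⟩
  rw [brRes_of_mem P _ _ (show ((⟨g, hCN hgP⟩ : Subgroup.normalizer (P : Set G)) : G) ∈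
    Subgroup.centralizer (P : Set G) from hgP)] at this
  exact hg.2.1 this

end Corr

end Cfsg.Agent.Helper78
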