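import Cfsg.Agent.S0927
import Cfsg.Agent.Helper16.CentralDefect
import Cfsg.Agent.Helper15.LinChar
import Cfsg.Agent.Helper80.Degree
import Cfsg.Agent.Helper78.LocalRing

/-!
# Height zero characters and extensions of central linear characters

If `χ ∈ B` has height zero and lies over the linear character `λ` of the central `p`-subgroup
`Z ≤ D` (`D` a defect group of `B`), then `λ` extends to `D`.
-/

set_option autoImplicit false
set_option linter.unusedSectionVars false
set_option linter.unusedVariables false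

namespace Cfsg.Agent.Helper78

open Cfsg
open scoped ComplexConjugate

universe u

section

variable {G : Type u} [Group G] [Fintype G]

/-- If a central element `z ∈ H` acts on `χ ∈ Irr(G)` by the scalar `c`, it acts by the same scalar on
every irreducible constituent of `χ_H`. -/
theorem constituent_central_scalar (H : Subgroup G) [Fintype H] (χ : IrrCharacter G)
    (ψ : IrrCharacter H) (z : H) (hz : (z : G) ∈ Subgroup.center G) (c : ℂ)
    (hc : ∀ g : G, (χ : G → ℂ) ((z : G) * g) = c * (χ : G → ℂ) g)
    (hcon : classInner (fun h : H => (χ : G → ℂ) h) (ψ : H → ℂ) ≠ 0) :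
    ∀ h : H, (ψ : H → ℂ) (z * h) = c * (ψ : H → ℂ) h := by
  have hzH : z ∈ Subgroup.center H := by
    rw [Subgroup.mem_center_iff]
    intro h
    apply Subtype.ext
    exact Subgroup.mem_center_iff.mp hz h
  obtain ⟨c', hc'⟩ := Helper16.irr_central_mul ψ hzH
  -- `|c'| = 1`
  have hnorm : ‖c'‖ = 1 := by
    have h1 := Helper80.IsIrrCharacter.norm_eq_of_mem_center ψ.2 hzH
    have h2 := hc' 1
    rw [mul_one] at h2
    rw [h2, norm_mul, irrChar_one_eq_charDegree ψ.2] at h1
    have hpos : (0 : ℝ) < (charDegree (ψ : H → ℂ) : ℝ) := by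
      exact_mod_cast charDegree_pos_of_isIrrCharacter ψ.2
    have h3 : ‖((charDegree (ψ : H → ℂ) : ℕ) : ℂ)‖ = (charDegree (ψ : H → ℂ) : ℝ) := by
      simp
    rw [h3] at h1
    have := mul_right_cancel₀ hpos.ne' (h1.trans (one_mul _).symm)
    exact this
  -- reindex the inner product
  have hre : classInner (fun h : H => (χ : G → ℂ) h) (ψ : H → ℂ) =
      c * conj c' * classInner (fun h : H => (χ : G → ℂ) h) (ψ : H → ℂ) := by
    have hsum : ∑ h : H, (χ : G → ℂ) h * conj ((ψ : H → ℂ) h) =
        c * conj c' * ∑ h : H, (χ : G → ℂ) h * conj ((ψ : H → ℂ) h) := by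
      have : ∀ h : H, (χ : G → ℂ) ((Equiv.mulLeft z h : H) : G) *
          conj ((ψ : H → ℂ) (Equiv.mulLeft z h)) =
          c * conj c' * ((χ : G → ℂ) h * conj ((ψ : H → ℂ) h)) := by
        intro h
        rw [Equiv.coe_mulLeft, Subgroup.coe_mul, hc, hc', map_mul]
        ring
      conv_lhs => rw [← Equiv.sum_comp (Equiv.mulLeft z)
        (fun h : H => (χ : G → ℂ) h * conj ((ψ : H → ℂ) h))]
      rw [Finset.sum_congr rfl (fun h _ => this h), ← Finset.mul_sum]
    unfold classInner
    conv_lhs => rw [hsum]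
    ring
  have h1 : c * conj c' = 1 := by
    have h2 : (c * conj c' - 1) * classInner (fun h : H => (χ : G → ℂ) h) (ψ : H → ℂ) = 0 := by
      rw [sub_mul, one_mul, ← hre, sub_self]
    rcases mul_eq_zero.mp h2 with h3 | h3
    · exact sub_eq_zero.mp h3
    · exact absurd h3 hcon
  have h4 : c' * conj c' = 1 := by
    rw [Complex.mul_conj, Complex.normSq_eq_norm_sq, hnorm]
    simp
  have hcc : c = c' := by
    have hne : conj c' ≠ 0 := by
      intro h0
      rw [h0, mul_zero] at h1
      exact zero_ne_one h1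
    exact mul_right_cancel₀ hne (h1.trans h4.symm)
  intro h
  rw [hcc]
  exact hc' h

/-- An irreducible character of a `p`-group is linear or has degree divisible by `p`. -/
theorem irr_pGroup_degree {P : Type u} [Group P] [Fintype P] {p : ℕ} [Fact p.Prime]
    (hP : IsPGroup p P) (ψ : IrrCharacter P) :
    (ψ : P → ℂ) 1 = 1 ∨ p ∣ charDegree (ψ : P → ℂ) := by
  have hp : p.Prime := Fact.out
  obtain ⟨k, hk⟩ := IsPGroup.iff_card.mp hP
  have hdvd := Helper80.IsIrrCharacter.charDegree_dvd_card ψ.2
  rw [hk] at hdvd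
  obtain ⟨j, _, hj⟩ := (Nat.dvd_prime_pow hp).mp hdvd
  rcases Nat.eq_zero_or_pos j with h0 | hpos
  · left
    rw [irrChar_one_eq_charDegree ψ.2, hj, h0]
    simp
  · right
    rw [hj]
    exact dvd_pow_self p hpos.ne'

variable {M : Ideal AlgInt} {p : ℕ}

/-- **Extension of central linear characters under height-zero characters.** -/
theorem exists_extension_of_height_zero [Fact p.Prime] (hM : IsPModular p M)
    (B : Set (IrrCharacter G)) (hB : IsPBlock M B) (y : G) (hy : IsDefectClass M B y)
    (P : Sylow p (Subgroup.centralizer ({y} : Set G))) (Z : Subgroup G)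
    (hZc : Z ≤ Subgroup.center G)
    (hZD : Z ≤ (P : Subgroup (Subgroup.centralizer ({y} : Set G))).map
      (Subgroup.centralizer ({y} : Set G)).subtype)
    (lam : Z →* ℂˣ) (χ : IrrCharacter G) (hχ : χ ∈ B)
    (hover : ∀ z : Z, (χ : G → ℂ) z = (χ : G → ℂ) 1 * (lam z : ℂ))
    (h0 : blockHeight p B (χ : G → ℂ) = 0) :
    ∃ μ : ((P : Subgroup (Subgroup.centralizer ({y} : Set G))).map
      (Subgroup.centralizer ({y} : Set G)).subtype) →* ℂˣ,
      ∀ z : Z, μ ⟨(z : G), hZD z.2⟩ = lam z := by
  classical
  have hMp : M.IsPrime := hM.2.1.isPrime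
  haveI : Fintype (Subgroup.centralizer ({y} : Set G)) := Fintype.ofFinite _
  haveI : Fintype (P : Subgroup (Subgroup.centralizer ({y} : Set G))) := Fintype.ofFinite _
  by_contra hno
  push Not at hno
  have hy1 : ¬ MemLocalIdeal M ((χ : G → ℂ) y) := by
    have := (Cfsg.Agent.S0927.result p M hM B hB y hy P 1 (Subgroup.one_mem _)).1 χ hχ h0
    simpa using this
  apply hy1
  have hyC : y ∈ Subgroup.centralizer ({y} : Set G) :=
    Subgroup.mem_centralizer_singleton_iff.mpr rfl
  have hy'c : (⟨y, hyC⟩ : Subgroup.centralizer ({y} : Set G)) ∈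
      Subgroup.center (Subgroup.centralizer ({y} : Set G)) := by
    rw [Subgroup.mem_center_iff]
    intro c
    apply Subtype.ext
    have := c.2
    rw [Subgroup.mem_centralizer_singleton_iff] at this
    exact this
  have hZC : ∀ z : Z, (z : G) ∈ Subgroup.centralizer ({y} : Set G) := by
    intro z
    obtain ⟨u, hu, hu'⟩ := hZD z.2
    rw [← hu']
    exact u.2
  have hZP : ∀ z : Z, (⟨z, hZC z⟩ : Subgroup.centralizer ({y} : Set G)) ∈
      (P : Subgroup (Subgroup.centralizer ({y} : Set G))) := by
    intro z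
    obtain ⟨u, hu, hu'⟩ := hZD z.2
    have : (⟨z, hZC z⟩ : Subgroup.centralizer ({y} : Set G)) = u := Subtype.ext hu'.symm
    rw [this]
    exact hu
  have hχc : ∀ (z : Z) (g : G), (χ : G → ℂ) ((z : G) * g) = (lam z : ℂ) * (χ : G → ℂ) g := by
    intro z g
    obtain ⟨c, hc⟩ := Helper16.irr_central_mul χ (hZc z.2)
    have h1 := hc 1
    rw [mul_one, hover z] at h1
    have : c = (lam z : ℂ) :=
      mul_right_cancel₀ (Helper16.irr_one_ne_zero χ) (by rw [← h1]; ring)
    rw [hc g, this]
  have hχC : IsCharacter (Subgroup.centralizer ({y} : Set G))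
      (fun c : Subgroup.centralizer ({y} : Set G) => (χ : G → ℂ) c) :=
    Helper74.isCharacter_restrict _ (Helper74.irr_isCharacter χ)
  have hdec := Helper74.isCharacter_eq_sum_irr hχC
  have hval : (χ : G → ℂ) y = ∑ φ : IrrCharacter (Subgroup.centralizer ({y} : Set G)),
      classInner (fun c : Subgroup.centralizer ({y} : Set G) => (χ : G → ℂ) c)
        (φ : Subgroup.centralizer ({y} : Set G) → ℂ) *
        (φ : Subgroup.centralizer ({y} : Set G) → ℂ) ⟨y, hyC⟩ := by
    have := congrFun hdec ⟨y, hyC⟩
    simpa [Finset.sum_apply, Pi.smul_apply, smul_eq_mul] using this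
  rw [hval]
  refine Helper16.memLocalIdeal_sum _ _ (fun φ _ => ?_)
  by_cases hφ : classInner (fun c : Subgroup.centralizer ({y} : Set G) => (χ : G → ℂ) c)
      (φ : Subgroup.centralizer ({y} : Set G) → ℂ) = 0
  · rw [hφ, zero_mul]
    exact Helper16.memLocalIdeal_zero
  obtain ⟨m, hm⟩ := Helper74.isCharacter_inner_irr_nat hχC φ
  have hφ1 : (φ : Subgroup.centralizer ({y} : Set G) → ℂ) 1 ≠ 0 := Helper16.irr_one_ne_zero φ
  have hcc : (φ : Subgroup.centralizer ({y} : Set G) → ℂ) ⟨y, hyC⟩ =
      centralChar (φ : Subgroup.centralizer ({y} : Set G) → ℂ) ⟨y, hyC⟩ *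
        (φ : Subgroup.centralizer ({y} : Set G) → ℂ) 1 := by
    unfold centralChar
    have : Subgroup.centralizer
        ({(⟨y, hyC⟩ : Subgroup.centralizer ({y} : Set G))} : Set (Subgroup.centralizer ({y} : Set G))) = ⊤ :=
      Subgroup.centralizer_eq_top_iff_subset.mpr (by simpa using hy'c)
    rw [this, Subgroup.index_top]
    field_simp
    simp
  have hz'c : ∀ z : Z, (⟨z, hZC z⟩ : Subgroup.centralizer ({y} : Set G)) ∈
      Subgroup.center (Subgroup.centralizer ({y} : Set G)) := by
    intro z
    rw [Subgroup.mem_center_iff]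
    intro c
    apply Subtype.ext
    exact Subgroup.mem_center_iff.mp (hZc z.2) c
  have hφc : ∀ (z : Z) (c : Subgroup.centralizer ({y} : Set G)),
      (φ : Subgroup.centralizer ({y} : Set G) → ℂ) (⟨z, hZC z⟩ * c) =
        (lam z : ℂ) * (φ : Subgroup.centralizer ({y} : Set G) → ℂ) c :=
    fun z => constituent_central_scalar _ χ φ ⟨z, hZC z⟩ (hZc z.2) (lam z) (hχc z) hφ
  -- `p` divides the degree of `φ`
  have hpφ : p ∣ charDegree (φ : Subgroup.centralizer ({y} : Set G) → ℂ) := by
    have hφP : IsCharacter (P : Subgroup (Subgroup.centralizer ({y} : Set G)))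
        (fun u : (P : Subgroup (Subgroup.centralizer ({y} : Set G))) =>
          (φ : Subgroup.centralizer ({y} : Set G) → ℂ) u) :=
      Helper74.isCharacter_restrict _ (Helper74.irr_isCharacter φ)
    have hdecP := Helper74.isCharacter_eq_sum_irr hφP
    choose n hn using fun ψ : IrrCharacter (P : Subgroup (Subgroup.centralizer ({y} : Set G))) =>
      Helper74.isCharacter_inner_irr_nat hφP ψ
    have hdiv : ∀ ψ : IrrCharacter (P : Subgroup (Subgroup.centralizer ({y} : Set G))),
        p ∣ n ψ * charDegree (ψ : ↥(P : Subgroup (Subgroup.centralizer ({y} : Set G))) → ℂ) := by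
      intro ψ
      by_cases hn0 : n ψ = 0
      · rw [hn0, zero_mul]
        exact dvd_zero p
      · rcases irr_pGroup_degree P.isPGroup' ψ with h1 | h1
        · exfalso
          have hcon2 : classInner (fun u : (P : Subgroup (Subgroup.centralizer ({y} : Set G))) =>
              (φ : Subgroup.centralizer ({y} : Set G) → ℂ) u)
              (ψ : ↥(P : Subgroup (Subgroup.centralizer ({y} : Set G))) → ℂ) ≠ 0 := by
            rw [hn ψ]
            exact_mod_cast hn0
          have hψc : ∀ (z : Z) (u : (P : Subgroup (Subgroup.centralizer ({y} : Set G)))),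
              (ψ : ↥(P : Subgroup (Subgroup.centralizer ({y} : Set G))) → ℂ)
                (⟨⟨z, hZC z⟩, hZP z⟩ * u) = (lam z : ℂ) *
                (ψ : ↥(P : Subgroup (Subgroup.centralizer ({y} : Set G))) → ℂ) u :=
            fun z => constituent_central_scalar
              (P : Subgroup (Subgroup.centralizer ({y} : Set G))) φ ψ ⟨⟨z, hZC z⟩, hZP z⟩
              (hz'c z) (lam z) (hφc z) hcon2
          let μ₀ : ↥(P : Subgroup (Subgroup.centralizer ({y} : Set G))) →* ℂˣ :=
            Helper15.linCharUnits (Helper74.irr_isCharacter ψ) h1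
          let eq := Subgroup.equivMapOfInjective
            (P : Subgroup (Subgroup.centralizer ({y} : Set G)))
            (Subgroup.centralizer ({y} : Set G)).subtype (Subgroup.subtype_injective _)
          obtain ⟨z, hz⟩ := hno (μ₀.comp eq.symm.toMonoidHom)
          apply hz
          have he : eq.symm ⟨(z : G), hZD z.2⟩ = ⟨⟨z, hZC z⟩, hZP z⟩ := by
            rw [MulEquiv.symm_apply_eq]
            apply Subtype.ext
            rfl
          apply Units.ext
          show ((μ₀ (eq.symm ⟨(z : G), hZD z.2⟩) : ℂˣ) : ℂ) = lam z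
          rw [he, Helper15.linCharUnits_apply]
          have := hψc z 1
          rw [mul_one, h1, mul_one] at this
          exact this
        · exact Dvd.dvd.mul_left h1 _
    have hsum : charDegree (φ : Subgroup.centralizer ({y} : Set G) → ℂ) =
        ∑ ψ : IrrCharacter (P : Subgroup (Subgroup.centralizer ({y} : Set G))),
          n ψ * charDegree (ψ : ↥(P : Subgroup (Subgroup.centralizer ({y} : Set G))) → ℂ) := by
      have h2 : ((charDegree (φ : Subgroup.centralizer ({y} : Set G) → ℂ) : ℕ) : ℂ) =
          ((∑ ψ : IrrCharacter (P : Subgroup (Subgroup.centralizer ({y} : Set G))),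
            n ψ * charDegree (ψ : ↥(P : Subgroup (Subgroup.centralizer ({y} : Set G))) → ℂ) : ℕ) : ℂ) := by
        rw [← irrChar_one_eq_charDegree φ.2]
        have := congrFun hdecP 1
        simp only [Finset.sum_apply, Pi.smul_apply, smul_eq_mul] at this
        push_cast
        rw [show (φ : Subgroup.centralizer ({y} : Set G) → ℂ) 1 =
          (φ : Subgroup.centralizer ({y} : Set G) → ℂ)
            (((1 : (P : Subgroup (Subgroup.centralizer ({y} : Set G)))) :
              Subgroup.centralizer ({y} : Set G))) from rfl, this]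
        refine Finset.sum_congr rfl (fun ψ _ => ?_)
        rw [hn ψ, irrChar_one_eq_charDegree ψ.2]
      exact_mod_cast h2
    rw [hsum]
    exact Finset.dvd_sum (fun ψ _ => hdiv ψ)
  obtain ⟨k, hk⟩ := hpφ
  rw [hm, hcc, irrChar_one_eq_charDegree φ.2, hk]
  push_cast
  have hpJ : MemLocalIdeal M (p : ℂ) := (memLocalIdeal_natCast_iff hM).mpr (dvd_refl p)
  have hR : MemLocalRing M ((m : ℂ) *
      centralChar (φ : Subgroup.centralizer ({y} : Set G) → ℂ) ⟨y, hyC⟩ * (k : ℂ)) :=
    Helper16.memLocalRing_mul (Helper16.memLocalRing_mul (Helper16.memLocalRing_natCast m)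
      (Helper16.memLocalRing_of_isIntegral (Helper16.irr_isIntegral_centralChar φ _)))
      (Helper16.memLocalRing_natCast k)
  have e1 : (m : ℂ) * (centralChar (φ : Subgroup.centralizer ({y} : Set G) → ℂ) ⟨y, hyC⟩ *
      ((p : ℂ) * (k : ℂ))) = ((m : ℂ) *
      centralChar (φ : Subgroup.centralizer ({y} : Set G) → ℂ) ⟨y, hyC⟩ * (k : ℂ)) * (p : ℂ) := by
    ring
  rw [e1]
  exact Helper16.memLocalIdeal_mul_left hR hpJ

end

end Cfsg.Agent.Helper78
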