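import Cfsg.Agent.Helper78.ChainGroup

/-!
# The sign-reversing involution on normal `p`-chains (Knörr–Robinson)

For a nontrivial `p`-element `z` of a finite group `G` and any function `φ` on subgroups,
`∑_{s normal p-chain, z ∈ N_G(s)} (-1)^(|s|-1) φ(C_G(z) ⊓ N_G(s)) = φ(C_G(z))`.
-/

set_option autoImplicit false
set_option linter.unusedSectionVars false
set_option linter.unusedVariables false

namespace Cfsg.Agent.Helper78

open Classical

section ChainInvol

variable {G : Type*} [Group G]

/-- Nonempty chains of nontrivial `p`-subgroups all normal in the largest member. -/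
def IsNChain (p : ℕ) (s : Finset (Subgroup G)) : Prop :=
  s.Nonempty ∧ (∀ Q ∈ s, ∀ R ∈ s, Q ≤ R ∨ R ≤ Q) ∧ (∀ Q ∈ s, Q ≠ ⊥ ∧ IsPGroup p Q) ∧
    ∃ T ∈ s, ∀ Q ∈ s, Q ≤ T ∧ T ≤ Subgroup.normalizer ((Q : Subgroup G) : Set G)

/-- The stabilizer of a chain. -/
def chainStab (s : Finset (Subgroup G)) : Subgroup G :=
  ⨅ Q ∈ s, Subgroup.normalizer ((Q : Subgroup G) : Set G)

theorem mem_chainStab {s : Finset (Subgroup G)} {g : G} :
    g ∈ chainStab s ↔ ∀ Q ∈ s, g ∈ Subgroup.normalizer ((Q : Subgroup G) : Set G) := by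
  unfold chainStab
  simp only [Subgroup.mem_iInf]

theorem chainStab_insert (W : Subgroup G) (s : Finset (Subgroup G)) :
    chainStab (insert W s) = Subgroup.normalizer ((W : Subgroup G) : Set G) ⊓ chainStab s := by
  ext g
  rw [Subgroup.mem_inf, mem_chainStab, mem_chainStab]
  constructor
  · intro h
    exact ⟨h W (Finset.mem_insert_self W s), fun Q hQ => h Q (Finset.mem_insert_of_mem hQ)⟩
  · rintro ⟨h1, h2⟩ Q hQ
    rcases Finset.mem_insert.mp hQ with rfl | hQ
    · exact h1
    · exact h2 Q hQ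

theorem sup_mem_of_chain {α : Type*} [SemilatticeSup α] [OrderBot α] (s : Finset α)
    (hne : s.Nonempty) (hch : ∀ Q ∈ s, ∀ R ∈ s, Q ≤ R ∨ R ≤ Q) : s.sup id ∈ s := by
  induction s using Finset.induction_on with
  | empty => exact absurd hne (by simp)
  | insert a s ha ih =>
    rw [Finset.sup_insert]
    by_cases hs : s.Nonempty
    · have hm := ih hs (fun Q hQ R hR =>
        hch Q (Finset.mem_insert_of_mem hQ) R (Finset.mem_insert_of_mem hR))
      rcases hch a (Finset.mem_insert_self a s) _ (Finset.mem_insert_of_mem hm) with h | h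
      · rw [id, sup_eq_right.mpr h]; exact Finset.mem_insert_of_mem hm
      · rw [id, sup_eq_left.mpr h]; exact Finset.mem_insert_self a s
    · rw [Finset.not_nonempty_iff_eq_empty] at hs
      subst hs
      simp

/-- The largest member of a chain. -/
noncomputable def chainTop (s : Finset (Subgroup G)) : Subgroup G := s.sup id

/-- The largest member of the chain not containing `z` (or `⊥`). -/
noncomputable def chainLow (z : G) (s : Finset (Subgroup G)) : Subgroup G :=
  (s.filter (fun Q => z ∉ Q)).sup id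

/-- The subgroup toggled by the involution. -/
noncomputable def chainW (z : G) (s : Finset (Subgroup G)) : Subgroup G :=
  chainLow z s ⊔ conjClosure (chainTop s) (Subgroup.zpowers z)

/-- The involution. -/
noncomputable def chainTog (z : G) (s : Finset (Subgroup G)) : Finset (Subgroup G) :=
  if chainW z s ∈ s then s.erase (chainW z s) else insert (chainW z s) s

theorem chainTop_eq {s : Finset (Subgroup G)} {T : Subgroup G} (hT : T ∈ s)
    (hle : ∀ Q ∈ s, Q ≤ T) : chainTop s = T :=
  le_antisymm (Finset.sup_le (fun Q hQ => hle Q hQ)) (Finset.le_sup (f := id) hT)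

/-- A normal `p`-chain normalized by `z`, with the data spelled out. -/
structure ZChain (p : ℕ) (z : G) (s : Finset (Subgroup G)) : Prop where
  ne : s.Nonempty
  chain : ∀ Q ∈ s, ∀ R ∈ s, Q ≤ R ∨ R ≤ Q
  pgrp : ∀ Q ∈ s, Q ≠ ⊥ ∧ IsPGroup p Q
  top_mem : chainTop s ∈ s
  le_top : ∀ Q ∈ s, Q ≤ chainTop s
  top_norm : ∀ Q ∈ s, chainTop s ≤ Subgroup.normalizer ((Q : Subgroup G) : Set G)
  z_norm : ∀ Q ∈ s, z ∈ Subgroup.normalizer ((Q : Subgroup G) : Set G)

theorem zChain_of_top {p : ℕ} {z : G} {s : Finset (Subgroup G)} {T : Subgroup G}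
    (hch : ∀ Q ∈ s, ∀ R ∈ s, Q ≤ R ∨ R ≤ Q) (hp : ∀ Q ∈ s, Q ≠ ⊥ ∧ IsPGroup p Q)
    (hT : T ∈ s) (hTn : ∀ Q ∈ s, Q ≤ T ∧ T ≤ Subgroup.normalizer ((Q : Subgroup G) : Set G))
    (hz : ∀ Q ∈ s, z ∈ Subgroup.normalizer ((Q : Subgroup G) : Set G)) : ZChain p z s := by
  have he : chainTop s = T := chainTop_eq hT (fun Q hQ => (hTn Q hQ).1)
  exact ⟨⟨T, hT⟩, hch, hp, he ▸ hT, fun Q hQ => he ▸ (hTn Q hQ).1,
    fun Q hQ => he ▸ (hTn Q hQ).2, hz⟩

theorem zChain_iff {p : ℕ} {z : G} {s : Finset (Subgroup G)} :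
    ZChain p z s ↔ IsNChain p s ∧ z ∈ chainStab s := by
  constructor
  · intro h
    exact ⟨⟨h.ne, h.chain, h.pgrp, chainTop s, h.top_mem,
      fun Q hQ => ⟨h.le_top Q hQ, h.top_norm Q hQ⟩⟩, mem_chainStab.mpr h.z_norm⟩
  · rintro ⟨⟨hne, hch, hp, T, hT, hTn⟩, hz⟩
    exact zChain_of_top hch hp hT hTn (mem_chainStab.mp hz)


namespace ZChain

variable {p : ℕ} {z : G} {s : Finset (Subgroup G)}

theorem z_mem_zpowers : z ∈ Subgroup.zpowers z := Subgroup.mem_zpowers z

theorem z_mem_V (T : Subgroup G) : z ∈ conjClosure T (Subgroup.zpowers z) :=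
  le_conjClosure T _ (Subgroup.mem_zpowers z)

theorem V_le (h : ZChain p z s) {Q : Subgroup G} (hQ : Q ∈ s) (hz : z ∈ Q) :
    conjClosure (chainTop s) (Subgroup.zpowers z) ≤ Q :=
  conjClosure_le (Subgroup.zpowers_le.mpr hz) (h.top_norm Q hQ)

theorem low_cases (h : ZChain p z s) :
    chainLow z s = ⊥ ∨ (chainLow z s ∈ s ∧ z ∉ chainLow z s) := by
  unfold chainLow
  by_cases hne : (s.filter (fun Q => z ∉ Q)).Nonempty
  · right
    have hm := sup_mem_of_chain (s.filter (fun Q => z ∉ Q)) hne (fun Q hQ R hR =>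
      h.chain Q (Finset.mem_filter.mp hQ).1 R (Finset.mem_filter.mp hR).1)
    exact ⟨(Finset.mem_filter.mp hm).1, (Finset.mem_filter.mp hm).2⟩
  · left
    rw [Finset.not_nonempty_iff_eq_empty] at hne
    rw [hne, Finset.sup_empty]

theorem z_notMem_low (h : ZChain p z s) (hz1 : z ≠ 1) : z ∉ chainLow z s := by
  rcases h.low_cases with h0 | ⟨-, h1⟩
  · rw [h0, Subgroup.mem_bot]; exact hz1
  · exact h1

theorem le_low {Q : Subgroup G} (hQ : Q ∈ s) (hz : z ∉ Q) : Q ≤ chainLow z s :=
  Finset.le_sup (f := id) (Finset.mem_filter.mpr ⟨hQ, hz⟩)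

theorem low_le (h : ZChain p z s) {Q : Subgroup G} (hQ : Q ∈ s) (hz : z ∈ Q) :
    chainLow z s ≤ Q := by
  rcases h.low_cases with h0 | ⟨h1, h2⟩
  · rw [h0]; exact bot_le
  · rcases h.chain _ h1 Q hQ with h3 | h3
    · exact h3
    · exact absurd (h3 hz) h2

theorem low_le_top (h : ZChain p z s) : chainLow z s ≤ chainTop s :=
  Finset.sup_le (fun Q hQ => h.le_top Q (Finset.mem_filter.mp hQ).1)

theorem W_le (h : ZChain p z s) {Q : Subgroup G} (hQ : Q ∈ s) (hz : z ∈ Q) :
    chainW z s ≤ Q :=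
  sup_le (h.low_le hQ hz) (h.V_le hQ hz)

theorem z_mem_W : z ∈ chainW z s :=
  (le_sup_right : _ ≤ chainW z s) (z_mem_V _)

theorem low_le_W : chainLow z s ≤ chainW z s := le_sup_left

theorem top_le_norm_low (h : ZChain p z s) :
    chainTop s ≤ Subgroup.normalizer ((chainLow z s : Subgroup G) : Set G) := by
  rcases h.low_cases with h0 | ⟨h1, -⟩
  · rw [h0]
    intro x _
    rw [Subgroup.mem_normalizer_iff]
    intro y
    simp [Subgroup.mem_bot]
  · exact h.top_norm _ h1

theorem top_le_norm_W (h : ZChain p z s) :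
    chainTop s ≤ Subgroup.normalizer ((chainW z s : Subgroup G) : Set G) :=
  le_normalizer_sup h.top_le_norm_low (le_normalizer_conjClosure _ _)

theorem U_le_norm (h : ZChain p z s) {Q : Subgroup G} (hQ : Q ∈ s) :
    Subgroup.zpowers z ≤ Subgroup.normalizer ((Q : Subgroup G) : Set G) :=
  Subgroup.zpowers_le.mpr (h.z_norm Q hQ)

theorem W_le_TU (h : ZChain p z s) : chainW z s ≤ chainTop s ⊔ Subgroup.zpowers z :=
  sup_le (h.low_le_top.trans le_sup_left) (conjClosure_le_sup _ _)

theorem TU_le_norm (h : ZChain p z s) {Q : Subgroup G} (hQ : Q ∈ s) :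
    chainTop s ⊔ Subgroup.zpowers z ≤ Subgroup.normalizer ((Q : Subgroup G) : Set G) :=
  sup_le (h.top_norm Q hQ) (h.U_le_norm hQ)

theorem TU_pgroup (h : ZChain p z s) (hzp : IsPGroup p (Subgroup.zpowers z)) :
    IsPGroup p (chainTop s ⊔ Subgroup.zpowers z : Subgroup G) :=
  IsPGroup.to_sup_of_normal_left' (h.pgrp _ h.top_mem).2 hzp (h.U_le_norm h.top_mem)

theorem W_pgroup (h : ZChain p z s) (hzp : IsPGroup p (Subgroup.zpowers z)) :
    IsPGroup p (chainW z s) :=
  (h.TU_pgroup hzp).to_le h.W_le_TU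

theorem W_ne_bot (hz1 : z ≠ 1) : chainW z s ≠ ⊥ := by
  intro h0
  have := z_mem_W (z := z) (s := s)
  rw [h0, Subgroup.mem_bot] at this
  exact hz1 this

theorem low_eq_top (h : ZChain p z s) (hz : z ∉ chainTop s) : chainLow z s = chainTop s :=
  le_antisymm h.low_le_top (le_low h.top_mem hz)

theorem W_eq_TU (h : ZChain p z s) (hz : z ∉ chainTop s) :
    chainW z s = chainTop s ⊔ Subgroup.zpowers z := by
  apply le_antisymm h.W_le_TU
  unfold chainW
  rw [h.low_eq_top hz]
  exact sup_le_sup_left (le_conjClosure _ _) _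

theorem W_le_top (h : ZChain p z s) (hz : z ∈ chainTop s) : chainW z s ≤ chainTop s :=
  h.W_le h.top_mem hz

/-- Every member of the chain is comparable with `W`. -/
theorem comparable_W (h : ZChain p z s) {Q : Subgroup G} (hQ : Q ∈ s) :
    Q ≤ chainW z s ∨ chainW z s ≤ Q := by
  by_cases hz : z ∈ Q
  · exact Or.inr (h.W_le hQ hz)
  · exact Or.inl ((le_low hQ hz).trans low_le_W)

end ZChain


theorem chainW_def' (z : G) (s : Finset (Subgroup G)) :
    chainW z s = chainLow z s ⊔ conjClosure (chainTop s) (Subgroup.zpowers z) := rfl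

theorem chainLow_insert {z : G} {s : Finset (Subgroup G)} {W : Subgroup G} (hzW : z ∈ W) :
    chainLow z (insert W s) = chainLow z s := by
  unfold chainLow
  rw [Finset.filter_insert, if_neg (not_not.mpr hzW)]

theorem chainLow_erase {z : G} {s : Finset (Subgroup G)} {W : Subgroup G} (hzW : z ∈ W) :
    chainLow z (s.erase W) = chainLow z s := by
  unfold chainLow
  rw [Finset.filter_erase, Finset.erase_eq_of_notMem]
  intro hm
  exact (Finset.mem_filter.mp hm).2 hzW

namespace ZChain

variable {p : ℕ} {z : G} {s : Finset (Subgroup G)}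

/-! ### Inserting `W` -/

theorem insert_top_of_mem (h : ZChain p z s) (hz : z ∈ chainTop s) :
    chainTop (insert (chainW z s) s) = chainTop s := by
  refine chainTop_eq (Finset.mem_insert_of_mem h.top_mem) (fun Q hQ => ?_)
  rcases Finset.mem_insert.mp hQ with rfl | hQ
  · exact h.W_le_top hz
  · exact h.le_top Q hQ

theorem top_le_W_of_notMem (h : ZChain p z s) (hz : z ∉ chainTop s) :
    chainTop s ≤ chainW z s := by
  rw [h.W_eq_TU hz]; exact le_sup_left

theorem insert_top_of_notMem (h : ZChain p z s) (hz : z ∉ chainTop s) :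
    chainTop (insert (chainW z s) s) = chainW z s := by
  refine chainTop_eq (Finset.mem_insert_self _ _) (fun Q hQ => ?_)
  rcases Finset.mem_insert.mp hQ with rfl | hQ
  · exact le_rfl
  · exact (h.le_top Q hQ).trans (h.top_le_W_of_notMem hz)

theorem insert_zChain (h : ZChain p z s) (hz1 : z ≠ 1)
    (hzp : IsPGroup p (Subgroup.zpowers z)) : ZChain p z (insert (chainW z s) s) := by
  have hch : ∀ Q ∈ insert (chainW z s) s, ∀ R ∈ insert (chainW z s) s, Q ≤ R ∨ R ≤ Q := by
    intro Q hQ R hR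
    rcases Finset.mem_insert.mp hQ with rfl | hQ
    · rcases Finset.mem_insert.mp hR with rfl | hR
      · exact Or.inl le_rfl
      · exact (h.comparable_W hR).symm
    · rcases Finset.mem_insert.mp hR with rfl | hR
      · exact h.comparable_W hQ
      · exact h.chain Q hQ R hR
  have hpg : ∀ Q ∈ insert (chainW z s) s, Q ≠ ⊥ ∧ IsPGroup p Q := by
    intro Q hQ
    rcases Finset.mem_insert.mp hQ with rfl | hQ
    · exact ⟨W_ne_bot hz1, h.W_pgroup hzp⟩
    · exact h.pgrp Q hQ
  have hzn : ∀ Q ∈ insert (chainW z s) s,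
      z ∈ Subgroup.normalizer ((Q : Subgroup G) : Set G) := by
    intro Q hQ
    rcases Finset.mem_insert.mp hQ with rfl | hQ
    · exact Subgroup.le_normalizer z_mem_W
    · exact h.z_norm Q hQ
  by_cases hz : z ∈ chainTop s
  · refine zChain_of_top (T := chainTop s) hch hpg (Finset.mem_insert_of_mem h.top_mem) ?_ hzn
    intro Q hQ
    rcases Finset.mem_insert.mp hQ with rfl | hQ
    · exact ⟨h.W_le_top hz, h.top_le_norm_W⟩
    · exact ⟨h.le_top Q hQ, h.top_norm Q hQ⟩
  · refine zChain_of_top (T := chainW z s) hch hpg (Finset.mem_insert_self _ _) ?_ hzn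
    intro Q hQ
    rcases Finset.mem_insert.mp hQ with rfl | hQ
    · exact ⟨le_rfl, Subgroup.le_normalizer⟩
    · exact ⟨(h.le_top Q hQ).trans (h.top_le_W_of_notMem hz), h.W_le_TU.trans (h.TU_le_norm hQ)⟩

theorem chainW_insert (h : ZChain p z s) :
    chainW z (insert (chainW z s) s) = chainW z s := by
  by_cases hz : z ∈ chainTop s
  · rw [chainW_def' z (insert (chainW z s) s), chainLow_insert z_mem_W, h.insert_top_of_mem hz]
    rfl
  · rw [chainW_def' z (insert (chainW z s) s), chainLow_insert z_mem_W,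
      h.insert_top_of_notMem hz]
    apply le_antisymm
    · refine sup_le low_le_W ((conjClosure_le_sup _ _).trans (sup_le le_rfl ?_))
      exact Subgroup.zpowers_le.mpr z_mem_W
    · rw [h.W_eq_TU hz, h.low_eq_top hz]
      exact sup_le_sup_left (le_conjClosure _ _) _

/-! ### Erasing `W` -/

theorem low_sup_U_eq_top [Finite G] [Fact p.Prime] (h : ZChain p z s)
    (hW : chainW z s = chainTop s) : chainLow z s ⊔ Subgroup.zpowers z = chainTop s := by
  refine sup_eq_of_sup_conjClosure_eq (h.pgrp _ h.top_mem).2 h.low_le_top h.top_le_norm_low ?_ hW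
  rw [Subgroup.zpowers_le, ← hW]
  exact z_mem_W

theorem erase_nonempty [Finite G] [Fact p.Prime] (h : ZChain p z s) (hz1 : z ≠ 1)
    (hWs : chainW z s ∈ s) (hne : s ≠ {Subgroup.zpowers z}) :
    (s.erase (chainW z s)).Nonempty := by
  by_contra hcon
  rw [Finset.not_nonempty_iff_eq_empty, Finset.erase_eq_empty_iff] at hcon
  rcases hcon with hcon | hcon
  · rw [hcon] at hWs; simp at hWs
  · have hall := (Finset.eq_singleton_iff_unique_mem.mp hcon).2
    have hT : chainTop s = chainW z s := hall _ h.top_mem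
    have hL : chainLow z s = ⊥ := by
      rcases h.low_cases with h0 | ⟨h1, h2⟩
      · exact h0
      · have h1' := hall _ h1
        rw [h1'] at h2
        exact absurd z_mem_W h2
    have h3 := h.low_sup_U_eq_top hT.symm
    rw [hL, bot_sup_eq] at h3
    apply hne
    rw [hcon, ← hT, h3]

theorem erase_facts [Finite G] [Fact p.Prime] (h : ZChain p z s) (hz1 : z ≠ 1)
    (hWs : chainW z s ∈ s) (hne : s ≠ {Subgroup.zpowers z}) (hW : chainW z s = chainTop s) :
    chainLow z s ∈ s.erase (chainW z s) ∧ ∀ Q ∈ s.erase (chainW z s), Q ≤ chainLow z s := by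
  have hall : ∀ Q ∈ s.erase (chainW z s), Q ≤ chainLow z s := by
    intro Q hQ
    rw [Finset.mem_erase] at hQ
    apply le_low hQ.2
    intro hz
    apply hQ.1
    exact le_antisymm (hW ▸ h.le_top Q hQ.2) (h.W_le hQ.2 hz)
  refine ⟨?_, hall⟩
  obtain ⟨Q₀, hQ₀⟩ := h.erase_nonempty hz1 hWs hne
  have hQ₀' := (Finset.mem_erase.mp hQ₀).2
  rcases h.low_cases with h0 | ⟨h1, h2⟩
  · exfalso
    have := hall Q₀ hQ₀
    rw [h0, le_bot_iff] at this
    exact (h.pgrp Q₀ hQ₀').1 this
  · rw [Finset.mem_erase]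
    refine ⟨?_, h1⟩
    intro he
    rw [he] at h2
    exact h2 z_mem_W

theorem erase_top_of_ne (h : ZChain p z s) (hW : chainW z s ≠ chainTop s) :
    chainTop (s.erase (chainW z s)) = chainTop s := by
  refine chainTop_eq (Finset.mem_erase.mpr ⟨Ne.symm hW, h.top_mem⟩) (fun Q hQ => ?_)
  exact h.le_top Q (Finset.mem_erase.mp hQ).2

theorem erase_top_of_eq [Finite G] [Fact p.Prime] (h : ZChain p z s) (hz1 : z ≠ 1)
    (hWs : chainW z s ∈ s) (hne : s ≠ {Subgroup.zpowers z}) (hW : chainW z s = chainTop s) :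
    chainTop (s.erase (chainW z s)) = chainLow z s := by
  obtain ⟨h1, h2⟩ := h.erase_facts hz1 hWs hne hW
  exact chainTop_eq h1 h2

theorem erase_zChain [Finite G] [Fact p.Prime] (h : ZChain p z s) (hz1 : z ≠ 1)
    (hWs : chainW z s ∈ s) (hne : s ≠ {Subgroup.zpowers z}) :
    ZChain p z (s.erase (chainW z s)) := by
  have hsub : ∀ Q ∈ s.erase (chainW z s), Q ∈ s := fun Q hQ => (Finset.mem_erase.mp hQ).2
  have hch : ∀ Q ∈ s.erase (chainW z s), ∀ R ∈ s.erase (chainW z s), Q ≤ R ∨ R ≤ Q :=
    fun Q hQ R hR => h.chain Q (hsub Q hQ) R (hsub R hR)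
  have hpg : ∀ Q ∈ s.erase (chainW z s), Q ≠ ⊥ ∧ IsPGroup p Q := fun Q hQ => h.pgrp Q (hsub Q hQ)
  have hzn : ∀ Q ∈ s.erase (chainW z s),
      z ∈ Subgroup.normalizer ((Q : Subgroup G) : Set G) := fun Q hQ => h.z_norm Q (hsub Q hQ)
  by_cases hW : chainW z s = chainTop s
  · obtain ⟨h1, h2⟩ := h.erase_facts hz1 hWs hne hW
    refine zChain_of_top (T := chainLow z s) hch hpg h1 ?_ hzn
    intro Q hQ
    exact ⟨h2 Q hQ, h.low_le_top.trans (h.top_norm Q (hsub Q hQ))⟩
  · refine zChain_of_top (T := chainTop s) hch hpg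
      (Finset.mem_erase.mpr ⟨Ne.symm hW, h.top_mem⟩) ?_ hzn
    intro Q hQ
    exact ⟨h.le_top Q (hsub Q hQ), h.top_norm Q (hsub Q hQ)⟩

theorem chainW_erase [Finite G] [Fact p.Prime] (h : ZChain p z s) (hz1 : z ≠ 1)
    (hWs : chainW z s ∈ s) (hne : s ≠ {Subgroup.zpowers z}) :
    chainW z (s.erase (chainW z s)) = chainW z s := by
  by_cases hW : chainW z s = chainTop s
  · rw [chainW_def' z (s.erase (chainW z s)), chainLow_erase z_mem_W,
      h.erase_top_of_eq hz1 hWs hne hW]
    have h3 := h.low_sup_U_eq_top hW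
    rw [hW, ← h3]
    apply le_antisymm
    · exact sup_le le_sup_left (conjClosure_le_sup _ _)
    · exact sup_le_sup_left (le_conjClosure _ _) _
  · rw [chainW_def' z (s.erase (chainW z s)), chainLow_erase z_mem_W, h.erase_top_of_ne hW]
    rfl

end ZChain


theorem chainW_singleton (z : G) :
    chainW z ({Subgroup.zpowers z} : Finset (Subgroup G)) = Subgroup.zpowers z := by
  rw [chainW_def']
  have hT : chainTop ({Subgroup.zpowers z} : Finset (Subgroup G)) = Subgroup.zpowers z := by
    unfold chainTop; rw [Finset.sup_singleton]; rfl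
  have hL : chainLow z ({Subgroup.zpowers z} : Finset (Subgroup G)) = ⊥ := by
    unfold chainLow
    rw [Finset.filter_singleton, if_neg (not_not.mpr (Subgroup.mem_zpowers z)), Finset.sup_empty]
  rw [hT, hL, bot_sup_eq]
  exact le_antisymm (conjClosure_le_of_le le_rfl) (le_conjClosure _ _)

theorem chainStab_singleton (U : Subgroup G) :
    chainStab ({U} : Finset (Subgroup G)) = Subgroup.normalizer ((U : Subgroup G) : Set G) := by
  ext g
  rw [mem_chainStab]
  simp

theorem chainCentralizer_le_normalizer_zpowers (z : G) :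
    Subgroup.centralizer ({z} : Set G) ≤
      Subgroup.normalizer ((Subgroup.zpowers z : Subgroup G) : Set G) := by
  have h1 : Subgroup.centralizer ({z} : Set G) =
      Subgroup.centralizer ((Subgroup.zpowers z : Subgroup G) : Set G) := by
    rw [Subgroup.zpowers_eq_closure, Subgroup.centralizer_closure]
  rw [h1]
  exact Subgroup.centralizer_le_normalizer _

theorem mem_normalizer_bot (c : G) :
    c ∈ Subgroup.normalizer (((⊥ : Subgroup G) : Subgroup G) : Set G) := by
  rw [Subgroup.mem_normalizer_iff]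
  intro y
  simp [Subgroup.mem_bot]

theorem chainTog_ne_self (z : G) (s : Finset (Subgroup G)) : chainTog z s ≠ s := by
  intro he
  by_cases hWs : chainW z s ∈ s
  · have e : chainTog z s = s.erase (chainW z s) := if_pos hWs
    rw [e] at he
    have : chainW z s ∈ s.erase (chainW z s) := by rw [he]; exact hWs
    exact Finset.notMem_erase _ _ this
  · have e : chainTog z s = insert (chainW z s) s := if_neg hWs
    rw [e] at he
    apply hWs
    have hm : chainW z s ∈ insert (chainW z s) s := Finset.mem_insert_self _ _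
    rw [he] at hm
    exact hm

theorem zChain_singleton {p : ℕ} {z : G} (hz1 : z ≠ 1)
    (hzp : IsPGroup p (Subgroup.zpowers z)) :
    ZChain p z ({Subgroup.zpowers z} : Finset (Subgroup G)) := by
  refine zChain_of_top (T := Subgroup.zpowers z) ?_ ?_ (Finset.mem_singleton_self _) ?_ ?_
  · intro Q hQ R hR
    rw [Finset.mem_singleton] at hQ hR
    rw [hQ, hR]
    exact Or.inl le_rfl
  · intro Q hQ
    rw [Finset.mem_singleton] at hQ
    rw [hQ]
    refine ⟨?_, hzp⟩
    intro h0
    have := Subgroup.mem_zpowers z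
    rw [h0, Subgroup.mem_bot] at this
    exact hz1 this
  · intro Q hQ
    rw [Finset.mem_singleton] at hQ
    rw [hQ]
    exact ⟨le_rfl, Subgroup.le_normalizer⟩
  · intro Q hQ
    rw [Finset.mem_singleton] at hQ
    rw [hQ]
    exact Subgroup.le_normalizer (Subgroup.mem_zpowers z)

namespace ZChain

variable {p : ℕ} {z : G} {s : Finset (Subgroup G)}

theorem cent_stab_le_norm_W (h : ZChain p z s) :
    Subgroup.centralizer ({z} : Set G) ⊓ chainStab s ≤
      Subgroup.normalizer ((chainW z s : Subgroup G) : Set G) := by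
  intro c hc
  obtain ⟨hc1, hc2⟩ := Subgroup.mem_inf.mp hc
  rw [mem_chainStab] at hc2
  have hcT := hc2 _ h.top_mem
  have hcU := chainCentralizer_le_normalizer_zpowers z hc1
  have hcL : c ∈ Subgroup.normalizer ((chainLow z s : Subgroup G) : Set G) := by
    rcases h.low_cases with h0 | ⟨h1, -⟩
    · rw [h0]; exact mem_normalizer_bot c
    · exact hc2 _ h1
  exact mem_normalizer_sup hcL (mem_normalizer_conjClosure hcT hcU)

theorem stab_insert_W (h : ZChain p z s) :
    Subgroup.centralizer ({z} : Set G) ⊓ chainStab (insert (chainW z s) s) =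
      Subgroup.centralizer ({z} : Set G) ⊓ chainStab s := by
  rw [chainStab_insert]
  apply le_antisymm
  · exact inf_le_inf_left _ inf_le_right
  · exact le_inf inf_le_left (le_inf h.cent_stab_le_norm_W inf_le_right)

variable [Finite G] [Fact p.Prime]

theorem tog_zChain (h : ZChain p z s) (hz1 : z ≠ 1) (hzp : IsPGroup p (Subgroup.zpowers z))
    (hne : s ≠ {Subgroup.zpowers z}) : ZChain p z (chainTog z s) := by
  unfold chainTog
  split_ifs with hWs
  · exact h.erase_zChain hz1 hWs hne
  · exact h.insert_zChain hz1 hzp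

theorem tog_W (h : ZChain p z s) (hz1 : z ≠ 1) (hne : s ≠ {Subgroup.zpowers z}) :
    chainW z (chainTog z s) = chainW z s := by
  unfold chainTog
  split_ifs with hWs
  · exact h.chainW_erase hz1 hWs hne
  · exact h.chainW_insert

theorem tog_tog (h : ZChain p z s) (hz1 : z ≠ 1) (hne : s ≠ {Subgroup.zpowers z}) :
    chainTog z (chainTog z s) = s := by
  by_cases hWs : chainW z s ∈ s
  · have e : chainTog z s = s.erase (chainW z s) := if_pos hWs
    have hW' := h.chainW_erase hz1 hWs hne
    rw [e]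
    show (if chainW z (s.erase (chainW z s)) ∈ s.erase (chainW z s) then _ else _) = s
    rw [hW', if_neg (Finset.notMem_erase _ _), Finset.insert_erase hWs]
  · have e : chainTog z s = insert (chainW z s) s := if_neg hWs
    have hW' := h.chainW_insert
    rw [e]
    show (if chainW z (insert (chainW z s) s) ∈ insert (chainW z s) s then _ else _) = s
    rw [hW', if_pos (Finset.mem_insert_self _ _), Finset.erase_insert hWs]

theorem tog_ne (h : ZChain p z s) (hz1 : z ≠ 1) (hne : s ≠ {Subgroup.zpowers z}) :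
    chainTog z s ≠ {Subgroup.zpowers z} := by
  intro he
  have hW := h.tog_W hz1 hne
  rw [he, chainW_singleton] at hW
  by_cases hWs : chainW z s ∈ s
  · have e : chainTog z s = s.erase (chainW z s) := if_pos hWs
    rw [e, ← hW] at he
    have : Subgroup.zpowers z ∈ s.erase (Subgroup.zpowers z) := by
      rw [he]; exact Finset.mem_singleton_self _
    exact Finset.notMem_erase _ _ this
  · have e : chainTog z s = insert (chainW z s) s := if_neg hWs
    rw [e, ← hW] at he
    rw [← hW] at hWs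
    obtain ⟨Q, hQ⟩ := h.ne
    have hQ' : Q ∈ insert (Subgroup.zpowers z) s := Finset.mem_insert_of_mem hQ
    rw [he, Finset.mem_singleton] at hQ'
    exact hWs (hQ' ▸ hQ)

theorem tog_sign (h : ZChain p z s) (hz1 : z ≠ 1) (hne : s ≠ {Subgroup.zpowers z}) :
    (-1 : ℤ) ^ ((chainTog z s).card - 1) = -(-1 : ℤ) ^ (s.card - 1) := by
  by_cases hWs : chainW z s ∈ s
  · have e : chainTog z s = s.erase (chainW z s) := if_pos hWs
    have h1 := h.erase_nonempty hz1 hWs hne
    rw [e, Finset.card_erase_of_mem hWs]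
    have h2 : 1 ≤ (s.erase (chainW z s)).card := Finset.card_pos.mpr h1
    rw [Finset.card_erase_of_mem hWs] at h2
    obtain ⟨k, hk⟩ : ∃ k, s.card = k + 2 := ⟨s.card - 2, by omega⟩
    rw [hk]
    have e1 : k + 2 - 1 - 1 = k := by omega
    have e2 : k + 2 - 1 = k + 1 := by omega
    rw [e1, e2, pow_succ]
    ring
  · have e : chainTog z s = insert (chainW z s) s := if_neg hWs
    rw [e, Finset.card_insert_of_notMem hWs]
    have h2 : 1 ≤ s.card := Finset.card_pos.mpr h.ne
    obtain ⟨k, hk⟩ : ∃ k, s.card = k + 1 := ⟨s.card - 1, by omega⟩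
    rw [hk]
    have e1 : k + 1 + 1 - 1 = k + 1 := by omega
    have e2 : k + 1 - 1 = k := by omega
    rw [e1, e2, pow_succ]
    ring

theorem tog_stab (h : ZChain p z s) (hz1 : z ≠ 1) (hne : s ≠ {Subgroup.zpowers z}) :
    Subgroup.centralizer ({z} : Set G) ⊓ chainStab (chainTog z s) =
      Subgroup.centralizer ({z} : Set G) ⊓ chainStab s := by
  by_cases hWs : chainW z s ∈ s
  · have e : chainTog z s = s.erase (chainW z s) := if_pos hWs
    have h' := h.erase_zChain hz1 hWs hne
    have hW' := h.chainW_erase hz1 hWs hne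
    have := h'.stab_insert_W
    rw [hW', Finset.insert_erase hWs] at this
    rw [e]
    exact this.symm
  · have e : chainTog z s = insert (chainW z s) s := if_neg hWs
    rw [e]
    exact h.stab_insert_W

end ZChain

/-- **The alternating sum over normal chains stabilized by a nontrivial `p`-element.** -/
theorem chain_alternating_sum [Finite G] {p : ℕ} [Fact p.Prime] (z : G) (hz1 : z ≠ 1)
    (hzp : IsPGroup p (Subgroup.zpowers z)) (φ : Subgroup G → ℤ)
    (S : Finset (Finset (Subgroup G)))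
    (hS : ∀ s, s ∈ S ↔ IsNChain p s ∧ z ∈ chainStab s) :
    ∑ s ∈ S, (-1 : ℤ) ^ (s.card - 1) * φ (Subgroup.centralizer ({z} : Set G) ⊓ chainStab s) =
      φ (Subgroup.centralizer ({z} : Set G)) := by
  have hS' : ∀ s, s ∈ S ↔ ZChain p z s := fun s => (hS s).trans zChain_iff.symm
  have hU : ({Subgroup.zpowers z} : Finset (Subgroup G)) ∈ S :=
    (hS' _).mpr (zChain_singleton hz1 hzp)
  rw [← Finset.add_sum_erase S _ hU]
  have h0 : ∑ s ∈ S.erase {Subgroup.zpowers z}, (-1 : ℤ) ^ (s.card - 1) *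
      φ (Subgroup.centralizer ({z} : Set G) ⊓ chainStab s) = 0 := by
    refine Finset.sum_involution (fun s _ => chainTog z s) ?_ ?_ ?_ ?_
    · intro s hs
      rw [Finset.mem_erase] at hs
      have h := (hS' s).mp hs.2
      rw [h.tog_sign hz1 hs.1, h.tog_stab hz1 hs.1]
      ring
    · intro s hs _
      exact chainTog_ne_self z s
    · intro s hs
      rw [Finset.mem_erase] at hs ⊢
      have h := (hS' s).mp hs.2
      exact ⟨h.tog_ne hz1 hs.1, (hS' _).mpr (h.tog_zChain hz1 hzp hs.1)⟩
    · intro s hs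
      rw [Finset.mem_erase] at hs
      have h := (hS' s).mp hs.2
      exact h.tog_tog hz1 hs.1
  rw [h0, add_zero, Finset.card_singleton, chainStab_singleton]
  have : Subgroup.centralizer ({z} : Set G) ⊓
      Subgroup.normalizer ((Subgroup.zpowers z : Subgroup G) : Set G) =
      Subgroup.centralizer ({z} : Set G) :=
    inf_eq_left.mpr (chainCentralizer_le_normalizer_zpowers z)
  rw [this]
  simp

end ChainInvol

end Cfsg.Agent.Helper78
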