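import Cfsg.Agent.Helper78.InducedTrans
import Cfsg.Prelude.Def_BlockRank

/-!
# Transport lemmas for the chain identity

* `blockRank_image_irrMap`: the `p`-regular rank is invariant under transport along an isomorphism.
* `isInducedBlock_of_trans_map`: converse transitivity of block induction: if `b'^K = B₀` and
  `b'^G = B` then `B₀^G = B`.
-/

set_option autoImplicit false
set_option linter.unusedSectionVars false
set_option linter.unusedVariables false

namespace Cfsg.Agent.Helper78

open Cfsg
open scoped ComplexConjugate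

universe u v

section RankTransport

variable {H : Type u} {H' : Type v} [Group H] [Group H']

theorem pRegularPart_irrMap (p : ℕ) (e : H ≃* H') (ξ : IrrCharacter H) :
    pRegularPart p (irrMap e ξ : H' → ℂ) =
      LinearEquiv.funCongrLeft ℂ ℂ e.symm.toEquiv (pRegularPart p (ξ : H → ℂ)) := by
  funext h'
  show pRegularPart p (irrMap e ξ : H' → ℂ) h' = pRegularPart p (ξ : H → ℂ) (e.symm h')
  unfold pRegularPart IsPRegular
  rw [MulEquiv.orderOf_eq e.symm h']
  rfl

theorem blockRank_image_irrMap (p : ℕ) (e : H ≃* H') (S : Set (IrrCharacter H)) :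
    blockRank p (irrMap e '' S) = blockRank p S := by
  unfold blockRank
  have h1 : (fun χ : IrrCharacter H' => pRegularPart p (χ : H' → ℂ)) '' (irrMap e '' S) =
      (LinearEquiv.funCongrLeft ℂ ℂ e.symm.toEquiv) ''
        ((fun χ : IrrCharacter H => pRegularPart p (χ : H → ℂ)) '' S) := by
    rw [Set.image_image, Set.image_image]
    refine Set.image_congr (fun ξ _ => ?_)
    exact pRegularPart_irrMap p e ξ
  rw [h1]
  have h2 := Submodule.map_span
    (LinearEquiv.funCongrLeft ℂ ℂ e.symm.toEquiv : (H → ℂ) ≃ₗ[ℂ] (H' → ℂ)).toLinearMap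
    ((fun χ : IrrCharacter H => pRegularPart p (χ : H → ℂ)) '' S)
  have h3 : (⇑(LinearEquiv.funCongrLeft ℂ ℂ e.symm.toEquiv : (H → ℂ) ≃ₗ[ℂ] (H' → ℂ)).toLinearMap) =
      ⇑(LinearEquiv.funCongrLeft ℂ ℂ e.symm.toEquiv : (H → ℂ) ≃ₗ[ℂ] (H' → ℂ)) := rfl
  rw [h3] at h2
  rw [← h2]
  exact LinearEquiv.finrank_map_eq _ _

theorem card_image_irrMap (e : H ≃* H') (S : Set (IrrCharacter H)) :
    Nat.card (irrMap e '' S) = Nat.card S :=
  Nat.card_image_of_injective (irrMap_injective e) S

end RankTransport

section ConverseTrans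

variable {G : Type u} [Group G] [Finite G] {M : Ideal AlgInt}

/-- Converse transitivity of block induction: `X ≤ K ≤ G`, `b'^K = B₀` and `b'^G = B` give
`B₀^G = B`. -/
theorem isInducedBlock_of_trans_map [hMp : M.IsPrime] (K : Subgroup G) (X : Subgroup ↥K)
    {b' : Set (IrrCharacter ↥X)} {B₀ : Set (IrrCharacter ↥K)} {B : Set (IrrCharacter G)}
    (h1 : IsInducedBlock M X b' B₀)
    (h3 : IsInducedBlock M (X.map K.subtype)
      (irrMap (X.equivMapOfInjective K.subtype K.subtype_injective) '' b') B) :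
    IsInducedBlock M K B₀ B := by
  classical
  haveI : Fintype G := Fintype.ofFinite G
  haveI : Fintype K := Fintype.ofFinite K
  haveI : Fintype X := Fintype.ofFinite X
  haveI : Fintype (X.map K.subtype) := Fintype.ofFinite _
  set e := X.equivMapOfInjective K.subtype K.subtype_injective with he
  refine ⟨h1.2.1, h3.2.1, ?_⟩
  intro χ₀ hχ₀ χ hχ g
  obtain ⟨ξ, hξ⟩ := isPBlock_nonempty hMp h1.1
  have a1 := Helper16.omega_restrict_sub_memLocalIdeal (M := M) X h1 hξ hχ₀
    (S := Helper16.classIndRes K g) (Helper16.isClassFunction_classIndRes K g)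
    (Helper16.classIndRes_memLocalRing K g)
  have a2 := h3.2.2 (irrMap e ξ) ⟨ξ, hξ, rfl⟩ χ hχ g
  have a3 : inducedCentralChar (X.map K.subtype) (irrMap e ξ : _ → ℂ) g =
      Helper16.omega (ξ : X → ℂ) (fun x : X => Helper16.classIndRes K g (x : K)) := by
    rw [Helper16.inducedCentralChar_eq_omega, omega_irrMap]
    rfl
  rw [a3] at a2
  rw [Helper16.inducedCentralChar_eq_omega]
  have := Helper16.memLocalIdeal_sub a2 a1
  rwa [sub_sub_sub_cancel_left] at this

end ConverseTrans

end Cfsg.Agent.Helper78
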