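import Cfsg.Agent.Helper78.ChainSection
import Cfsg.Agent.Helper78.ChainTransport
import Cfsg.Agent.Helper78.ChainInvol

/-!
# Section expansions inside an ambient group

For a block `b` of `G` and a subgroup `K`, with `indSet M b K` the characters of `K` in blocks
inducing `b` and `chainPhi M p b Y = |Y| * l(indSet M b Y)`:
`|K| (k - l)(indSet M b K) = ∑_{z ∈ K nontrivial p-element} chainPhi M p b (C_G(z) ⊓ K)`.
-/

set_option autoImplicit false
set_option linter.unusedSectionVars false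
set_option linter.unusedVariables false

namespace Cfsg.Agent.Helper78

open Cfsg
open scoped ComplexConjugate

universe u

section Ambient

variable {G : Type u} [Group G] [Finite G] {M : Ideal AlgInt} {p : ℕ}

/-- The characters of the subgroup `Y` lying in blocks that induce `b`. -/
def indSet (M : Ideal AlgInt) (b : Set (IrrCharacter G)) (Y : Subgroup G) :
    Set (IrrCharacter Y) :=
  {ψ | ∃ β : Set (IrrCharacter Y), ψ ∈ β ∧ IsInducedBlock M Y β b}

/-- `|Y| * l(indSet M b Y)`. -/
noncomputable def chainPhi (M : Ideal AlgInt) (p : ℕ) (b : Set (IrrCharacter G))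
    (Y : Subgroup G) : ℤ :=
  (Nat.card Y : ℤ) * (blockRank p (indSet M b Y) : ℤ)

theorem isBlockClosed_of_isPBlock {H : Type*} [Group H] (hMp : M.IsPrime)
    {B : Set (IrrCharacter H)} (hB : IsPBlock M B) : IsBlockClosed M B := by
  intro χ hχ ψ hsame
  rw [isPBlock_eq_blockOf_of_mem hMp hB hχ]
  exact hsame

theorem isBlockClosed_indSet (hMp : M.IsPrime) (b : Set (IrrCharacter G)) (Y : Subgroup G) :
    IsBlockClosed M (indSet M b Y) := by
  rintro ψ ⟨β, hψβ, hind⟩ ψ' hsame
  refine ⟨β, ?_, hind⟩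
  rw [isPBlock_eq_blockOf_of_mem hMp hind.1 hψβ]
  exact hsame

theorem sectionSet_block_eq_indSet (hMp : M.IsPrime) {b : Set (IrrCharacter G)}
    (hb : IsPBlock M b) (z : G) :
    sectionSet M b z = indSet M b (Subgroup.centralizer ({z} : Set G)) := by
  ext ψ
  constructor
  · rintro ⟨β, hψβ, B, hBb, hind⟩
    refine ⟨β, hψβ, ?_⟩
    obtain ⟨χ, hχ⟩ := isPBlock_nonempty hMp hind.2.1
    have : B = b := isPBlock_eq_of_mem_of_mem hMp hind.2.1 hb hχ (hBb hχ)
    rwa [this] at hind
  · rintro ⟨β, hψβ, hind⟩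
    exact ⟨β, hψβ, b, subset_rfl, hind⟩

open Classical in
/-- The section expansion for the block `b` of `G` itself. -/
theorem card_sub_blockRank_eq_sum_chainPhi [Fintype G] [Fact p.Prime] (hM : IsPModular p M)
    {b : Set (IrrCharacter G)} (hb : IsPBlock M b) :
    (Nat.card G : ℤ) * ((Nat.card b : ℤ) - (blockRank p b : ℤ)) =
      ∑ z : G, if (z ≠ 1 ∧ ∃ k : ℕ, orderOf z = p ^ k) then
        chainPhi M p b (Subgroup.centralizer ({z} : Set G)) else 0 := by
  have hMp : M.IsPrime := hM.2.1.isPrime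
  have h := card_sub_blockRank_eq_sections hM (isBlockClosed_of_isPBlock hMp hb)
  apply Int.cast_injective (α := ℂ)
  push_cast
  rw [h]
  refine Finset.sum_congr rfl (fun z _ => ?_)
  by_cases hz : (z ≠ 1 ∧ ∃ k : ℕ, orderOf z = p ^ k)
  · rw [if_pos hz, if_pos hz]
    unfold chainPhi
    push_cast
    rw [sectionSet_block_eq_indSet hMp hb z]
  · rw [if_neg hz, if_neg hz]

theorem centralizer_map_subtype_eq (K : Subgroup G) (z : K) :
    (Subgroup.centralizer ({z} : Set K)).map K.subtype =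
      Subgroup.centralizer ({(z : G)} : Set G) ⊓ K := by
  ext g
  rw [Subgroup.mem_map, Subgroup.mem_inf]
  constructor
  · rintro ⟨x, hx, rfl⟩
    refine ⟨?_, x.2⟩
    rw [Subgroup.mem_centralizer_iff] at hx ⊢
    intro h hh
    rw [Set.mem_singleton_iff] at hh
    rw [hh]
    have := hx z (Set.mem_singleton z)
    exact congrArg Subtype.val this
  · rintro ⟨hg1, hg2⟩
    refine ⟨⟨g, hg2⟩, ?_, rfl⟩
    rw [Subgroup.mem_centralizer_iff] at hg1 ⊢
    intro h hh
    rw [Set.mem_singleton_iff] at hh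
    rw [hh]
    apply Subtype.ext
    exact hg1 (z : G) (Set.mem_singleton _)

/-- The blocks of `C_K(z)` inducing into `indSet M b K` correspond to the blocks of
`C_G(z) ⊓ K` inducing `b`. -/
theorem indSet_map_eq_image_sectionSet [Fact p.Prime] (hM : IsPModular p M)
    (b : Set (IrrCharacter G)) (K : Subgroup G) (z : K) (hz : ∃ k : ℕ, orderOf z = p ^ k) :
    indSet M b ((Subgroup.centralizer ({z} : Set K)).map K.subtype) =
      irrMap ((Subgroup.centralizer ({z} : Set K)).equivMapOfInjective K.subtype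
        K.subtype_injective) '' sectionSet M (indSet M b K) z := by
  classical
  haveI hMp : M.IsPrime := hM.2.1.isPrime
  haveI : Fintype K := Fintype.ofFinite K
  set X := Subgroup.centralizer ({z} : Set K) with hX
  set e := X.equivMapOfInjective K.subtype K.subtype_injective with he
  ext ψ'
  constructor
  · rintro ⟨β', hψ'β', hind'⟩
    have hβ : IsPBlock M (irrMap e.symm '' β') := Helper77.isPBlock_image_irrMap e.symm hind'.1
    obtain ⟨B₀, h1⟩ := Helper16.inducedBlockDefined_centralizer hM z hz _ hβ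
    have h3 : IsInducedBlock M (X.map K.subtype) (irrMap e '' (irrMap e.symm '' β')) b := by
      rw [image_irrMap_image_irrMap_symm]
      exact hind'
    have h2 := isInducedBlock_of_trans_map K X h1 h3
    refine ⟨irrMap e.symm ψ', ?_, irrMap_irrMap_symm e ψ'⟩
    refine ⟨irrMap e.symm '' β', ⟨ψ', hψ'β', rfl⟩, B₀, ?_, h1⟩
    intro χ hχ
    exact ⟨B₀, hχ, h2⟩
  · rintro ⟨ψ, ⟨β, hψβ, B₀, hB₀, h1⟩, rfl⟩
    obtain ⟨χ, hχ⟩ := isPBlock_nonempty hMp h1.2.1
    obtain ⟨β₀, hχβ₀, hind₀⟩ := hB₀ hχ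
    have e0 : β₀ = B₀ := isPBlock_eq_of_mem_of_mem hMp hind₀.1 h1.2.1 hχβ₀ hχ
    rw [e0] at hind₀
    exact ⟨irrMap e '' β, ⟨ψ, hψβ, rfl⟩, isInducedBlock_trans_map K X h1 hind₀⟩

/-- The local term: `|C_K(z)| * l(sectionSet)` is `chainPhi` of `C_G(z) ⊓ K`. -/
theorem card_mul_blockRank_sectionSet_eq_chainPhi [Fact p.Prime] (hM : IsPModular p M)
    (b : Set (IrrCharacter G)) (K : Subgroup G) (z : K) (hz : ∃ k : ℕ, orderOf z = p ^ k) :
    (Nat.card (Subgroup.centralizer ({z} : Set K)) : ℤ) *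
      (blockRank p (sectionSet M (indSet M b K) z) : ℤ) =
      chainPhi M p b (Subgroup.centralizer ({(z : G)} : Set G) ⊓ K) := by
  rw [← centralizer_map_subtype_eq K z]
  unfold chainPhi
  rw [indSet_map_eq_image_sectionSet hM b K z hz, blockRank_image_irrMap]
  congr 2
  exact Nat.card_congr ((Subgroup.centralizer ({z} : Set K)).equivMapOfInjective K.subtype
    K.subtype_injective).toEquiv

open Classical in
/-- The section expansion for the characters of a subgroup `K` in blocks inducing `b`. -/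
theorem card_sub_blockRank_indSet_eq_sum_chainPhi [Fintype G] [Fact p.Prime]
    (hM : IsPModular p M) (b : Set (IrrCharacter G)) (K : Subgroup G) :
    (Nat.card K : ℤ) * ((Nat.card (indSet M b K) : ℤ) - (blockRank p (indSet M b K) : ℤ)) =
      ∑ z : G, if (z ∈ K ∧ z ≠ 1 ∧ ∃ k : ℕ, orderOf z = p ^ k) then
        chainPhi M p b (Subgroup.centralizer ({z} : Set G) ⊓ K) else 0 := by
  have hMp : M.IsPrime := hM.2.1.isPrime
  haveI : Fintype K := Fintype.ofFinite K
  have h := card_sub_blockRank_eq_sections (H := K) hM (isBlockClosed_indSet hMp b K)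
  have hZ : (Nat.card K : ℤ) * ((Nat.card (indSet M b K) : ℤ) -
      (blockRank p (indSet M b K) : ℤ)) =
      ∑ z : K, if ((z : G) ≠ 1 ∧ ∃ k : ℕ, orderOf (z : G) = p ^ k) then
        chainPhi M p b (Subgroup.centralizer ({(z : G)} : Set G) ⊓ K) else 0 := by
    apply Int.cast_injective (α := ℂ)
    push_cast
    rw [h]
    refine Finset.sum_congr rfl (fun z _ => ?_)
    have hiff : (z ≠ 1 ∧ ∃ k : ℕ, orderOf z = p ^ k) ↔
        ((z : G) ≠ 1 ∧ ∃ k : ℕ, orderOf (z : G) = p ^ k) := by
      rw [Subgroup.orderOf_coe]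
      constructor
      · rintro ⟨h1, h2⟩
        refine ⟨fun h0 => h1 (Subtype.ext h0), h2⟩
      · rintro ⟨h1, h2⟩
        refine ⟨fun h0 => h1 (by rw [h0]; rfl), h2⟩
    by_cases hz : (z ≠ 1 ∧ ∃ k : ℕ, orderOf z = p ^ k)
    · rw [if_pos hz, if_pos (hiff.mp hz),
        ← card_mul_blockRank_sectionSet_eq_chainPhi hM b K z hz.2]
      push_cast
      rfl
    · rw [if_neg hz, if_neg (fun h' => hz (hiff.mpr h'))]
  rw [hZ]
  have hsub := Finset.sum_subtype (F := (inferInstance : Fintype K))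
    (Finset.univ.filter (fun g : G => g ∈ K))
    (p := fun g : G => g ∈ K) (by intro x; simp)
    (fun g : G => if (g ≠ 1 ∧ ∃ k : ℕ, orderOf g = p ^ k) then
        chainPhi M p b (Subgroup.centralizer ({g} : Set G) ⊓ K) else 0)
  rw [Finset.sum_filter] at hsub
  refine Eq.trans ?_ (Eq.trans hsub.symm ?_)
  · refine Finset.sum_congr ?_ (fun z _ => rfl)
    ext; simp
  · refine Finset.sum_congr rfl (fun g _ => ?_)
    by_cases hg : g ∈ K
    · by_cases hg2 : (g ≠ 1 ∧ ∃ k : ℕ, orderOf g = p ^ k)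
      · rw [if_pos hg, if_pos hg2, if_pos ⟨hg, hg2⟩]
      · rw [if_pos hg, if_neg hg2, if_neg (fun h' => hg2 h'.2)]
    · rw [if_neg hg, if_neg (fun h' => hg h'.1)]

end Ambient

end Cfsg.Agent.Helper78
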