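import Mathlib

/-!
# Group-theoretic lemmas for the chain involution (Knörr–Robinson)

`conjClosure T U` is the subgroup generated by the `T`-conjugates of `U`.
-/

set_option autoImplicit false

namespace Cfsg.Agent.Helper78

section ConjClosure

variable {G : Type*} [Group G]

/-- The subgroup generated by the `T`-conjugates of `U`. -/
def conjClosure (T U : Subgroup G) : Subgroup G :=
  Subgroup.closure {g | ∃ t ∈ T, ∃ u ∈ U, g = t * u * t⁻¹}

theorem le_conjClosure (T U : Subgroup G) : U ≤ conjClosure T U := by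
  intro u hu
  exact Subgroup.subset_closure ⟨1, T.one_mem, u, hu, by simp⟩

theorem conjClosure_le {T U R : Subgroup G} (hU : U ≤ R)
    (hT : T ≤ Subgroup.normalizer (R : Set G)) : conjClosure T U ≤ R := by
  unfold conjClosure
  rw [Subgroup.closure_le]
  rintro g ⟨t, ht, u, hu, rfl⟩
  exact (Subgroup.le_normalizer_iff.mp hT) t ht u (hU hu)

theorem conjClosure_le_sup (T U : Subgroup G) : conjClosure T U ≤ T ⊔ U :=
  conjClosure_le le_sup_right (le_sup_left.trans Subgroup.le_normalizer)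

theorem mem_normalizer_iff_map_conj {H : Subgroup G} {g : G} :
    g ∈ Subgroup.normalizer (H : Set G) ↔ H.map (MulAut.conj g).toMonoidHom = H := by
  constructor
  · intro hg
    ext x
    constructor
    · rintro ⟨h, hh, rfl⟩
      exact (Subgroup.mem_normalizer_iff.mp hg h).mp hh
    · intro hx
      refine ⟨g⁻¹ * x * g, ?_, ?_⟩
      · exact (Subgroup.mem_normalizer_iff''.mp hg x).mp hx
      · show g * (g⁻¹ * x * g) * g⁻¹ = x
        group
  · intro hmap
    rw [Subgroup.mem_normalizer_iff]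
    intro h
    constructor
    · intro hh
      rw [← hmap]
      exact ⟨h, hh, rfl⟩
    · intro hh
      rw [← hmap] at hh
      obtain ⟨h', hh', he⟩ := hh
      have : h' = h := by
        have he' : g * h' * g⁻¹ = g * h * g⁻¹ := he
        exact mul_left_cancel (mul_right_cancel he')
      rwa [← this]

theorem mem_normalizer_sup {A B : Subgroup G} {g : G}
    (hA : g ∈ Subgroup.normalizer (A : Set G)) (hB : g ∈ Subgroup.normalizer (B : Set G)) :
    g ∈ Subgroup.normalizer ((A ⊔ B : Subgroup G) : Set G) := by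
  rw [mem_normalizer_iff_map_conj] at hA hB ⊢
  rw [Subgroup.map_sup, hA, hB]

theorem le_normalizer_sup {X A B : Subgroup G}
    (hA : X ≤ Subgroup.normalizer (A : Set G)) (hB : X ≤ Subgroup.normalizer (B : Set G)) :
    X ≤ Subgroup.normalizer ((A ⊔ B : Subgroup G) : Set G) :=
  fun _ hx => mem_normalizer_sup (hA hx) (hB hx)

theorem conj_mem_conjClosure_of_mem {T U : Subgroup G} {c : G}
    (hc : ∀ t ∈ T, ∀ u ∈ U, ∃ t' ∈ T, ∃ u' ∈ U, c * (t * u * t⁻¹) * c⁻¹ = t' * u' * t'⁻¹)
    {h : G} (hh : h ∈ conjClosure T U) : c * h * c⁻¹ ∈ conjClosure T U := by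
  unfold conjClosure at hh ⊢
  induction hh using Subgroup.closure_induction with
  | mem x hx =>
    obtain ⟨t, ht, u, hu, rfl⟩ := hx
    obtain ⟨t', ht', u', hu', he⟩ := hc t ht u hu
    rw [he]
    exact Subgroup.subset_closure ⟨t', ht', u', hu', rfl⟩
  | one => simp
  | mul x y _ _ hx hy =>
    have : c * (x * y) * c⁻¹ = (c * x * c⁻¹) * (c * y * c⁻¹) := by group
    rw [this]
    exact Subgroup.mul_mem _ hx hy
  | inv x _ hx =>
    have : c * x⁻¹ * c⁻¹ = (c * x * c⁻¹)⁻¹ := by group
    rw [this]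
    exact Subgroup.inv_mem _ hx

theorem mem_normalizer_conjClosure {T U : Subgroup G} {c : G}
    (hT : c ∈ Subgroup.normalizer (T : Set G)) (hU : c ∈ Subgroup.normalizer (U : Set G)) :
    c ∈ Subgroup.normalizer ((conjClosure T U : Subgroup G) : Set G) := by
  have key : ∀ d : G, d ∈ Subgroup.normalizer (T : Set G) → d ∈ Subgroup.normalizer (U : Set G) →
      ∀ h ∈ conjClosure T U, d * h * d⁻¹ ∈ conjClosure T U := by
    intro d hdT hdU h hh
    refine conj_mem_conjClosure_of_mem (fun t ht u hu => ?_) hh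
    refine ⟨d * t * d⁻¹, (Subgroup.mem_normalizer_iff.mp hdT t).mp ht, d * u * d⁻¹,
      (Subgroup.mem_normalizer_iff.mp hdU u).mp hu, ?_⟩
    group
  rw [Subgroup.mem_normalizer_iff]
  intro h
  constructor
  · exact key c hT hU h
  · intro hh
    have := key c⁻¹ (Subgroup.inv_mem _ hT) (Subgroup.inv_mem _ hU) _ hh
    have e : c⁻¹ * (c * h * c⁻¹) * c⁻¹⁻¹ = h := by group
    rwa [e] at this

theorem le_normalizer_conjClosure (T U : Subgroup G) :
    T ≤ Subgroup.normalizer ((conjClosure T U : Subgroup G) : Set G) := by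
  have key : ∀ d ∈ T, ∀ h ∈ conjClosure T U, d * h * d⁻¹ ∈ conjClosure T U := by
    intro d hd h hh
    refine conj_mem_conjClosure_of_mem (fun t ht u hu => ?_) hh
    refine ⟨d * t, T.mul_mem hd ht, u, hu, ?_⟩
    group
  intro c hc
  rw [Subgroup.mem_normalizer_iff]
  intro h
  constructor
  · exact key c hc h
  · intro hh
    have := key c⁻¹ (T.inv_mem hc) _ hh
    have e : c⁻¹ * (c * h * c⁻¹) * c⁻¹⁻¹ = h := by group
    rwa [e] at this

theorem conjClosure_le_of_le {T U : Subgroup G} (hU : U ≤ T) : conjClosure T U ≤ T :=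
  conjClosure_le hU Subgroup.le_normalizer

end ConjClosure

section PGroup

variable {G : Type*} [Group G] [Finite G]

/-- In a finite `p`-group `T`, if `Q ⊴ T` and `Q` together with the `T`-conjugates of `U`
generates `T`, then already `Q ⊔ U = T`. -/
theorem sup_eq_of_sup_conjClosure_eq {p : ℕ} [Fact p.Prime] {T Q U : Subgroup G}
    (hT : IsPGroup p T) (hQT : Q ≤ T) (hTQ : T ≤ Subgroup.normalizer (Q : Set G))
    (hUT : U ≤ T) (h : Q ⊔ conjClosure T U = T) : Q ⊔ U = T := by
  classical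
  by_contra hne
  have hM₀T : Q ⊔ U ≤ T := sup_le hQT hUT
  have hM₀' : (Q ⊔ U).subgroupOf T ≠ ⊤ := by
    intro htop
    rw [Subgroup.subgroupOf_eq_top] at htop
    exact hne (le_antisymm hM₀T htop)
  haveI : Group.IsNilpotent ↥T := hT.isNilpotent
  obtain hM | ⟨M', hM'co, hM'le⟩ := eq_top_or_exists_le_coatom ((Q ⊔ U).subgroupOf T)
  · exact hM₀' hM
  haveI hM'n : M'.Normal :=
    Subgroup.NormalizerCondition.normal_of_coatom M' Group.normalizerCondition_of_isNilpotent hM'co
  set M : Subgroup G := M'.map T.subtype with hMdef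
  have hMT : M ≤ T := Subgroup.map_subtype_le M'
  have hM₀M : Q ⊔ U ≤ M := by
    intro x hx
    have hxT : x ∈ T := hM₀T hx
    refine ⟨⟨x, hxT⟩, hM'le ?_, rfl⟩
    rw [Subgroup.mem_subgroupOf]
    exact hx
  have hTM : T ≤ Subgroup.normalizer (M : Set G) := by
    rw [Subgroup.le_normalizer_iff]
    rintro t ht _ ⟨m, hm, rfl⟩
    refine ⟨⟨t, ht⟩ * m * ⟨t, ht⟩⁻¹, hM'n.conj_mem m hm ⟨t, ht⟩, ?_⟩
    simp
  have hVM : conjClosure T U ≤ M := conjClosure_le (le_sup_right.trans hM₀M) hTM
  have hTleM : T ≤ M := by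
    rw [← h]
    exact sup_le (le_sup_left.trans hM₀M) hVM
  apply hM'co.1
  rw [eq_top_iff]
  intro x _
  obtain ⟨m, hm, hmx⟩ := hTleM x.2
  have : m = x := Subtype.ext hmx
  rwa [← this]

end PGroup

end Cfsg.Agent.Helper78
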