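import Cfsg.Agent.Helper78.UnionRank
import Cfsg.Agent.Helper16.SecondMainChar
import Cfsg.Agent.Helper77.MaxPair
import Cfsg.Agent.Helper78.InducedTrans

/-!
# Section expansion of `k(A) - l(A)` for a union of blocks

`|H| (k(A) - l(A)) = ∑_{z ≠ 1 p-element} |C_H(z)| l(A^{(z)})`, where `A^{(z)}` is the set of
characters of `C_H(z)` in blocks inducing into `A`.
-/

set_option autoImplicit false
set_option linter.unusedSectionVars false
set_option linter.unusedVariables false

namespace Cfsg.Agent.Helper78

open Cfsg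
open scoped ComplexConjugate

section Sections

variable {H : Type*} [Group H] [Fintype H] {M : Ideal AlgInt} {p : ℕ}

theorem pPartOf_eq_one_iff [hp : Fact p.Prime] (x : H) :
    Helper16.pPartOf p x = 1 ↔ ¬ p ∣ orderOf x := by
  rw [Helper16.pPartOf_eq_iff]
  constructor
  · rintro ⟨y, hy, -, -, hyo⟩
    rw [one_mul] at hy
    rwa [← hy]
  · intro h
    exact ⟨x, one_mul x, Commute.one_left x, ⟨0, by simp⟩, h⟩

/-- The characters of `C_H(z)` lying in blocks that induce into `A`. -/
def sectionSet (M : Ideal AlgInt) (A : Set (IrrCharacter H)) (z : H) :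
    Set (IrrCharacter (Subgroup.centralizer ({z} : Set H))) :=
  {ψ | ∃ b : Set (IrrCharacter (Subgroup.centralizer ({z} : Set H))), ψ ∈ b ∧
    ∃ B : Set (IrrCharacter H), B ⊆ A ∧
      IsInducedBlock M (Subgroup.centralizer ({z} : Set H)) b B}

theorem isBlockClosed_sectionSet [hMp : M.IsPrime] (A : Set (IrrCharacter H)) (z : H)
    [Fintype (Subgroup.centralizer ({z} : Set H))] :
    IsBlockClosed M (sectionSet M A z) := by
  rintro ψ ⟨b, hψb, B, hBA, hind⟩ ψ' hsame
  refine ⟨b, ?_, B, hBA, hind⟩
  rw [isPBlock_eq_blockOf_of_mem hMp hind.1 hψb]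
  exact hsame

open Classical in
/-- The indicator of `sectionSet` as a double sum over blocks. -/
theorem sum_sum_indicator_sectionSet [hMp : M.IsPrime] (A : Set (IrrCharacter H)) (z : H)
    [Fintype (Subgroup.centralizer ({z} : Set H))]
    (χ : IrrCharacter (Subgroup.centralizer ({z} : Set H))) :
    ∑ B ∈ (Helper77.blocksFinset M H).filter (fun B => B ⊆ A),
      ∑ b ∈ (Helper77.blocksFinset M (Subgroup.centralizer ({z} : Set H))).filter
        (fun b => IsInducedBlock M (Subgroup.centralizer ({z} : Set H)) b B),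
        (if χ ∈ b then (1 : ℂ) else 0) =
      if χ ∈ sectionSet M A z then (1 : ℂ) else 0 := by
  by_cases hχ : χ ∈ sectionSet M A z
  · rw [if_pos hχ]
    obtain ⟨b₀, hχb₀, B₀, hB₀A, hind₀⟩ := hχ
    have huniq : ∀ B : Set (IrrCharacter H),
        ∀ b ∈ (Helper77.blocksFinset M (Subgroup.centralizer ({z} : Set H))).filter
          (fun b => IsInducedBlock M (Subgroup.centralizer ({z} : Set H)) b B), χ ∈ b →
          b = b₀ ∧ B = B₀ := by
      intro B b hb hχb
      rw [Finset.mem_filter] at hb
      have e : b = b₀ := isPBlock_eq_of_mem_of_mem hMp hb.2.1 hind₀.1 hχb hχb₀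
      refine ⟨e, ?_⟩
      have h2 := hb.2
      rw [e] at h2
      exact Helper77.isInducedBlock_unique _ h2 hind₀
    rw [Finset.sum_eq_single B₀]
    · rw [Finset.sum_eq_single b₀]
      · rw [if_pos hχb₀]
      · intro b hb hne
        rw [if_neg]
        intro hχb
        exact hne (huniq B₀ b hb hχb).1
      · intro hn
        exfalso
        apply hn
        rw [Finset.mem_filter, Helper77.mem_blocksFinset]
        exact ⟨hind₀.1, hind₀⟩
    · intro B hB hne
      refine Finset.sum_eq_zero (fun b hb => ?_)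
      rw [if_neg]
      intro hχb
      exact hne (huniq B b hb hχb).2
    · intro hn
      exfalso
      apply hn
      rw [Finset.mem_filter, Helper77.mem_blocksFinset]
      exact ⟨hind₀.2.1, hB₀A⟩
  · rw [if_neg hχ]
    refine Finset.sum_eq_zero (fun B hB => ?_)
    refine Finset.sum_eq_zero (fun b hb => ?_)
    rw [Finset.mem_filter] at hB hb
    rw [if_neg]
    intro hχb
    exact hχ ⟨b, hχb, B, hB.2, hb.2⟩

open Classical in
/-- The norm sum of a union of blocks at `z y` is the norm sum at `y` of the blocks of `C_H(z)`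
inducing into it. -/
theorem normSum_shift [Fact p.Prime] (hM : IsPModular p M) {A : Set (IrrCharacter H)}
    (hA : IsBlockClosed M A) (z : H) (hz : ∃ k : ℕ, orderOf z = p ^ k)
    [Fintype (Subgroup.centralizer ({z} : Set H))]
    (y : Subgroup.centralizer ({z} : Set H)) (hy : ¬ p ∣ orderOf y) :
    normSum A (z * (y : H)) = normSum (sectionSet M A z) y := by
  haveI hMp : M.IsPrime := hM.2.1.isPrime
  have e1 : normSum A (z * (y : H)) = ∑ ζ : IrrCharacter H, (if ζ ∈ A then
      ((ζ : H → ℂ) (z * (y : H)) * conj ((ζ : H → ℂ) (z * (y : H)))) else 0) := by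
    unfold normSum
    refine Finset.sum_congr rfl (fun ζ _ => ?_)
    rw [ite_mul, one_mul, zero_mul]
  rw [e1, sum_ite_closed hA]
  have e2 : ∀ B ∈ (Helper77.blocksFinset M H).filter (fun B => B ⊆ A),
      ∑ ζ : IrrCharacter H, (if ζ ∈ B then
        ((ζ : H → ℂ) (z * (y : H)) * conj ((ζ : H → ℂ) (z * (y : H)))) else 0) =
      ∑ b ∈ (Helper77.blocksFinset M (Subgroup.centralizer ({z} : Set H))).filter
          (fun b => IsInducedBlock M (Subgroup.centralizer ({z} : Set H)) b B),
        ∑ χ : IrrCharacter (Subgroup.centralizer ({z} : Set H)),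
          (if χ ∈ b then (1 : ℂ) else 0) *
          ((χ : Subgroup.centralizer ({z} : Set H) → ℂ) y *
            conj ((χ : Subgroup.centralizer ({z} : Set H) → ℂ) y)) := by
    intro B hB
    rw [Finset.mem_filter, Helper77.mem_blocksFinset] at hB
    rw [← Helper16.block_norm_sum_eq hM z hz hB.1 y hy]
    refine Finset.sum_congr rfl (fun ζ _ => ?_)
    rw [ite_mul, one_mul, zero_mul]
  rw [Finset.sum_congr rfl e2]
  unfold normSum
  have e3 : ∀ B ∈ (Helper77.blocksFinset M H).filter (fun B => B ⊆ A),
      ∑ b ∈ (Helper77.blocksFinset M (Subgroup.centralizer ({z} : Set H))).filter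
          (fun b => IsInducedBlock M (Subgroup.centralizer ({z} : Set H)) b B),
        ∑ χ : IrrCharacter (Subgroup.centralizer ({z} : Set H)),
          (if χ ∈ b then (1 : ℂ) else 0) *
          ((χ : Subgroup.centralizer ({z} : Set H) → ℂ) y *
            conj ((χ : Subgroup.centralizer ({z} : Set H) → ℂ) y)) =
      ∑ χ : IrrCharacter (Subgroup.centralizer ({z} : Set H)),
        ∑ b ∈ (Helper77.blocksFinset M (Subgroup.centralizer ({z} : Set H))).filter
          (fun b => IsInducedBlock M (Subgroup.centralizer ({z} : Set H)) b B),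
          (if χ ∈ b then (1 : ℂ) else 0) *
          ((χ : Subgroup.centralizer ({z} : Set H) → ℂ) y *
            conj ((χ : Subgroup.centralizer ({z} : Set H) → ℂ) y)) := by
    intro B _
    rw [Finset.sum_comm]
  rw [Finset.sum_congr rfl e3, Finset.sum_comm]
  refine Finset.sum_congr rfl (fun χ _ => ?_)
  rw [← sum_sum_indicator_sectionSet (M := M) A z χ, Finset.sum_mul]
  refine Finset.sum_congr rfl (fun B _ => ?_)
  rw [Finset.sum_mul]

open Classical in
/-- Partition of the `p`-singular elements by their `p`-parts. -/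
theorem sum_pSingular_eq_sum_pParts [hp : Fact p.Prime] (N : H → ℂ) :
    ∑ x : H, (if p ∣ orderOf x then N x else 0) =
      ∑ z : H, if (z ≠ 1 ∧ ∃ k : ℕ, orderOf z = p ^ k) then
        ∑ x : H, (if Helper16.pPartOf p x = z then N x else 0) else 0 := by
  have e1 : ∀ z : H, (if (z ≠ 1 ∧ ∃ k : ℕ, orderOf z = p ^ k) then
        ∑ x : H, (if Helper16.pPartOf p x = z then N x else 0) else 0) =
      ∑ x : H, (if (z ≠ 1 ∧ ∃ k : ℕ, orderOf z = p ^ k) then
        (if Helper16.pPartOf p x = z then N x else 0) else 0) := by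
    intro z
    by_cases hz : (z ≠ 1 ∧ ∃ k : ℕ, orderOf z = p ^ k)
    · simp only [if_pos hz]
    · simp only [if_neg hz, Finset.sum_const_zero]
  rw [Finset.sum_congr rfl (fun z _ => e1 z), Finset.sum_comm]
  refine Finset.sum_congr rfl (fun x _ => ?_)
  rw [Finset.sum_eq_single (Helper16.pPartOf p x)]
  · rw [if_pos rfl]
    by_cases hx : p ∣ orderOf x
    · rw [if_pos hx, if_pos]
      refine ⟨?_, Helper16.pPartOf_orderOf x⟩
      intro h1
      exact (pPartOf_eq_one_iff x).mp h1 hx
    · rw [if_neg hx, if_neg]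
      rintro ⟨h1, -⟩
      exact h1 ((pPartOf_eq_one_iff x).mpr hx)
  · intro z _ hne
    rw [if_neg (Ne.symm hne), ite_self]
  · intro h; exact absurd (Finset.mem_univ _) h

open Classical in
/-- **Section expansion of `k(A) - l(A)`.** -/
theorem card_sub_blockRank_eq_sections [Fact p.Prime] (hM : IsPModular p M)
    {A : Set (IrrCharacter H)} (hA : IsBlockClosed M A) :
    (Nat.card H : ℂ) * ((Nat.card A : ℂ) - (blockRank p A : ℂ)) =
      ∑ z : H, if (z ≠ 1 ∧ ∃ k : ℕ, orderOf z = p ^ k) then
        (Nat.card (Subgroup.centralizer ({z} : Set H)) : ℂ) *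
          (blockRank p (sectionSet M A z) : ℂ) else 0 := by
  haveI hMp : M.IsPrime := hM.2.1.isPrime
  rw [card_mul_card_sub_blockRank_closed hM hA, sum_pSingular_eq_sum_pParts]
  refine Finset.sum_congr rfl (fun z _ => ?_)
  by_cases hz : (z ≠ 1 ∧ ∃ k : ℕ, orderOf z = p ^ k)
  · rw [if_pos hz, if_pos hz]
    haveI : Fintype (Subgroup.centralizer ({z} : Set H)) := Fintype.ofFinite _
    rw [Helper16.sum_pPartOf_eq z hz.2,
      card_mul_blockRank_closed hM (isBlockClosed_sectionSet (M := M) A z)]
    refine Finset.sum_congr rfl (fun y _ => ?_)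
    by_cases hy : p ∣ orderOf y
    · rw [if_neg (not_not.mpr hy), if_neg (not_not.mpr hy)]
    · rw [if_pos hy, if_pos hy]
      exact normSum_shift hM hA z hz.2 y hy
  · rw [if_neg hz, if_neg hz]

end Sections

end Cfsg.Agent.Helper78
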