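import Cfsg.Agent.Helper78.IrrTransport
import Cfsg.Agent.Helper78.IrrBasic
import Cfsg.Agent.Helper79.ClassMult
import Cfsg.Agent.Helper15.IndFun
import Cfsg.Agent.Helper74.CharBasic

/-!
# Brauer's column inner product formula for the principal block

Finite-sum bookkeeping deducing the column formula from block orthogonality and the norm formula
`∑_{ζ ∈ B₀(G)} |ζ(z)|² = ∑_{ψ ∈ B₀(C_G(z))} ψ(1)²`.
-/

set_option autoImplicit false
set_option linter.unusedSectionVars false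
set_option linter.unusedVariables false

namespace Cfsg.Agent.Helper78

open Cfsg
open scoped ComplexConjugate

universe u

section Count

variable {G : Type u} [Group G]

theorem isPPart_self_of_orderOf {p : ℕ} (hp : p.Prime) {x : G} (hx : ∃ k : ℕ, orderOf x = p ^ k) :
    IsPPart p x x :=
  ⟨1, mul_one x, Commute.one_right x, hx, by rw [orderOf_one]; exact hp.not_dvd_one⟩

open Classical in
/-- Number of elements of `N` conjugating `u` to `v`. -/
theorem card_conjugators (N : Subgroup G) [Finite G] (u v : G) :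
    Nat.card {x : N // (x : G) * u * (x : G)⁻¹ = v} =
      if ∃ n ∈ N, n * u * n⁻¹ = v then Nat.card ↥(N ⊓ Subgroup.centralizer ({u} : Set G)) else 0 := by
  classical
  split_ifs with h
  · obtain ⟨n, hn, hnv⟩ := h
    refine Nat.card_congr ⟨fun x => ⟨n⁻¹ * (x : N), ?_⟩, fun c => ⟨⟨n * (c : G), ?_⟩, ?_⟩, ?_, ?_⟩
    · rw [Subgroup.mem_inf, Subgroup.mem_centralizer_singleton_iff]
      refine ⟨N.mul_mem (N.inv_mem hn) x.1.2, ?_⟩
      have hx := x.2
      have h1 : ((x : N) : G) * u = v * ((x : N) : G) := by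
        calc ((x : N) : G) * u = (((x : N) : G) * u * ((x : N) : G)⁻¹) * ((x : N) : G) := by group
          _ = v * ((x : N) : G) := by rw [hx]
      have h2 : n * u = v * n := by rw [← hnv]; group
      have h3 : u * n⁻¹ = n⁻¹ * v := by
        have : n⁻¹ * (n * u) * n⁻¹ = n⁻¹ * (v * n) * n⁻¹ := by rw [h2]
        simpa [mul_assoc] using this
      calc n⁻¹ * ((x : N) : G) * u = n⁻¹ * (((x : N) : G) * u) := by group
        _ = n⁻¹ * (v * ((x : N) : G)) := by rw [h1]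
        _ = (n⁻¹ * v) * ((x : N) : G) := by group
        _ = (u * n⁻¹) * ((x : N) : G) := by rw [h3]
        _ = u * (n⁻¹ * ((x : N) : G)) := by group
    · exact N.mul_mem hn (Subgroup.mem_inf.mp c.2).1
    · have hc := (Subgroup.mem_inf.mp c.2).2
      rw [Subgroup.mem_centralizer_singleton_iff] at hc
      show n * (c : G) * u * (n * (c : G))⁻¹ = v
      calc n * (c : G) * u * (n * (c : G))⁻¹ = n * ((c : G) * u) * (c : G)⁻¹ * n⁻¹ := by group
        _ = n * (u * (c : G)) * (c : G)⁻¹ * n⁻¹ := by rw [hc]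
        _ = n * u * n⁻¹ := by group
        _ = v := hnv
    · intro x
      apply Subtype.ext
      apply Subtype.ext
      show n * (n⁻¹ * ((x : N) : G)) = ((x : N) : G)
      group
    · intro c
      apply Subtype.ext
      show n⁻¹ * (n * (c : G)) = (c : G)
      group
  · rw [Nat.card_eq_zero]
    left
    refine ⟨fun x => h ⟨(x : N), x.1.2, x.2⟩⟩

end Count

section Column

variable {G : Type u} [Group G] [Fintype G] {M : Ideal AlgInt} {p : ℕ}

/-- Reindexing of the coefficient `a_χ(θ)`. -/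
theorem sum_char_mul_inv (P : Subgroup G) [Fintype P] (χ : G → ℂ) (θ : P → ℂ) :
    ∑ y : P, χ (y : G) * θ y⁻¹ = ∑ u : P, θ u * χ ((u : G)⁻¹) := by
  refine Fintype.sum_equiv (Equiv.inv P) _ _ (fun y => ?_)
  simp only [Equiv.inv_apply, Subgroup.coe_inv, inv_inv]
  ring

/-- The sum over `N`-conjugates in terms of the fusion-controlled class. -/
theorem sum_extendByZero_conj (P N : Subgroup G) [Fintype P] [Fintype N] (U : Set G)
    (hUP : U ⊆ (P : Set G)) (hUN : ∀ n ∈ N, ∀ u ∈ U, n * u * n⁻¹ ∈ U)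
    (hfus : ∀ u ∈ U, ∀ g : G, g * u * g⁻¹ ∈ (P : Set G) → ∃ n ∈ N, n * u * n⁻¹ = g * u * g⁻¹)
    (η : P → ℂ) (u : G) (hu : u ∈ U) :
    ∑ x : N, extendByZero P η ((x : G) * u * (x : G)⁻¹) =
      (Nat.card ↥(N ⊓ Subgroup.centralizer ({u} : Set G)) : ℂ) *
        ∑ v : P, (by classical exact if IsConj (v : G) u then η v else 0) := by
  classical
  have h1 : ∀ x : N, extendByZero P η ((x : G) * u * (x : G)⁻¹) =
      ∑ v : P, if (x : G) * u * (x : G)⁻¹ = (v : G) then η v else 0 := by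
    intro x
    have hx : (x : G) * u * (x : G)⁻¹ ∈ P := hUP (hUN x x.2 u hu)
    rw [Helper15.extendByZero_of_mem P η hx, Finset.sum_eq_single ⟨_, hx⟩]
    · simp
    · intro v _ hv
      rw [if_neg]
      intro h
      exact hv (Subtype.ext h.symm)
    · intro h; exact absurd (Finset.mem_univ _) h
  simp_rw [h1]
  rw [Finset.sum_comm, Finset.mul_sum]
  refine Finset.sum_congr rfl (fun v _ => ?_)
  have h2 : ∑ x : N, (if (x : G) * u * (x : G)⁻¹ = (v : G) then η v else 0) =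
      (Nat.card {x : N // (x : G) * u * (x : G)⁻¹ = (v : G)} : ℂ) * η v := by
    rw [← Finset.sum_filter, Finset.sum_const, Nat.card_eq_fintype_card, Fintype.card_subtype]
    simp
  rw [h2, card_conjugators N u (v : G)]
  by_cases hc : IsConj (v : G) u
  · have hex : ∃ n ∈ N, n * u * n⁻¹ = (v : G) := by
      obtain ⟨g, hg⟩ := isConj_iff.mp hc.symm
      have hgP : g * u * g⁻¹ ∈ (P : Set G) := by rw [hg]; exact v.2
      obtain ⟨n, hn, hnu⟩ := hfus u hu g hgP
      exact ⟨n, hn, by rw [hnu, hg]⟩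
    rw [if_pos hex, if_pos hc]
  · have hex : ¬ ∃ n ∈ N, n * u * n⁻¹ = (v : G) := by
      rintro ⟨n, _, hn⟩
      exact hc (isConj_iff.mpr ⟨n, hn⟩).symm
    rw [if_neg hex, if_neg hc]
    simp

/-- **Brauer's column formula**, from an orthogonality relation and a norm formula for a finite
set `B` of irreducible characters. -/
theorem column_formula (B : Finset (IrrCharacter G)) (P N : Subgroup G) [Fintype P] [Fintype N]
    (U : Set G) (hUP : U ⊆ (P : Set G)) (hUN : ∀ n ∈ N, ∀ u ∈ U, n * u * n⁻¹ ∈ U)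
    (hfus : ∀ u ∈ U, ∀ g : G, g * u * g⁻¹ ∈ (P : Set G) → ∃ n ∈ N, n * u * n⁻¹ = g * u * g⁻¹)
    (w : ℂ)
    (hOrth : ∀ u ∈ U, ∀ v ∈ P, ¬ IsConj v u →
      ∑ χ ∈ B, (χ : G → ℂ) v * (χ : G → ℂ) u⁻¹ = 0)
    (hNorm : ∀ u ∈ U, ∑ χ ∈ B, (χ : G → ℂ) u * (χ : G → ℂ) u⁻¹ =
      w * (Nat.card ↥(N ⊓ Subgroup.centralizer ({u} : Set G)) : ℂ))
    (θ η : P → ℂ) (hθU : ∀ y : P, (y : G) ∉ U → θ y = 0) :
    ∑ χ ∈ B, ((Nat.card P : ℂ)⁻¹ * ∑ y : P, (χ : G → ℂ) (y : G) * θ y⁻¹) *
        conj ((Nat.card P : ℂ)⁻¹ * ∑ y : P, (χ : G → ℂ) (y : G) * η y⁻¹) =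
      (w / ((Nat.card P : ℂ) ^ 2)) *
        ∑ y : P, θ y * conj (∑ x : N, extendByZero P η ((x : G) * (y : G) * (x : G)⁻¹)) := by
  classical
  -- rewrite each term
  have hterm : ∀ χ : IrrCharacter G,
      ((Nat.card P : ℂ)⁻¹ * ∑ y : P, (χ : G → ℂ) (y : G) * θ y⁻¹) *
        conj ((Nat.card P : ℂ)⁻¹ * ∑ y : P, (χ : G → ℂ) (y : G) * η y⁻¹) =
      ((Nat.card P : ℂ) ^ 2)⁻¹ * ∑ u : P, ∑ v : P,
        θ u * conj (η v) * ((χ : G → ℂ) (v : G) * (χ : G → ℂ) (u : G)⁻¹) := by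
    intro χ
    rw [sum_char_mul_inv P _ θ, sum_char_mul_inv P _ η, map_mul, map_inv₀, Complex.conj_natCast,
      map_sum]
    have h2 : ∀ v : P, conj (η v * (χ : G → ℂ) ((v : G)⁻¹)) = conj (η v) * (χ : G → ℂ) (v : G) := by
      intro v
      rw [map_mul, Helper79.irr_inv χ (v : G), Complex.conj_conj]
    simp_rw [h2]
    rw [show (Nat.card P : ℂ)⁻¹ * (∑ u : P, θ u * (χ : G → ℂ) ((u : G)⁻¹)) *
        ((Nat.card P : ℂ)⁻¹ * ∑ v : P, conj (η v) * (χ : G → ℂ) (v : G)) =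
        ((Nat.card P : ℂ) ^ 2)⁻¹ * ((∑ u : P, θ u * (χ : G → ℂ) ((u : G)⁻¹)) *
          ∑ v : P, conj (η v) * (χ : G → ℂ) (v : G)) by
      rw [pow_two, mul_inv]; ring]
    rw [Finset.sum_mul_sum]
    congr 1
    refine Finset.sum_congr rfl (fun u _ => Finset.sum_congr rfl (fun v _ => ?_))
    ring
  simp_rw [hterm]
  rw [← Finset.mul_sum, Finset.sum_comm]
  rw [show w / ((Nat.card P : ℂ) ^ 2) = ((Nat.card P : ℂ) ^ 2)⁻¹ * w by rw [div_eq_mul_inv, mul_comm],
    mul_assoc]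
  congr 1
  rw [Finset.mul_sum]
  refine Finset.sum_congr rfl (fun u _ => ?_)
  rw [Finset.sum_comm]
  simp_rw [← Finset.mul_sum]
  by_cases hu : (u : G) ∈ U
  · rw [sum_extendByZero_conj P N U hUP hUN hfus η (u : G) hu, map_mul, Complex.conj_natCast,
      map_sum]
    have hK : ∀ v : P, ∑ χ ∈ B, (χ : G → ℂ) (v : G) * (χ : G → ℂ) (u : G)⁻¹ =
        if IsConj (v : G) (u : G) then
          w * (Nat.card ↥(N ⊓ Subgroup.centralizer ({(u : G)} : Set G)) : ℂ) else 0 := by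
      intro v
      by_cases hc : IsConj (v : G) (u : G)
      · rw [if_pos hc, ← hNorm (u : G) hu]
        refine Finset.sum_congr rfl (fun χ _ => ?_)
        obtain ⟨g, hg⟩ := isConj_iff.mp hc.symm
        rw [← hg, Helper79.irr_isClassFunction χ]
      · rw [if_neg hc]
        exact hOrth (u : G) hu (v : G) v.2 hc
    simp_rw [hK]
    rw [Finset.mul_sum, Finset.mul_sum, Finset.mul_sum]
    refine Finset.sum_congr rfl (fun v _ => ?_)
    by_cases hc : IsConj (v : G) (u : G)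
    · rw [if_pos hc, if_pos hc]
      ring
    · rw [if_neg hc, if_neg hc]
      simp
  · rw [hθU u hu]
    simp

end Column

section Norm

variable {G : Type u} [Group G] [Finite G]

/-- The group `C_G(1)` is `G`. -/
def centralizerOneEquiv (G : Type u) [Group G] : Subgroup.centralizer ({1} : Set G) ≃* G where
  toFun := Subtype.val
  invFun g := ⟨g, by rw [Subgroup.mem_centralizer_singleton_iff]; simp⟩
  left_inv _ := rfl
  right_inv _ := rfl
  map_mul' _ _ := rfl

/-- The degree-square sum of the principal block of `C_G(1)` is that of `G`. -/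
theorem sum_norm_sq_principalBlock_centralizer_one (M : Ideal AlgInt) :
    ∑ᶠ ζ ∈ principalBlock M G, ‖(ζ : G → ℂ) 1‖ ^ 2 =
      ∑ᶠ χ ∈ principalBlock M (Subgroup.centralizer ({1} : Set G)),
        ‖(χ : Subgroup.centralizer ({1} : Set G) → ℂ) 1‖ ^ 2 := by
  symm
  refine finsum_mem_eq_of_bijOn (irrMap (centralizerOneEquiv G))
    (bijOn_irrMap_principalBlock M (centralizerOneEquiv G)) (fun χ _ => ?_)
  rw [irrMap_apply, map_one]

/-- Passing from the rational degree-square sum to the complex norm-square sum. -/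
theorem norm_formula_cast {H : Type u} [Group H] [Finite H] (S : Set (IrrCharacter H)) (w : ℚ)
    (n : ℕ) (h : ∑ᶠ ψ ∈ S, ((charDegree (ψ : H → ℂ) : ℚ)) ^ 2 = w * n) :
    ((∑ᶠ χ ∈ S, ‖(χ : H → ℂ) 1‖ ^ 2 : ℝ) : ℂ) = (w : ℂ) * n := by
  classical
  haveI : Finite (IrrCharacter H) := Helper74.irr_finite
  have hS : S.Finite := Set.toFinite S
  rw [finsum_mem_eq_finite_toFinset_sum _ hS] at h ⊢
  have h' : ((∑ ψ ∈ hS.toFinset, ((charDegree (ψ : H → ℂ) : ℚ)) ^ 2 : ℚ) : ℂ) = ((w * n : ℚ) : ℂ) := by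
    rw [h]
  push_cast at h'
  rw [← h']
  push_cast
  refine Finset.sum_congr rfl (fun χ _ => ?_)
  rw [irrChar_one_eq_charDegree χ.2, Complex.norm_natCast]
  push_cast
  rfl

/-- `χ(u) χ(u⁻¹) = |χ(u)|²`. -/
theorem irr_mul_inv_eq_norm_sq (χ : IrrCharacter G) (u : G) :
    (χ : G → ℂ) u * (χ : G → ℂ) u⁻¹ = ((‖(χ : G → ℂ) u‖ ^ 2 : ℝ) : ℂ) := by
  haveI : Fintype G := Fintype.ofFinite G
  rw [Helper79.irr_inv χ u, Complex.mul_conj, Complex.normSq_eq_norm_sq]

end Norm

end Cfsg.Agent.Helper78
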