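import Cfsg.Agent.Helper78.ColumnVanish
import Cfsg.Agent.Helper80.CharLevel
import Cfsg.Agent.Helper16.PrincipalSection
import Cfsg.Agent.Helper15.IndChar

/-!
# Brauer's sign argument for the principal block columns

From the three relations `∑ a_χ χ(1) = ∑ a_χ χ(t) = ∑ a_χ χ(t)²/χ(1) = 0` over the principal
block, with `a_1 ≠ 0` real: either at least two `a_χ` have positive and at least two negative real
part, or `t` lies in a proper normal subgroup containing `O_{p'}(G)`.
-/

set_option autoImplicit false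
set_option linter.unusedSectionVars false
set_option linter.unusedVariables false

namespace Cfsg.Agent.Helper78

open Cfsg
open scoped ComplexConjugate

universe u

section Signs

variable {G : Type u} [Group G] [Fintype G] {M : Ideal AlgInt} {p : ℕ}

/-- The value of an irreducible character at an involution is real. -/
theorem irr_invol_eq_ofReal (χ : IrrCharacter G) {t : G} (htt : t⁻¹ = t) :
    (χ : G → ℂ) t = (((χ : G → ℂ) t).re : ℂ) := by
  have h := Helper79.irr_inv χ t
  rw [htt] at h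
  exact (Complex.conj_eq_iff_re.mp h.symm).symm

/-- The average of a generalized character is real. -/
theorem genChar_average_im (P : Type u) [Group P] [Fintype P] (θ : P → ℂ)
    (hθ : IsGeneralizedCharacter P θ) :
    ((Nat.card P : ℂ)⁻¹ * ∑ y : P, θ y).im = 0 := by
  obtain ⟨ψ₁, ψ₂, h₁, h₂, rfl⟩ := hθ
  have hone : IsCharacter P (fun _ : P => (1 : ℂ)) :=
    Helper74.irr_isCharacter (Helper79.principalIrr P)
  obtain ⟨m₁, hm₁⟩ := Helper15.isCharacter_inner_nat h₁ hone
  obtain ⟨m₂, hm₂⟩ := Helper15.isCharacter_inner_nat h₂ hone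
  unfold classInner at hm₁ hm₂
  simp only [map_one, mul_one] at hm₁ hm₂
  simp only [Pi.sub_apply, Finset.sum_sub_distrib, mul_sub, hm₁, hm₂]
  simp

/-- **Brauer's sign dichotomy.** -/
theorem sign_dichotomy [Fact p.Prime] (hM : IsPModular p M) (t : G) (htt : t⁻¹ = t)
    (a : IrrCharacter G → ℂ)
    (h1 : ∑ χ ∈ (Set.toFinite (principalBlock M G)).toFinset, a χ * (χ : G → ℂ) 1 = 0)
    (h2 : ∑ χ ∈ (Set.toFinite (principalBlock M G)).toFinset, a χ * (χ : G → ℂ) t = 0)
    (h3 : ∑ χ ∈ (Set.toFinite (principalBlock M G)).toFinset,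
      a χ * ((χ : G → ℂ) t ^ 2 / (χ : G → ℂ) 1) = 0)
    (ha0 : a (Helper79.principalIrr G) ≠ 0) (ha0im : (a (Helper79.principalIrr G)).im = 0) :
    (2 ≤ Nat.card {χ : IrrCharacter G // χ ∈ principalBlock M G ∧ 0 < (a χ).re} ∧
      2 ≤ Nat.card {χ : IrrCharacter G // χ ∈ principalBlock M G ∧ (a χ).re < 0}) ∨
    ∃ K : Subgroup G, K.Normal ∧ K ≠ ⊤ ∧ Cfsg.pPrimeCore p G ≤ K ∧ t ∈ K := by
  classical
  have hMp : M.IsPrime := isPrime_of_isPModular hM
  haveI : Finite (IrrCharacter G) := Helper74.irr_finite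
  set s := (Set.toFinite (principalBlock M G)).toFinset with hs
  have hmem : ∀ χ, χ ∈ s ↔ χ ∈ principalBlock M G := fun χ => Set.Finite.mem_toFinset _
  set r : IrrCharacter G → ℝ := fun χ => (a χ).re with hr
  set d : IrrCharacter G → ℝ := fun χ => (charDegree (χ : G → ℂ) : ℝ) with hd
  set x : IrrCharacter G → ℝ := fun χ => ((χ : G → ℂ) t).re with hx
  have hχ1 : ∀ χ : IrrCharacter G, (χ : G → ℂ) 1 = ((d χ : ℝ) : ℂ) := by
    intro χ
    rw [irrChar_one_eq_charDegree χ.2]
    simp [hd]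
  have hχt : ∀ χ : IrrCharacter G, (χ : G → ℂ) t = ((x χ : ℝ) : ℂ) :=
    fun χ => irr_invol_eq_ofReal χ htt
  have hdpos : ∀ χ ∈ s, 0 < d χ := by
    intro χ _
    have := charDegree_pos_of_isIrrCharacter χ.2
    simp only [hd]
    exact_mod_cast this
  -- real relations
  have e1 : ∑ χ ∈ s, r χ * d χ = 0 := by
    have := congrArg Complex.re h1
    rw [Complex.re_sum, Complex.zero_re] at this
    rw [← this]
    refine Finset.sum_congr rfl (fun χ _ => ?_)
    rw [hχ1 χ, Complex.re_mul_ofReal]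
  have e2 : ∑ χ ∈ s, r χ * x χ = 0 := by
    have := congrArg Complex.re h2
    rw [Complex.re_sum, Complex.zero_re] at this
    rw [← this]
    refine Finset.sum_congr rfl (fun χ _ => ?_)
    rw [hχt χ, Complex.re_mul_ofReal]
  have e3 : ∑ χ ∈ s, r χ * x χ ^ 2 / d χ = 0 := by
    have := congrArg Complex.re h3
    rw [Complex.re_sum, Complex.zero_re] at this
    rw [← this]
    refine Finset.sum_congr rfl (fun χ _ => ?_)
    rw [hχt χ, hχ1 χ, ← Complex.ofReal_pow, ← Complex.ofReal_div, Complex.re_mul_ofReal,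
      mul_div_assoc]
  set i₀ := Helper79.principalIrr G with hi₀
  have hi₀s : i₀ ∈ s := (hmem i₀).mpr (principalIrr_mem_principalBlock M hMp G)
  have hr0 : r i₀ ≠ 0 := by
    intro h
    apply ha0
    apply Complex.ext
    · simpa [hr] using h
    · simpa using ha0im
  have hx0 : x i₀ = d i₀ := by
    have h1' : (i₀ : G → ℂ) t = 1 := rfl
    have h2' : (i₀ : G → ℂ) 1 = 1 := rfl
    have := hχ1 i₀
    rw [h2'] at this
    have h3' := hχt i₀
    rw [h1'] at h3'
    have : ((x i₀ : ℝ) : ℂ) = ((d i₀ : ℝ) : ℂ) := by rw [← h3', ← this]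
    exact_mod_cast this
  by_cases hAB : (2 ≤ Nat.card {χ : IrrCharacter G // χ ∈ principalBlock M G ∧ 0 < (a χ).re} ∧
      2 ≤ Nat.card {χ : IrrCharacter G // χ ∈ principalBlock M G ∧ (a χ).re < 0})
  · exact Or.inl hAB
  right
  -- every character with nonzero coefficient has `t` in its kernel
  have hker : ∀ χ ∈ s, r χ ≠ 0 → x χ = d χ := by
    rw [not_and_or, not_le, not_le] at hAB
    rcases hAB with hA | hB
    · have hsub : Subsingleton {χ : IrrCharacter G // χ ∈ principalBlock M G ∧ 0 < (a χ).re} :=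
        (Finite.card_le_one_iff_subsingleton).mp (by omega)
      refine real_signs s r d x hdpos e1 e2 e3 i₀ hi₀s hr0 hx0 ?_
      intro χ hχ ψ hψ hrχ hrψ
      have := hsub.elim ⟨χ, (hmem χ).mp hχ, hrχ⟩ ⟨ψ, (hmem ψ).mp hψ, hrψ⟩
      exact congrArg Subtype.val this
    · have hsub : Subsingleton {χ : IrrCharacter G // χ ∈ principalBlock M G ∧ (a χ).re < 0} :=
        (Finite.card_le_one_iff_subsingleton).mp (by omega)
      have hneg := real_signs s (fun χ => - r χ) d x hdpos
        (by simp only [neg_mul, Finset.sum_neg_distrib, e1, neg_zero])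
        (by simp only [neg_mul, Finset.sum_neg_distrib, e2, neg_zero])
        (by simp only [neg_mul, neg_div, Finset.sum_neg_distrib, e3, neg_zero])
        i₀ hi₀s (neg_ne_zero.mpr hr0) hx0 ?_
      · intro χ hχ hrχ
        exact hneg χ hχ (neg_ne_zero.mpr hrχ)
      · intro χ hχ ψ hψ hrχ hrψ
        have h1' : (a χ).re < 0 := by simpa [hr] using hrχ
        have h2' : (a ψ).re < 0 := by simpa [hr] using hrψ
        have := hsub.elim ⟨χ, (hmem χ).mp hχ, h1'⟩ ⟨ψ, (hmem ψ).mp hψ, h2'⟩
        exact congrArg Subtype.val this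
  -- the normal subgroup
  let K : Subgroup G := ⨅ χ : {χ : IrrCharacter G // χ ∈ s ∧ r χ ≠ 0},
    Helper80.kerChar (χ.1 : G → ℂ) (Helper74.irr_isCharacter χ.1)
  have hKmem : ∀ g : G, g ∈ K ↔ ∀ χ ∈ s, r χ ≠ 0 → (χ : G → ℂ) g = (χ : G → ℂ) 1 := by
    intro g
    simp only [K, Subgroup.mem_iInf, Helper80.mem_kerChar]
    constructor
    · intro h χ hχ hrχ
      exact h ⟨χ, hχ, hrχ⟩
    · intro h χ
      exact h χ.1 χ.2.1 χ.2.2
  refine ⟨K, Subgroup.normal_iInf_normal (fun χ => inferInstance), ?_, ?_, ?_⟩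
  · -- proper
    intro hKtop
    -- some nonprincipal χ has r χ ≠ 0
    have hex : ∃ χ ∈ s, χ ≠ i₀ ∧ r χ ≠ 0 := by
      by_contra hcon
      push Not at hcon
      have : ∑ χ ∈ s, r χ * d χ = r i₀ * d i₀ := by
        refine Finset.sum_eq_single_of_mem i₀ hi₀s (fun χ hχ hne => ?_)
        rw [hcon χ hχ hne, zero_mul]
      rw [e1] at this
      exact (mul_ne_zero hr0 (hdpos i₀ hi₀s).ne') this.symm
    obtain ⟨χ, hχ, hne, hrχ⟩ := hex
    have hall : ∀ g : G, (χ : G → ℂ) g = (χ : G → ℂ) 1 := by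
      intro g
      have hg : g ∈ K := by rw [hKtop]; exact Subgroup.mem_top g
      exact (hKmem g).mp hg χ hχ hrχ
    have hin := Helper74.irr_inner_ne hne
    unfold classInner at hin
    have hcard : (Nat.card G : ℂ) ≠ 0 := by
      have : 0 < Nat.card G := Nat.card_pos
      exact_mod_cast this.ne'
    have hval : ∀ g : G, (χ : G → ℂ) g * conj ((i₀ : G → ℂ) g) = (χ : G → ℂ) 1 := by
      intro g
      have : (i₀ : G → ℂ) g = 1 := rfl
      rw [this, map_one, mul_one, hall g]
    simp_rw [hval] at hin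
    rw [Finset.sum_const, Finset.card_univ, nsmul_eq_mul, ← Nat.card_eq_fintype_card,
      ← mul_assoc, inv_mul_cancel₀ hcard, one_mul] at hin
    exact Helper16.irr_one_ne_zero χ hin
  · -- contains the p'-core
    intro n hn
    rw [hKmem]
    intro χ hχ _
    exact Helper16.principalBlock_pPrimeCore hM χ ((hmem χ).mp hχ) n hn
  · -- contains t
    rw [hKmem]
    intro χ hχ hrχ
    rw [hχt χ, hχ1 χ, hker χ hχ hrχ]

end Signs

end Cfsg.Agent.Helper78
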