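import Mathlib
import Cfsg.Agent.Helper53.DCBWB
import Cfsg.Agent.Helper31.DCQC
import Cfsg.Agent.Helper31.DCSC
import Cfsg.Agent.Helper53.DCNB
import Cfsg.Agent.Helper69.DCABa

/-!
# Bounded order from a four-group with bounded involution centralizers (helper78)

If a finite group `G` has `|G|_2 ≤ 2^a` and two distinct commuting involutions `t₁, t₂` such that
the centralizers of `t₁, t₂, t₁ t₂` have order at most `c`, then `|G| ≤ bnd c a`.
-/

set_option autoImplicit false

namespace Cfsg.Agent.Helper78.DC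

open Cfsg.Agent.Helper31.DC Cfsg.Agent.Helper53.DC Cfsg.Agent.Helper69.DC

universe u

/-- Two distinct commuting involutions whose centralizers (and that of the product) are small. -/
def Four (G : Type*) [Group G] (c : ℕ) : Prop :=
  ∃ t₁ t₂ : G, orderOf t₁ = 2 ∧ orderOf t₂ = 2 ∧ t₁ ≠ t₂ ∧ Commute t₁ t₂ ∧
    Nat.card (Subgroup.centralizer ({t₁} : Set G)) ≤ c ∧
    Nat.card (Subgroup.centralizer ({t₂} : Set G)) ≤ c ∧
    Nat.card (Subgroup.centralizer ({t₁ * t₂} : Set G)) ≤ c

theorem orderOf_mul_of_invol {G : Type*} [Group G] {t₁ t₂ : G} (h1 : orderOf t₁ = 2)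
    (h2 : orderOf t₂ = 2) (hne : t₁ ≠ t₂) (hcomm : Commute t₁ t₂) : orderOf (t₁ * t₂) = 2 := by
  have e1 : t₁ ^ 2 = 1 := by rw [← h1]; exact pow_orderOf_eq_one t₁
  have e2 : t₂ ^ 2 = 1 := by rw [← h2]; exact pow_orderOf_eq_one t₂
  have e3 : (t₁ * t₂) ^ 2 = 1 := by rw [hcomm.mul_pow, e1, e2, one_mul]
  have hne1 : t₁ * t₂ ≠ 1 := by
    intro h
    apply hne
    have : t₁ = t₂⁻¹ := eq_inv_of_mul_eq_one_left h
    rw [this]
    have : t₂ * t₂ = 1 := by rw [← sq]; exact e2
    exact inv_eq_of_mul_eq_one_left this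
  exact orderOf_eq_prime e3 hne1

theorem orderOf_mk_of_invol {G : Type*} [Group G] (A : Subgroup G) [A.Normal] {t : G}
    (h : orderOf t = 2) (hA : t ∉ A) : orderOf (QuotientGroup.mk t : G ⧸ A) = 2 := by
  have e1 : t ^ 2 = 1 := by rw [← h]; exact pow_orderOf_eq_one t
  have e2 : (QuotientGroup.mk t : G ⧸ A) ^ 2 = 1 := by
    rw [← QuotientGroup.mk_pow, e1]; rfl
  have hne : (QuotientGroup.mk t : G ⧸ A) ≠ 1 := by
    intro h'
    exact hA ((QuotientGroup.eq_one_iff t).mp h')
  exact orderOf_eq_prime e2 hne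

/-- The four-group data passes to a quotient by a normal subgroup avoiding the three involutions. -/
theorem four_quotient {G : Type*} [Group G] [Finite G] (A : Subgroup G) [A.Normal] {c : ℕ}
    {t₁ t₂ : G} (h1 : orderOf t₁ = 2) (h2 : orderOf t₂ = 2) (hne : t₁ ≠ t₂)
    (hcomm : Commute t₁ t₂)
    (hc1 : Nat.card (Subgroup.centralizer ({t₁} : Set G)) ≤ c)
    (hc2 : Nat.card (Subgroup.centralizer ({t₂} : Set G)) ≤ c)
    (hc3 : Nat.card (Subgroup.centralizer ({t₁ * t₂} : Set G)) ≤ c)
    (hA1 : t₁ ∉ A) (hA2 : t₂ ∉ A) (hA3 : t₁ * t₂ ∉ A) : Four (G ⧸ A) c := by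
  refine ⟨QuotientGroup.mk t₁, QuotientGroup.mk t₂, orderOf_mk_of_invol A h1 hA1,
    orderOf_mk_of_invol A h2 hA2, ?_, ?_, ?_, ?_, ?_⟩
  · intro h
    apply hA3
    have e1 : t₁ ^ 2 = 1 := by rw [← h1]; exact pow_orderOf_eq_one t₁
    have hinv : t₁⁻¹ = t₁ := by
      have : t₁ * t₁ = 1 := by rw [← sq]; exact e1
      exact inv_eq_of_mul_eq_one_left this
    have := QuotientGroup.eq.mp h
    rwa [hinv] at this
  · show (QuotientGroup.mk t₁ : G ⧸ A) * QuotientGroup.mk t₂ =
      QuotientGroup.mk t₂ * QuotientGroup.mk t₁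
    rw [← QuotientGroup.mk_mul, ← QuotientGroup.mk_mul, hcomm.eq]
  · exact le_trans (card_centralizer_quotient_le A t₁) hc1
  · exact le_trans (card_centralizer_quotient_le A t₂) hc2
  · rw [← QuotientGroup.mk_mul]
    exact le_trans (card_centralizer_quotient_le A (t₁ * t₂)) hc3

/-- If a normal subgroup `A` contains `t`, then `|G| ≤ |A| * |C_G(t)|`. -/
theorem card_le_of_mem_normal {G : Type*} [Group G] [Finite G] (A : Subgroup G) [A.Normal] {t : G}
    (ht : t ∈ A) : Nat.card G ≤ Nat.card A * Nat.card (Subgroup.centralizer ({t} : Set G)) := by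
  classical
  haveI : Fintype G := Fintype.ofFinite G
  -- map `G → A`, `x ↦ x t x⁻¹`, fibres are cosets of the centralizer
  let f : G → A := fun x => ⟨x * t * x⁻¹, Subgroup.Normal.conj_mem inferInstance t ht x⟩
  have hfib : ∀ a : A, (Finset.univ.filter (fun x : G => f x = a)).card ≤
      Nat.card (Subgroup.centralizer ({t} : Set G)) := by
    intro a
    rcases (Finset.univ.filter (fun x : G => f x = a)).eq_empty_or_nonempty with h | ⟨x₀, hx₀⟩
    · rw [h]; simp
    · rw [Finset.mem_filter] at hx₀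
      have hcard : Nat.card (Subgroup.centralizer ({t} : Set G)) =
          (Finset.univ.filter (fun y : G => y ∈ Subgroup.centralizer ({t} : Set G))).card := by
        rw [Nat.card_eq_fintype_card]
        exact (Fintype.card_subtype _)
      rw [hcard]
      apply Finset.card_le_card_of_injOn (fun x => x₀⁻¹ * x)
      · intro x hx
        have hx' : f x = a := (Finset.mem_filter.mp hx).2
        have h1 : x * t * x⁻¹ = x₀ * t * x₀⁻¹ := by
          have := congrArg Subtype.val (hx'.trans hx₀.2.symm)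
          exact this
        simp only [Finset.coe_filter, Finset.mem_univ, true_and, Set.mem_setOf_eq]
        rw [Subgroup.mem_centralizer_singleton_iff]
        have : x₀⁻¹ * (x * t * x⁻¹) * x₀ = t := by rw [h1]; group
        calc x₀⁻¹ * x * t = (x₀⁻¹ * (x * t * x⁻¹) * x₀) * (x₀⁻¹ * x) := by group
          _ = t * (x₀⁻¹ * x) := by rw [this]
      · intro x _ y _ h
        exact mul_left_cancel h
  have h1 : Fintype.card G = ∑ a : A, (Finset.univ.filter (fun x : G => f x = a)).card := by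
    rw [← Finset.card_univ]
    exact Finset.card_eq_sum_card_fiberwise (fun x _ => Finset.mem_univ (f x))
  rw [Nat.card_eq_fintype_card, h1]
  calc ∑ a : A, (Finset.univ.filter (fun x : G => f x = a)).card
      ≤ ∑ _a : A, Nat.card (Subgroup.centralizer ({t} : Set G)) := Finset.sum_le_sum (fun a _ => hfib a)
    _ = Nat.card A * Nat.card (Subgroup.centralizer ({t} : Set G)) := by
        rw [Finset.sum_const, Finset.card_univ, smul_eq_mul, Nat.card_eq_fintype_card (α := A)]


/-- Order of a preimage subgroup. -/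
theorem card_comap_mk {G : Type*} [Group G] [Finite G] (K : Subgroup G) [K.Normal]
    (L : Subgroup (G ⧸ K)) :
    Nat.card (L.comap (QuotientGroup.mk' K)) = Nat.card K * Nat.card L := by
  have h1 : Nat.card (L.comap (QuotientGroup.mk' K)) * (L.comap (QuotientGroup.mk' K)).index =
      Nat.card G := Subgroup.card_mul_index _
  have h2 : Nat.card L * L.index = Nat.card (G ⧸ K) := Subgroup.card_mul_index _
  have h3 : (L.comap (QuotientGroup.mk' K)).index = L.index :=
    Subgroup.index_comap_of_surjective _ (QuotientGroup.mk'_surjective K)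
  have h4 : Nat.card G = Nat.card (G ⧸ K) * Nat.card K :=
    Subgroup.card_eq_card_quotient_mul_card_subgroup K
  have hidx : 0 < L.index := Nat.pos_of_ne_zero Subgroup.index_ne_zero_of_finite
  rw [h3] at h1
  have : Nat.card (L.comap (QuotientGroup.mk' K)) * L.index =
      (Nat.card K * Nat.card L) * L.index := by
    rw [h1, h4, ← h2]; ring
  exact Nat.eq_of_mul_eq_mul_right hidx this

/-- A normal subgroup of odd order of maximal order. -/
theorem exists_max_odd_normal (G : Type*) [Group G] [Finite G] :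
    ∃ K : Subgroup G, K.Normal ∧ Odd (Nat.card K) ∧
      ∀ L : Subgroup G, L.Normal → Odd (Nat.card L) → Nat.card L ≤ Nat.card K := by
  classical
  haveI : Nonempty {K : Subgroup G // K.Normal ∧ Odd (Nat.card K)} :=
    ⟨⟨⊥, inferInstance, by rw [Subgroup.card_bot]; exact odd_one⟩⟩
  obtain ⟨K, hK⟩ := Finite.exists_max
    (fun K : {K : Subgroup G // K.Normal ∧ Odd (Nat.card K)} => Nat.card (K : Subgroup G))
  exact ⟨K.1, K.2.1, K.2.2, fun L hLn hLo => hK ⟨L, hLn, hLo⟩⟩

/-- Modulo a maximal odd normal subgroup there is no nontrivial odd normal subgroup. -/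
theorem no_odd_quotient {G : Type*} [Group G] [Finite G] (K : Subgroup G) [K.Normal]
    (hKo : Odd (Nat.card K))
    (hmax : ∀ L : Subgroup G, L.Normal → Odd (Nat.card L) → Nat.card L ≤ Nat.card K) :
    ∀ L : Subgroup (G ⧸ K), L.Normal → Odd (Nat.card L) → L = ⊥ := by
  intro L hLn hLo
  have hcard := card_comap_mk K L
  have hodd : Odd (Nat.card (L.comap (QuotientGroup.mk' K))) := by
    rw [hcard]; exact hKo.mul hLo
  have hle := hmax _ (hLn.comap _) hodd
  rw [hcard] at hle
  have hKpos : 0 < Nat.card K := Nat.card_pos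
  have hL1 : Nat.card L ≤ 1 := by
    by_contra h
    have h2 : 2 ≤ Nat.card L := by omega
    have : Nat.card K * 2 ≤ Nat.card K * Nat.card L := Nat.mul_le_mul_left _ h2
    omega
  exact Subgroup.eq_bot_of_card_le L hL1


/-- The bound. -/
def bnd (c : ℕ) : ℕ → ℕ
  | 0 => 0
  | (a + 1) => c ^ 3 * (((2 * c ^ 2).factorial * (2 ^ (a + 1) * c ^ 3)) * max c (bnd c a))

/-- Step for groups without nontrivial normal subgroups of odd order. -/
theorem card_le_of_no_odd {G : Type u} [Group G] [Finite G] (c a : ℕ)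
    (IH : ∀ (G' : Type u) [Group G'] [Finite G'], Four G' c →
      (Nat.card G').factorization 2 ≤ a → Nat.card G' ≤ bnd c a)
    (hF : Four G c) (ha : (Nat.card G).factorization 2 ≤ a + 1)
    (hno : ∀ L : Subgroup G, L.Normal → Odd (Nat.card L) → L = ⊥) :
    Nat.card G ≤ ((2 * c ^ 2).factorial * (2 ^ (a + 1) * c ^ 3)) * max c (bnd c a) := by
  obtain ⟨t₁, t₂, h1, h2, hne, hcomm, hc1, hc2, hc3⟩ := hF
  obtain ⟨g, hg, hs⟩ := exists_small_class t₁ t₂ h1 h2 hne c hc1
  obtain ⟨A, hAn, hAne, hAcard⟩ := exists_normal_bounded g hg (2 * c ^ 2) (2 ^ (a + 1) * c ^ 3) hs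
    (fun B hBn hBc => card_abelian_normal_le_of (a + 1) (c ^ 3) ha
      (fun K hKn hKo => by
        haveI := hKn
        exact card_le_of_odd_normal K hKo t₁ t₂ h1 h2 hne hcomm c hc1 hc2 hc3) B hBn hBc)
  haveI := hAn
  have hAeven : Even (Nat.card A) := by
    rw [← Nat.not_odd_iff_even]
    intro hodd
    exact hAne (hno A hAn hodd)
  set m := (2 * c ^ 2).factorial * (2 ^ (a + 1) * c ^ 3) with hm
  have key : ∀ t : G, t ∈ A → Nat.card (Subgroup.centralizer ({t} : Set G)) ≤ c →
      Nat.card G ≤ m * max c (bnd c a) := by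
    intro t ht hct
    calc Nat.card G ≤ Nat.card A * Nat.card (Subgroup.centralizer ({t} : Set G)) :=
          card_le_of_mem_normal A ht
      _ ≤ m * max c (bnd c a) := Nat.mul_le_mul hAcard (le_trans hct (le_max_left _ _))
  by_cases hA1 : t₁ ∈ A
  · exact key t₁ hA1 hc1
  by_cases hA2 : t₂ ∈ A
  · exact key t₂ hA2 hc2
  by_cases hA3 : t₁ * t₂ ∈ A
  · exact key _ hA3 hc3
  have hFq : Four (G ⧸ A) c := four_quotient A h1 h2 hne hcomm hc1 hc2 hc3 hA1 hA2 hA3
  have hcardG : Nat.card G = Nat.card (G ⧸ A) * Nat.card A :=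
    Subgroup.card_eq_card_quotient_mul_card_subgroup A
  have hqpos : Nat.card (G ⧸ A) ≠ 0 := Nat.card_pos.ne'
  have hApos : Nat.card A ≠ 0 := Nat.card_pos.ne'
  have hfac : (Nat.card (G ⧸ A)).factorization 2 ≤ a := by
    have h3 : (Nat.card G).factorization 2 =
        (Nat.card (G ⧸ A)).factorization 2 + (Nat.card A).factorization 2 := by
      rw [hcardG, Nat.factorization_mul hqpos hApos]; rfl
    have h4 : 0 < (Nat.card A).factorization 2 :=
      Nat.Prime.factorization_pos_of_dvd Nat.prime_two hApos hAeven.two_dvd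
    omega
  have hq := IH (G ⧸ A) hFq hfac
  calc Nat.card G = Nat.card A * Nat.card (G ⧸ A) := by rw [hcardG, mul_comm]
    _ ≤ m * max c (bnd c a) := Nat.mul_le_mul hAcard (le_trans hq (le_max_right _ _))

/-- **Lemma D**: bounded order from a four-group with bounded involution centralizers. -/
theorem card_le_bnd (c : ℕ) : ∀ (a : ℕ) (G : Type u) [Group G] [Finite G], Four G c →
    (Nat.card G).factorization 2 ≤ a → Nat.card G ≤ bnd c a := by
  intro a
  induction a with
  | zero =>
    intro G _ _ hF ha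
    exfalso
    obtain ⟨t₁, _, h1, _⟩ := hF
    have hdvd : 2 ∣ Nat.card G := by rw [← h1]; exact orderOf_dvd_natCard t₁
    have hpos : 0 < (Nat.card G).factorization 2 :=
      Nat.Prime.factorization_pos_of_dvd Nat.prime_two Nat.card_pos.ne' hdvd
    omega
  | succ a IH =>
    intro G _ _ hF ha
    obtain ⟨K, hKn, hKo, hKmax⟩ := exists_max_odd_normal G
    haveI := hKn
    obtain ⟨t₁, t₂, h1, h2, hne, hcomm, hc1, hc2, hc3⟩ := hF
    have hKc : Nat.card K ≤ c ^ 3 :=
      card_le_of_odd_normal K hKo t₁ t₂ h1 h2 hne hcomm c hc1 hc2 hc3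
    have hnotmem : ∀ t : G, orderOf t = 2 → t ∉ K := by
      intro t ht htK
      have hdvd : orderOf t ∣ Nat.card K := by
        have := orderOf_dvd_natCard (⟨t, htK⟩ : K)
        rwa [Subgroup.orderOf_mk] at this
      rw [ht] at hdvd
      exact (Nat.not_even_iff_odd.mpr hKo) (even_iff_two_dvd.mpr hdvd)
    have hFq : Four (G ⧸ K) c := four_quotient K h1 h2 hne hcomm hc1 hc2 hc3
      (hnotmem _ h1) (hnotmem _ h2) (hnotmem _ (orderOf_mul_of_invol h1 h2 hne hcomm))
    have hcardG : Nat.card G = Nat.card (G ⧸ K) * Nat.card K :=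
      Subgroup.card_eq_card_quotient_mul_card_subgroup K
    have hfac : (Nat.card (G ⧸ K)).factorization 2 ≤ a + 1 := by
      have hdvd : Nat.card (G ⧸ K) ∣ Nat.card G := ⟨Nat.card K, hcardG⟩
      exact le_trans ((Nat.factorization_le_iff_dvd Nat.card_pos.ne' Nat.card_pos.ne').mpr hdvd 2) ha
    have hq := card_le_of_no_odd c a IH hFq hfac (no_odd_quotient K hKo hKmax)
    show Nat.card G ≤ c ^ 3 * (((2 * c ^ 2).factorial * (2 ^ (a + 1) * c ^ 3)) * max c (bnd c a))
    calc Nat.card G = Nat.card K * Nat.card (G ⧸ K) := by rw [hcardG, mul_comm]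
      _ ≤ _ := Nat.mul_le_mul hKc hq

end Cfsg.Agent.Helper78.DC
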