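import Cfsg.Agent.Helper78.Landau
import Cfsg.Agent.Helper79.BrauerFeit
import Cfsg.Agent.Helper79.CharComplete
import Cfsg.Agent.Helper16.Integrality
import Cfsg.Agent.Helper16.Omega

/-!
# Groups with a single `p`-block have bounded order

Brauer–Feit (`k(B) ≤ p^(2d)/4 + 1`, Helper79) bounds the class number, and Landau's lemma bounds
the group order by the class number.
-/

set_option autoImplicit false
set_option linter.unusedSectionVars false
set_option linter.unusedVariables false

namespace Cfsg.Agent.Helper78

open Cfsg

universe u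

section ClassEquation

variable {G : Type u} [Group G] [Fintype G]

open Classical in
/-- The class equation in the form `∑ 1 / |C_G(x_C)| = 1`. -/
theorem sum_inv_card_centralizer_eq_one [Fintype (ConjClasses G)] :
    ∑ C : ConjClasses G,
      (1 : ℚ) / (Nat.card (Subgroup.centralizer ({Helper16.classRep C} : Set G)) : ℚ) = 1 := by
  have h1 : (Finset.univ : Finset G).card = ∑ C : ConjClasses G,
      (Finset.univ.filter (fun x : G => ConjClasses.mk x = C)).card :=
    Finset.card_eq_sum_card_fiberwise (f := ConjClasses.mk) (s := Finset.univ)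
      (t := Finset.univ) (fun x _ => Finset.mem_univ _)
  have h2 : ∀ C : ConjClasses G,
      (Finset.univ.filter (fun x : G => ConjClasses.mk x = C)).card =
      (Subgroup.centralizer ({Helper16.classRep C} : Set G)).index := by
    intro C
    have h3 : Finset.univ.filter (fun x : G => ConjClasses.mk x = C) =
        Finset.univ.filter (fun x : G => IsConj (Helper16.classRep C) x) := by
      ext x
      simp only [Finset.mem_filter, Finset.mem_univ, true_and]
      rw [← ConjClasses.mk_eq_mk_iff_isConj, Helper16.mk_classRep, eq_comm]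
    rw [h3]
    have h4 := Helper16.card_filter_isConj' (Helper16.classRep C)
    exact_mod_cast h4
  have hG : (Nat.card G : ℚ) ≠ 0 := by exact_mod_cast (Nat.card_pos (α := G)).ne'
  have h5 : ∀ C : ConjClasses G,
      (1 : ℚ) / (Nat.card (Subgroup.centralizer ({Helper16.classRep C} : Set G)) : ℚ) =
      ((Subgroup.centralizer ({Helper16.classRep C} : Set G)).index : ℚ) / (Nat.card G : ℚ) := by
    intro C
    have hc : (Nat.card (Subgroup.centralizer ({Helper16.classRep C} : Set G)) : ℚ) ≠ 0 := by
      exact_mod_cast (Nat.card_pos (α := Subgroup.centralizer ({Helper16.classRep C} : Set G))).ne'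
    have h6 : (Nat.card (Subgroup.centralizer ({Helper16.classRep C} : Set G)) : ℚ) *
        ((Subgroup.centralizer ({Helper16.classRep C} : Set G)).index : ℚ) = (Nat.card G : ℚ) := by
      exact_mod_cast Subgroup.card_mul_index _
    rw [div_eq_div_iff hc hG, one_mul, ← h6]
    ring
  rw [Finset.sum_congr rfl (fun C _ => h5 C), ← Finset.sum_div, div_eq_one_iff_eq hG]
  rw [Finset.card_univ, Finset.sum_congr rfl (fun C _ => h2 C)] at h1
  rw [Nat.card_eq_fintype_card, h1]
  push_cast
  rfl

end ClassEquation

/-- **Groups with a single `p`-block have bounded order** (in terms of the order of a Sylow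
`p`-subgroup). -/
theorem card_le_of_single_block (p : ℕ) [hp : Fact p.Prime] (a : ℕ) :
    ∃ N : ℕ, ∀ (G : Type u) [Group G] [Finite G] (M : Ideal AlgInt), IsPModular p M →
      (Nat.card G).factorization p = a →
      (∀ B : Set (IrrCharacter G), IsPBlock M B → B = principalBlock M G) → Nat.card G ≤ N := by
  obtain ⟨N, hN⟩ := landau_bound.{u} (p ^ (2 * a) + 4) 1 one_pos
  refine ⟨N, ?_⟩
  intro G _ _ M hM ha hsingle
  classical
  haveI : Fintype G := Fintype.ofFinite G
  haveI : Fintype (ConjClasses G) := Fintype.ofFinite _
  letI : Fintype (IrrCharacter G) := Helper74.irrFintype G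
  have hMp : M.IsPrime := hM.2.1.isPrime
  have hB : IsPBlock M (principalBlock M G) := ⟨Helper79.principalIrr G, rfl⟩
  have hall : ∀ χ : IrrCharacter G, χ ∈ principalBlock M G := by
    intro χ
    rw [← hsingle _ ⟨χ, rfl⟩]
    exact mem_blockOf_self hMp χ
  have hBF := Helper79.four_mul_sum_pow_height_le hM hB
  have huniv : (Set.toFinite (principalBlock M G)).toFinset = Finset.univ := by
    ext χ
    simp [hall χ]
  rw [huniv] at hBF
  have hk : Fintype.card (IrrCharacter G) ≤
      ∑ ξ : IrrCharacter G, p ^ (2 * blockHeight p (principalBlock M G) (ξ : G → ℂ)) := by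
    rw [← Finset.card_univ, Finset.card_eq_sum_ones]
    exact Finset.sum_le_sum (fun ξ _ => Nat.one_le_pow _ _ hp.out.pos)
  have hd : blockDefect p (principalBlock M G) ≤ a := by
    unfold blockDefect
    rw [ha]
    exact Nat.sub_le _ _
  have hpow : p ^ (2 * blockDefect p (principalBlock M G)) ≤ p ^ (2 * a) :=
    Nat.pow_le_pow_right hp.out.pos (by omega)
  have hcard : (Finset.univ : Finset (ConjClasses G)).card ≤ p ^ (2 * a) + 4 := by
    rw [Finset.card_univ, ← Nat.card_eq_fintype_card, ← Helper79.card_irr_eq_card_conjClasses,
      Nat.card_eq_fintype_card]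
    omega
  have hres := hN (Finset.univ : Finset (ConjClasses G))
    (fun C => Nat.card (Subgroup.centralizer ({Helper16.classRep C} : Set G))) hcard
    (fun C _ => Nat.card_pos) sum_inv_card_centralizer_eq_one (ConjClasses.mk 1) (Finset.mem_univ _)
  have hrep : Helper16.classRep (ConjClasses.mk (1 : G)) = 1 := by
    have h1 := Helper16.isConj_classRep_mk (1 : G)
    exact isConj_one_left.mp h1
  rw [hrep] at hres
  have htop : Subgroup.centralizer ({1} : Set G) = ⊤ := by
    ext x
    simp [Subgroup.mem_centralizer_singleton_iff]
  rw [htop, Subgroup.card_top] at hres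
  exact hres

end Cfsg.Agent.Helper78
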