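import Cfsg.Agent.Helper78.InducedCoeff
import Cfsg.Agent.Helper77.DefectOrder
import Cfsg.Agent.Helper77.MaxPair

/-!
# Tools for Brauer's deficiency classes

* `blockDefect_le_of_induced`: the defect of a block is at most the defect of its induced block.
* `le_blockDefect_of_blockCoeff_not_mem`: a `p`-subgroup centralizing an element at which the
  block idempotent has a unit coefficient has order at most `p ^ defect`.
* subgroup facts about `C_G(y)` and `⟨y⟩`.
-/

set_option autoImplicit false
set_option linter.unusedSectionVars false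
set_option linter.unusedVariables false

namespace Cfsg.Agent.Helper78

open Cfsg
open scoped ComplexConjugate

universe u

section Zpowers

variable {G : Type u} [Group G]

theorem zpowers_le_centralizer_singleton (y : G) :
    Subgroup.zpowers y ≤ Subgroup.centralizer ({y} : Set G) := by
  rw [Subgroup.zpowers_le, Subgroup.mem_centralizer_singleton_iff]

theorem centralizer_zpowers_le_centralizer_singleton (y : G) :
    Subgroup.centralizer ((Subgroup.zpowers y : Subgroup G) : Set G) ≤
      Subgroup.centralizer ({y} : Set G) := by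
  apply Subgroup.centralizer_le
  intro x hx
  rw [Set.mem_singleton_iff] at hx
  subst hx
  exact Subgroup.mem_zpowers x

theorem centralizer_singleton_le_centralizer_zpowers (y : G) :
    Subgroup.centralizer ({y} : Set G) ≤
      Subgroup.centralizer ((Subgroup.zpowers y : Subgroup G) : Set G) := by
  intro c hc
  rw [Subgroup.mem_centralizer_singleton_iff] at hc
  rw [Subgroup.mem_centralizer_iff]
  intro h hh
  obtain ⟨k, rfl⟩ := Subgroup.mem_zpowers_iff.mp hh
  have hcomm : Commute y c := hc.symm
  exact (hcomm.zpow_left k).eq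

theorem centralizer_singleton_le_normalizer_zpowers (y : G) :
    Subgroup.centralizer ({y} : Set G) ≤
      Subgroup.normalizer ((Subgroup.zpowers y : Subgroup G) : Set G) :=
  (centralizer_singleton_le_centralizer_zpowers y).trans (Subgroup.centralizer_le_normalizer _)

theorem isPGroup_zpowers_of_orderOf {p : ℕ} [Fact p.Prime] {y : G} {k : ℕ}
    (hy : orderOf y = p ^ k) : IsPGroup p (Subgroup.zpowers y) := by
  apply IsPGroup.of_card (n := k)
  rw [Nat.card_zpowers, hy]

end Zpowers

section Defect

variable {G : Type u} [Group G] [Finite G] {M : Ideal AlgInt} {p : ℕ}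

/-- The defect of a block is at most the defect of the block it induces. -/
theorem blockDefect_le_of_induced [Fact p.Prime] (hM : IsPModular p M) (H : Subgroup G)
    (b : Set (IrrCharacter H)) (B : Set (IrrCharacter G)) (hind : IsInducedBlock M H b B) :
    blockDefect p b ≤ blockDefect p B := by
  classical
  have hMp : M.IsPrime := isPrime_of_isPModular hM
  have hp : p.Prime := Fact.out
  haveI : Fintype G := Fintype.ofFinite G
  haveI : Fintype H := Fintype.ofFinite H
  obtain ⟨hb, hB, -⟩ := id hind
  obtain ⟨ξ₀, hξ₀⟩ := id hb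
  obtain ⟨χ₀, hχ₀⟩ := id hB
  obtain ⟨D, hD⟩ := Helper16.exists_defectGroup (M := M) p ξ₀
  obtain ⟨Q, hQ⟩ := Helper16.exists_defectGroup (M := M) p χ₀
  rw [← hξ₀] at hD
  rw [← hχ₀] at hQ
  obtain ⟨x, hx⟩ := defectGroup_le_of_induced hM H b B hind D hD Q hQ
  have hc1 : Nat.card ((D.map H.subtype).map (MulAut.conj x).toMonoidHom) = Nat.card D := by
    rw [Subgroup.card_map_of_injective (MulAut.conj x).injective,
      Subgroup.card_map_of_injective (Subgroup.subtype_injective _)]
  have hc2 : Nat.card D ≤ Nat.card Q := by
    rw [← hc1]; exact Subgroup.card_le_of_le hx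
  rw [Helper77.card_defectGroup hM hb D hD, Helper77.card_defectGroup hM hB Q hQ] at hc2
  exact (Nat.pow_le_pow_iff_right hp.one_lt).mp hc2

/-- A `p`-subgroup of order `p ^ d` centralizing an element at which the idempotent of the block
`B` has a unit coefficient satisfies `d ≤ defect B`. -/
theorem le_blockDefect_of_blockCoeff_not_mem [Fact p.Prime] (hM : IsPModular p M)
    {B : Set (IrrCharacter G)} (hB : IsPBlock M B) (g : G)
    (hg : ¬ MemLocalIdeal M (blockCoeff B g)) (D : Subgroup G) (d : ℕ) (hDcard : Nat.card D = p ^ d)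
    (hDc : D ≤ Subgroup.centralizer ({g} : Set G)) : d ≤ blockDefect p B := by
  classical
  have hMp : M.IsPrime := isPrime_of_isPModular hM
  have hp : p.Prime := Fact.out
  haveI : Fintype G := Fintype.ofFinite G
  have hDp : IsPGroup p D := IsPGroup.of_card hDcard
  set s := sInf ((fun χ : IrrCharacter G => (charDegree (χ : G → ℂ)).factorization p) '' B) with hs
  have hsdvd : ∀ χ ∈ B, p ^ s ∣ charDegree (χ : G → ℂ) := by
    intro χ hχ
    have h1 : s ≤ (charDegree (χ : G → ℂ)).factorization p := Nat.sInf_le ⟨χ, hχ, rfl⟩
    exact (pow_dvd_pow p h1).trans (Nat.ordProj_dvd _ p)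
  have hdvd := Helper77.card_mul_pow_dvd_of_blockCoeff_unit hM hB g hg D hDp hDc s hsdvd
  rw [hDcard, ← pow_add] at hdvd
  have hG0 : Nat.card G ≠ 0 := Nat.card_pos.ne'
  have hle : d + s ≤ (Nat.card G).factorization p :=
    (hp.pow_dvd_iff_le_factorization hG0).mp hdvd
  unfold blockDefect
  rw [← hs]
  omega

end Defect

end Cfsg.Agent.Helper78
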