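import Mathlib
import Cfsg.Agent.Helper78.DefClassGroup
import Cfsg.Agent.Helper78.SingleBlock
import Cfsg.Agent.S4717
import Cfsg.Agent.Helper74.DCCQ

/-!
# Brauer: groups of deficiency class `r` with a large elementary abelian 2-subgroup (helper78)

Main induction for S4719.
-/

set_option autoImplicit false

namespace Cfsg.Agent.Helper78.DC

open Cfsg Cfsg.Agent.Helper74.DC

universe u

/-- `G` has deficiency class `r` for the prime 2 (relative to `M`). -/
def DefClass (G : Type u) [Group G] (M : Ideal AlgInt) (r : ℕ) : Prop :=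
  ∀ B : Set (IrrCharacter G), IsPBlock M B → B ≠ principalBlock M G → blockDefect 2 B < r

/-- The hypotheses of the theorem for Sylow order `2^a`. -/
def Hyp (G : Type u) [Group G] (a : ℕ) : Prop :=
  ∃ (M : Ideal AlgInt) (r : ℕ) (P : Sylow 2 G), IsPModular 2 M ∧ Nat.card P = 2 ^ a ∧
    DefClass G M r ∧ ∃ E : Subgroup G, E ≤ (P : Subgroup G) ∧ IsMulCommutative E ∧
      (∀ x ∈ E, x * x = 1) ∧ Nat.card E = 2 ^ (r + 1)

theorem orderOf_eq_two_of_mul_self {G : Type*} [Group G] {t : G} (h : t * t = 1) (h1 : t ≠ 1) :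
    orderOf t = 2 :=
  orderOf_eq_prime (by rw [sq]; exact h) h1

/-- Centralizers of nonidentity elements of `E` are bounded by the induction hypothesis. -/
theorem card_centralizer_le {G : Type u} [Group G] [Finite G] (M : Ideal AlgInt)
    (hM : IsPModular 2 M) (r : ℕ) (hr : 0 < r) (a N₀ : ℕ)
    (IH : ∀ a' ≤ a, ∀ (G' : Type u) [Group G'] [Finite G'], Hyp G' a' → Nat.card G' ≤ N₀)
    (hG2 : (Nat.card G).factorization 2 ≤ a + 1) (hdef : DefClass G M r)
    (E : Subgroup G) (hEc : IsMulCommutative E) (hE2 : ∀ x ∈ E, x * x = 1)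
    (hEcard : Nat.card E = 2 ^ (r + 1)) (t : G) (htE : t ∈ E) (ht1 : t ≠ 1) :
    Nat.card (Subgroup.centralizer ({t} : Set G)) ≤ 2 * N₀ := by
  classical
  have hot : orderOf t = 2 := orderOf_eq_two_of_mul_self (hE2 t htE) ht1
  set H : Subgroup G := Subgroup.centralizer ({t} : Set G) with hH
  have htH : t ∈ H := Subgroup.mem_centralizer_singleton_iff.mpr rfl
  set tH : H := ⟨t, htH⟩ with htHdef
  set Z : Subgroup H := Subgroup.zpowers tH with hZ
  have htc : tH ∈ Subgroup.center H := by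
    rw [Subgroup.mem_center_iff]
    intro h
    apply Subtype.ext
    have := Subgroup.mem_centralizer_singleton_iff.mp h.2
    simpa using this
  have hZc : Z ≤ Subgroup.center H := by
    rw [hZ, Subgroup.zpowers_le]; exact htc
  haveI hZn : Z.Normal := by
    constructor
    intro z hz h
    have hzc := hZc hz
    have : h * z * h⁻¹ = z := by
      rw [Subgroup.mem_center_iff] at hzc
      have h' := hzc h
      calc h * z * h⁻¹ = z * h * h⁻¹ := by rw [h']
        _ = z := by group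
    rw [this]; exact hz
  have hZp : Nat.card Z = 2 := by
    rw [hZ, Nat.card_zpowers]
    have : orderOf tH = orderOf t := Subgroup.orderOf_mk t htH
    rw [this, hot]
  -- deficiency class of H and of H ⧸ Z
  have hdefH : DefClass H M r :=
    (Cfsg.Agent.S4717.result 2 M hM r).1 hdef t ⟨1, by rw [hot, pow_one]⟩
  have hdefQ : DefClass (H ⧸ Z) M (r - 1) :=
    deficiency_quotient_central 2 M hM Z hZc hZp r hdefH
  -- E inside H
  have hEH : E ≤ H := by
    intro e he
    rw [hH, Subgroup.mem_centralizer_singleton_iff]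
    have := hEc.is_comm.comm (⟨e, he⟩ : E) ⟨t, htE⟩
    exact congrArg Subtype.val this
  set E' : Subgroup H := E.subgroupOf H with hE'
  set Eb : Subgroup (H ⧸ Z) := E'.map (QuotientGroup.mk' Z) with hEb
  have hZE' : Z ≤ E' := by
    rw [hZ, Subgroup.zpowers_le, hE', Subgroup.mem_subgroupOf]; exact htE
  have hE'card : Nat.card E' = 2 ^ (r + 1) := by
    rw [hE', ← hEcard]
    exact Nat.card_congr (Subgroup.subgroupOfEquivOfLe hEH).toEquiv
  have hcomap : Eb.comap (QuotientGroup.mk' Z) = E' := by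
    rw [hEb, Subgroup.comap_map_eq, QuotientGroup.ker_mk', sup_eq_left.mpr hZE']
  have hEbcard : Nat.card Eb = 2 ^ r := by
    have h1 := card_comap_mk Z Eb
    rw [hcomap, hE'card, hZp, pow_succ, mul_comm] at h1
    exact (Nat.eq_of_mul_eq_mul_left (by norm_num) h1).symm
  have hEbcomm : IsMulCommutative Eb := by
    refine ⟨⟨?_⟩⟩
    rintro ⟨x, hx⟩ ⟨y, hy⟩
    obtain ⟨x', hx', rfl⟩ := Subgroup.mem_map.mp hx
    obtain ⟨y', hy', rfl⟩ := Subgroup.mem_map.mp hy
    apply Subtype.ext
    show (QuotientGroup.mk' Z) x' * (QuotientGroup.mk' Z) y' =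
      (QuotientGroup.mk' Z) y' * (QuotientGroup.mk' Z) x'
    rw [← map_mul, ← map_mul]
    congr 1
    apply Subtype.ext
    have hx'' : (x' : G) ∈ E := Subgroup.mem_subgroupOf.mp hx'
    have hy'' : (y' : G) ∈ E := Subgroup.mem_subgroupOf.mp hy'
    have := hEc.is_comm.comm (⟨x', hx''⟩ : E) ⟨y', hy''⟩
    have h3 := congrArg Subtype.val this
    simpa using h3
  have hEb2 : ∀ x ∈ Eb, x * x = 1 := by
    intro x hx
    obtain ⟨x', hx', rfl⟩ := Subgroup.mem_map.mp hx
    rw [← map_mul]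
    have hx'' : (x' : G) ∈ E := Subgroup.mem_subgroupOf.mp hx'
    have : x' * x' = 1 := Subtype.ext (hE2 _ hx'')
    rw [this, map_one]
  have hEbp : IsPGroup 2 Eb := IsPGroup.of_card hEbcard
  obtain ⟨Pb, hPb⟩ := hEbp.exists_le_sylow
  -- Sylow order of the quotient
  have hPbcard : Nat.card Pb = 2 ^ (Nat.card (H ⧸ Z)).factorization 2 :=
    Sylow.card_eq_multiplicity Pb
  have hHcard : Nat.card H = Nat.card (H ⧸ Z) * 2 := by
    rw [← hZp]; exact Subgroup.card_eq_card_quotient_mul_card_subgroup Z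
  have ha'' : (Nat.card (H ⧸ Z)).factorization 2 ≤ a := by
    have h1 : (Nat.card H).factorization 2 = (Nat.card (H ⧸ Z)).factorization 2 + 1 := by
      rw [hHcard, Nat.factorization_mul Nat.card_pos.ne' (by norm_num)]
      simp [Nat.Prime.factorization_self Nat.prime_two]
    have h2 : (Nat.card H).factorization 2 ≤ (Nat.card G).factorization 2 :=
      (Nat.factorization_le_iff_dvd Nat.card_pos.ne' Nat.card_pos.ne').mpr
        (Subgroup.card_subgroup_dvd_card H) 2
    omega
  have hyp : Hyp (H ⧸ Z) ((Nat.card (H ⧸ Z)).factorization 2) := by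
    refine ⟨M, r - 1, Pb, hM, hPbcard, hdefQ, Eb, hPb, hEbcomm, hEb2, ?_⟩
    rw [hEbcard, Nat.sub_add_cancel hr]
  have hq := IH _ ha'' (H ⧸ Z) hyp
  rw [hHcard]
  omega


/-- Two distinct nonidentity elements in a subgroup of order at least 3. -/
theorem exists_two_ne_one {G : Type*} [Group G] [Finite G] (E : Subgroup G)
    (hE : 3 ≤ Nat.card E) : ∃ t₁ ∈ E, ∃ t₂ ∈ E, t₁ ≠ 1 ∧ t₂ ≠ 1 ∧ t₁ ≠ t₂ := by
  classical
  haveI : Fintype E := Fintype.ofFinite E
  have h3 : 2 < Fintype.card E := by rw [← Nat.card_eq_fintype_card]; omega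
  obtain ⟨x, y, z, hxy, hxz, hyz⟩ := Fintype.two_lt_card_iff.mp h3
  have key : ∀ u v : E, u ≠ v → u ≠ 1 → v ≠ 1 →
      ∃ t₁ ∈ E, ∃ t₂ ∈ E, t₁ ≠ 1 ∧ t₂ ≠ 1 ∧ t₁ ≠ t₂ := by
    intro u v huv hu hv
    refine ⟨u, u.2, v, v.2, ?_, ?_, ?_⟩
    · intro h; exact hu (Subtype.ext h)
    · intro h; exact hv (Subtype.ext h)
    · intro h; exact huv (Subtype.ext h)
  by_cases hx : x = 1
  · have hy : y ≠ 1 := fun h => hxy (hx.trans h.symm)
    have hz : z ≠ 1 := fun h => hxz (hx.trans h.symm)
    exact key y z hyz hy hz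
  · by_cases hy : y = 1
    · have hz : z ≠ 1 := fun h => hyz (hy.trans h.symm)
      exact key x z hxz hx hz
    · exact key x y hxy hx hy

/-- **Main induction** for S4719. -/
theorem main (a : ℕ) : ∃ N : ℕ, ∀ a' ≤ a, ∀ (G : Type u) [Group G] [Finite G], Hyp G a' →
    Nat.card G ≤ N := by
  induction a with
  | zero =>
    refine ⟨0, ?_⟩
    intro a' ha' G _ _ hyp
    exfalso
    obtain ⟨M, r, P, hM, hP, hdef, E, hEP, hEc, hE2, hEcard⟩ := hyp
    have ha0 : a' = 0 := by omega
    rw [ha0, pow_zero] at hP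
    have h1 : Nat.card E ≤ Nat.card (P : Subgroup G) := Subgroup.card_le_of_le hEP
    have h2 : 2 ≤ 2 ^ (r + 1) := by
      calc 2 = 2 ^ 1 := by norm_num
        _ ≤ 2 ^ (r + 1) := Nat.pow_le_pow_right (by norm_num) (by omega)
    have h3 : Nat.card (P : Subgroup G) = 1 := hP
    omega
  | succ a IHa =>
    obtain ⟨N₀, hN₀⟩ := IHa
    obtain ⟨N₁, hN₁⟩ := card_le_of_single_block.{u} 2 (a + 1)
    refine ⟨max N₀ (max N₁ (bnd (2 * N₀) (a + 1))), ?_⟩
    intro a' ha' G _ _ hyp
    by_cases hle : a' ≤ a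
    · exact le_trans (hN₀ a' hle G hyp) (le_max_left _ _)
    have haeq : a' = a + 1 := by omega
    subst haeq
    obtain ⟨M, r, P, hM, hP, hdef, E, hEP, hEc, hE2, hEcard⟩ := hyp
    have hfac : (Nat.card G).factorization 2 = a + 1 := by
      have h1 : Nat.card P = 2 ^ (Nat.card G).factorization 2 := Sylow.card_eq_multiplicity P
      rw [hP] at h1
      exact (Nat.pow_right_injective (le_refl 2) h1).symm
    rcases Nat.eq_zero_or_pos r with hr | hr
    · -- a single block
      subst hr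
      have hsingle : ∀ B : Set (IrrCharacter G), IsPBlock M B → B = principalBlock M G := by
        intro B hB
        by_contra hne
        exact absurd (hdef B hB hne) (Nat.not_lt_zero _)
      exact le_trans (hN₁ G M hM hfac hsingle) (le_trans (le_max_left _ _) (le_max_right _ _))
    · -- bounded centralizers and Lemma D
      have hE4 : 3 ≤ Nat.card E := by
        rw [hEcard]
        calc 3 ≤ 2 ^ 2 := by norm_num
          _ ≤ 2 ^ (r + 1) := Nat.pow_le_pow_right (by norm_num) (by omega)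
      obtain ⟨t₁, ht₁E, t₂, ht₂E, ht₁, ht₂, hne⟩ := exists_two_ne_one E hE4
      have hcomm : Commute t₁ t₂ := by
        have := hEc.is_comm.comm (⟨t₁, ht₁E⟩ : E) ⟨t₂, ht₂E⟩
        exact congrArg Subtype.val this
      have h1 : orderOf t₁ = 2 := orderOf_eq_two_of_mul_self (hE2 t₁ ht₁E) ht₁
      have h2 : orderOf t₂ = 2 := orderOf_eq_two_of_mul_self (hE2 t₂ ht₂E) ht₂
      have h3 : orderOf (t₁ * t₂) = 2 := orderOf_mul_of_invol h1 h2 hne hcomm
      have h3ne : t₁ * t₂ ≠ 1 := by
        intro h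
        rw [h, orderOf_one] at h3
        norm_num at h3
      have hcent : ∀ t ∈ E, t ≠ 1 → Nat.card (Subgroup.centralizer ({t} : Set G)) ≤ 2 * N₀ :=
        fun t htE ht1 => card_centralizer_le M hM r hr a N₀ hN₀ hfac.le hdef E hEc hE2 hEcard t htE ht1
      have hFour : Four G (2 * N₀) :=
        ⟨t₁, t₂, h1, h2, hne, hcomm, hcent t₁ ht₁E ht₁, hcent t₂ ht₂E ht₂,
          hcent _ (E.mul_mem ht₁E ht₂E) h3ne⟩
      exact le_trans (card_le_bnd (2 * N₀) (a + 1) G hFour hfac.le)
        (le_trans (le_max_right _ _) (le_max_right _ _))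

end Cfsg.Agent.Helper78.DC
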