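import Cfsg.Agent.Helper79.FeitData
import Cfsg.Agent.S0878
import Cfsg.Agent.S0881
import Cfsg.Agent.S0884
import Cfsg.Agent.S0157
import Cfsg.Agent.S0190
import Cfsg.Agent.Helper87.FeitW2
import Cfsg.Agent.Helper80.FeitW5
import Cfsg.Agent.Helper15.ZassKernel
import Cfsg.Agent.Helper9.FP3
import Cfsg.Agent.Helper49.FeitZ2

/-!
# (Z) for S0885: the data of Feit's theorem in a simple Zassenhaus group (helper78)
-/

set_option autoImplicit false

namespace Cfsg.Agent.Helper78

open Cfsg Cfsg.Agent.Helper75 Cfsg.Agent.Helper9.FP Cfsg.Agent.Helper79.Feit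
open MulAction
open scoped ComplexConjugate

section FeitZ

variable {G Ω : Type*} [Group G] [MulAction G Ω]

/-- The Frobenius kernel contains the centralizers of its non-identity elements. -/
theorem feitZ_hC [Finite G] [Fintype Ω] (hZ : Cfsg.IsZassenhausGroup G Ω) (a : Ω)
    (H : Subgroup G) (hHa : H ≤ stabilizer G a) (hHcard : Nat.card H + 1 = Fintype.card Ω)
    (hHfix : ∀ u ∈ H, u ≠ 1 → ∀ c : Ω, u • c = c → c = a) :
    ∀ k ∈ H, k ≠ 1 → Subgroup.centralizer ({k} : Set G) ≤ H := by
  intro k hk hk1 x hx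
  rw [Subgroup.mem_centralizer_singleton_iff] at hx
  have hka : k • a = a := hHa hk
  have hxa : x • a = a := by
    apply hHfix k hk hk1
    rw [← mul_smul, ← hx, mul_smul, hka]
  by_cases hx1 : x = 1
  · rw [hx1]; exact H.one_mem
  apply Cfsg.Agent.Helper15.Zass.mem_kernel_of_fix_only hZ a H hHa hHcard hHfix hxa
  intro c hc
  by_contra hca
  have hkc : x • (k • c) = k • c := by
    rw [← mul_smul, hx, mul_smul, hc]
  have hkc_ne_a : k • c ≠ a := by
    intro h
    apply hca
    have : k • c = k • a := by rw [h, hka]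
    exact MulAction.injective k this
  by_cases hkcc : k • c = c
  · exact hca (hHfix k hk hk1 c hkcc)
  · exact hx1 (hZ.2.2.1 x a c (k • c) (Ne.symm hca) (Ne.symm hkcc) (Ne.symm hkc_ne_a) hxa hc hkc)

/-- The order of the point stabilizer: `|G_a| = |H| * |G_{ab}|`. -/
theorem feitZ_relIndex [Fintype G] [Fintype Ω] (hZ : Cfsg.IsZassenhausGroup G Ω) {a b : Ω}
    (hab : a ≠ b) (H : Subgroup G) (hHa : H ≤ stabilizer G a)
    (hHcard : Nat.card H + 1 = Fintype.card Ω) :
    H.relIndex (stabilizer G a) = Nat.card ↥(stabilizer G a ⊓ stabilizer G b : Subgroup G) := by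
  have h2 := hZ.2.1
  have hpt : IsPretransitive G Ω := isPretransitive_of_is_two_pretransitive (h2 := h2)
  have h1 := Cfsg.Agent.Helper15.Zass.card_group_eq h2 hab
  have h3 : H.relIndex (stabilizer G a) * (stabilizer G a).index = H.index :=
    Subgroup.relIndex_mul_index hHa
  have h4 : (stabilizer G a).index = Nat.card Ω := MulAction.index_stabilizer_of_transitive G a
  have h5 : Nat.card H * H.index = Nat.card G := Subgroup.card_mul_index H
  rw [Nat.card_eq_fintype_card (α := Ω)] at h4
  set n := Fintype.card Ω with hn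
  set e := Nat.card ↥(stabilizer G a ⊓ stabilizer G b : Subgroup G) with he
  set r := H.relIndex (stabilizer G a) with hr
  set m := Nat.card H with hm
  rw [← h3, h4, h1] at h5
  have hn1 : n = m + 1 := hHcard.symm
  have hm0 : 0 < m := Nat.card_pos
  rw [hn1] at h5
  have h6 : (m * (m + 1)) * r = (m * (m + 1)) * e := by
    have : (m + 1) * (m + 1) - (m + 1) = m * (m + 1) := by
      have : (m + 1) * (m + 1) = m * (m + 1) + (m + 1) := by ring
      omega
    rw [this] at h5
    linarith [h5]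
  exact Nat.eq_of_mul_eq_mul_left (by positivity) h6

/-- The two-point stabilizer of a Zassenhaus group is non-trivial. -/
theorem feitZ_one_lt [Finite G] (hZ : Cfsg.IsZassenhausGroup G Ω) {a b : Ω} (hab : a ≠ b) :
    1 < Nat.card ↥(stabilizer G a ⊓ stabilizer G b : Subgroup G) := by
  obtain ⟨y, hy1, hya, hyb⟩ := Cfsg.Agent.Helper60.Zassenhaus.exists_ne_one_fix hZ hab
  rw [Subgroup.one_lt_card_iff_ne_bot]
  intro hbot
  have : y ∈ (stabilizer G a ⊓ stabilizer G b : Subgroup G) := Subgroup.mem_inf.mpr ⟨hya, hyb⟩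
  rw [hbot, Subgroup.mem_bot] at this
  exact hy1 this


/-- (Z) The data of Feit's theorem in a simple Zassenhaus group with `2e < h - 1`. -/
theorem feitData_of_zassenhaus {G Ω : Type*} [Group G] [Fintype G] [MulAction G Ω] [Fintype Ω] (hZ : Cfsg.IsZassenhausGroup G Ω) {a b : Ω} (hab : a ≠ b) [IsSimpleGroup G] (h e : ℕ) (hh : Fintype.card Ω = h + 1) (he : Nat.card ↥(MulAction.stabilizer G a ⊓ MulAction.stabilizer G b : Subgroup G) = e) (hodd : Odd e) (hlt : 2 * e < h - 1) (H : Subgroup G) (hHa : H ≤ MulAction.stabilizer G a) (hHcard : Nat.card H + 1 = Fintype.card Ω) (hHfix : ∀ u ∈ H, u ≠ 1 → ∀ c : Ω, u • c = c → c = a) [Fintype ↥(Subgroup.normalizer (H : Set G))] : FeitData H e h := by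
  obtain ⟨hTI, hN⟩ := Cfsg.Agent.S0878.result hZ a H hHa hHcard hHfix
  have hC := feitZ_hC hZ a H hHa hHcard hHfix
  have hrel := feitZ_relIndex hZ hab H hHa hHcard
  rw [he] at hrel
  have he1 : 1 < e := by rw [← he]; exact feitZ_one_lt hZ hab
  have hcaE : caE H = e := by
    show H.relIndex (Subgroup.normalizer (H : Set G)) = e
    rw [hN]; exact hrel
  have hcardH : Nat.card H = h := by omega
  have hidx : (Subgroup.normalizer (H : Set G)).index = h + 1 := by
    have hpt : IsPretransitive G Ω := isPretransitive_of_is_two_pretransitive (h2 := hZ.2.1)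
    rw [hN, MulAction.index_stabilizer_of_transitive G a, Nat.card_eq_fintype_card, hh]
  have hH1 : H ≠ ⊥ := by
    intro hbot
    rw [hbot, Subgroup.card_bot] at hcardH
    omega
  -- nilpotency of `H`
  have hle : H ≤ Subgroup.normalizer (H : Set G) := Subgroup.le_normalizer
  have hK'top : H.subgroupOf (Subgroup.normalizer (H : Set G)) ≠ ⊤ := by
    intro htop
    have h1 : H.relIndex (Subgroup.normalizer (H : Set G)) = 1 := by
      show (H.subgroupOf (Subgroup.normalizer (H : Set G))).index = 1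
      rw [htop, Subgroup.index_top]
    have h2 : caE H = 1 := h1
    omega
  obtain ⟨hnil', -⟩ := fp_frob_type (H.subgroupOf (Subgroup.normalizer (H : Set G))) hK'top
    (tf_hC' hC)
  have hnil : Group.IsNilpotent H :=
    @Group.nilpotent_of_mulEquiv _ _ _ _ hnil' (Subgroup.subgroupOfEquivOfLe hle)
  obtain ⟨χ₁, hχ₁, hdeg⟩ := Cfsg.Agent.Helper80.FeitW.exists_tfS_degree_caE hC hH1 hnil
  rw [hcaE] at hdeg
  refine Cfsg.Agent.Helper49.FeitZ2.feitData_of_group_fields hZ hab h e hh he hodd hlt H hHa hHcard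
    hHfix hC ?_ hcaE hcardH hidx he1 ⟨χ₁, hχ₁, hdeg⟩
    (Cfsg.Agent.S0884.result hZ hab h e hh he hodd hlt H hHa hHcard hHfix)
  intro g hg
  rw [hN] at hg
  exact hTI g hg

end FeitZ

end Cfsg.Agent.Helper78
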