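import Cfsg.Agent.Helper78.FongMax
import Cfsg.Agent.Helper16.DefectClasses

/-!
# Height-zero characters with large inertia group

`K ⊴ X`, `b` an `X`-stable block of `K`: some height-zero character of `b` has an inertia group of
index prime to `p`.
-/

set_option autoImplicit false
set_option linter.unusedSectionVars false
set_option linter.unusedVariables false

namespace Cfsg.Agent.Helper78

open Cfsg
open scoped ComplexConjugate

universe u

section

variable {X : Type u} [Group X] [Fintype X] {M : Ideal AlgInt} {p : ℕ}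

/-- A block of `X` covering `b` of maximal defect. -/
theorem exists_max_defect_covering [hMp : M.IsPrime] (p : ℕ) (K : Subgroup X) [Fintype K]
    (b : Set (IrrCharacter K)) (hne : b.Nonempty) :
    ∃ B' : Set (IrrCharacter X), IsPBlock M B' ∧
      (∃ χ ∈ B', ∃ θ ∈ b, classInner (fun n : K => (χ : X → ℂ) n) (θ : K → ℂ) ≠ 0) ∧
      ∀ B'' : Set (IrrCharacter X), IsPBlock M B'' →
        (∃ χ ∈ B'', ∃ θ ∈ b, classInner (fun n : K => (χ : X → ℂ) n) (θ : K → ℂ) ≠ 0) →
        blockDefect p B'' ≤ blockDefect p B' := by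
  classical
  obtain ⟨θ₀, hθ₀⟩ := hne
  obtain ⟨ψ₁, hψ₁⟩ := Helper16.exists_irr_over K θ₀
  let S : Set (Set (IrrCharacter X)) := {B' | IsPBlock M B' ∧ ∃ χ ∈ B', ∃ θ ∈ b,
    classInner (fun n : K => (χ : X → ℂ) n) (θ : K → ℂ) ≠ 0}
  have hSne : S.Nonempty := ⟨blockOf M (ψ₁ : X → ℂ), ⟨ψ₁, rfl⟩, ψ₁, mem_blockOf_self hMp ψ₁, θ₀,
    hθ₀, hψ₁⟩
  haveI : Finite (IrrCharacter X) := Helper74.irr_finite
  have hSfin : S.Finite := Set.toFinite S
  obtain ⟨B', ⟨hB', hcov'⟩, hmax⟩ :=
    Set.exists_max_image S (fun B' => blockDefect p B') hSfin hSne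
  exact ⟨B', hB', hcov', fun B'' hB'' hc'' => hmax B'' ⟨hB'', hc''⟩⟩

variable (K : Subgroup X) [hK : K.Normal] [Fintype K]

/-- For an `X`-stable block `b` of `K ⊴ X`, some height-zero `θ ∈ b` has inertia group of index
prime to `p`. -/
theorem exists_height_zero_index_inertia [Fact p.Prime] (hM : IsPModular p M)
    (b : Set (IrrCharacter K)) (hb : IsPBlock M b) (hst : Helper16.GStable K b) :
    ∃ θ ∈ b, blockHeight p b (θ : K → ℂ) = 0 ∧
      ¬ p ∣ (Helper15.inertia K (θ : K → ℂ)).index := by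
  classical
  have hMp : M.IsPrime := hM.2.1.isPrime
  have hp : p.Prime := Fact.out
  obtain ⟨B', hB', hcov', hmax⟩ :=
    exists_max_defect_covering (M := M) p K b (isPBlock_nonempty hMp hb)
  have hinv : ∀ g : X, ∀ θ ∈ b, ∀ θ' : IrrCharacter K,
      (∀ n : K, (θ' : K → ℂ) n = (θ : K → ℂ) ⟨g * n * g⁻¹, hK.conj_mem n n.2 g⟩) → θ' ∈ b := by
    intro g θ hθ θ' h
    have : θ' = Helper16.irrConj K g θ := Subtype.ext (funext h)
    rw [this]
    exact hst θ hθ g
  obtain ⟨ψ₂, hψ₂⟩ := isPBlock_nonempty hMp hB'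
  obtain ⟨P', hP'⟩ := Helper16.exists_defectGroup (M := M) p ψ₂
  rw [← isPBlock_eq_blockOf_of_mem hMp hB' hψ₂] at hP'
  have hfong := (Cfsg.Agent.S0970.result p M hM K b hb hinv B' hB' hcov' hmax P' hP').2.2
  -- a height zero character of `B'`
  obtain ⟨χ', hχ', hdefB', hminB'⟩ := Helper16.exists_height_zero' p B' ⟨ψ₂, hψ₂⟩
  -- it lies over `b`
  obtain ⟨ψ₀, hψ₀, θ₁, hθ₁, hc₁⟩ := hcov'
  have hlies : Helper16.LiesOver K (χ' : X → ℂ) b :=
    (Helper16.liesOver_iff_of_sameBlock K hst (fun n => Helper77.blockCoeff_memLocalRing hb n)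
      (sameBlock_of_mem_of_mem hMp hB' hψ₀ hχ')).mp ⟨θ₁, hθ₁, hc₁⟩
  obtain ⟨θ, hθ, hcθ⟩ := hlies
  refine ⟨θ, hθ, ?_⟩
  -- Clifford: the degree of `χ'`
  obtain ⟨m, hm⟩ := Helper15.isCharacter_inner_nat
    (Helper74.isCharacter_restrict K (Helper74.irr_isCharacter χ')) (Helper74.irr_isCharacter θ)
  have hm0 : m ≠ 0 := by
    intro h0
    apply hcθ
    rw [hm, h0]
    simp
  have hχ1 : (χ' : X → ℂ) 1 = ((m * ((Helper15.inertia K (θ : K → ℂ)).index *
      charDegree (θ : K → ℂ)) : ℕ) : ℂ) := by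
    have h := congrFun (Helper15.clifford_restrict K χ'.2 θ.2 hcθ) 1
    simp only [Pi.smul_apply, Finset.sum_apply, smul_eq_mul] at h
    have hsum : ∑ φ ∈ Helper15.conjOrbit K (θ : K → ℂ), φ 1 =
        ((Helper15.conjOrbit K (θ : K → ℂ)).card : ℂ) * (charDegree (θ : K → ℂ) : ℂ) := by
      rw [Finset.sum_congr rfl (fun φ hφ => ?_), Finset.sum_const, nsmul_eq_mul]
      obtain ⟨g, rfl⟩ := (Helper15.mem_conjOrbit K).mp hφ
      rw [Helper15.conjFun_apply_one, irrChar_one_eq_charDegree θ.2]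
    rw [hsum, Helper15.card_conjOrbit, hm] at h
    have h' : (χ' : X → ℂ) 1 = (χ' : X → ℂ) ((1 : K) : X) := by simp
    rw [h', h]
    push_cast
    ring
  have hdeg : charDegree (χ' : X → ℂ) = m * ((Helper15.inertia K (θ : K → ℂ)).index *
      charDegree (θ : K → ℂ)) := by
    have := irrChar_one_eq_charDegree χ'.2
    rw [hχ1] at this
    exact_mod_cast this.symm
  have hidx0 : (Helper15.inertia K (θ : K → ℂ)).index ≠ 0 := Subgroup.index_ne_zero_of_finite
  have hθ0 : charDegree (θ : K → ℂ) ≠ 0 := (charDegree_pos_of_isIrrCharacter θ.2).ne'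
  have hv : (charDegree (χ' : X → ℂ)).factorization p = m.factorization p +
      ((Helper15.inertia K (θ : K → ℂ)).index.factorization p +
        (charDegree (θ : K → ℂ)).factorization p) := by
    rw [hdeg, Nat.factorization_mul hm0 (Nat.mul_ne_zero hidx0 hθ0),
      Nat.factorization_mul hidx0 hθ0]
    rfl
  -- valuations
  have h1 : (charDegree (χ' : X → ℂ)).factorization p ≤ (Nat.card X).factorization p :=
    Helper16.factorization_charDegree_le p χ'
  have h2 : (charDegree (θ : K → ℂ)).factorization p ≤ (Nat.card K).factorization p :=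
    Helper16.factorization_charDegree_le p θ
  have h3 : sInf ((fun χ : IrrCharacter K => (charDegree (χ : K → ℂ)).factorization p) '' b) ≤
      (charDegree (θ : K → ℂ)).factorization p := Nat.sInf_le ⟨θ, hθ, rfl⟩
  have h4 := factorization_card_eq_index_add p K
  have hdefb : blockDefect p b = (Nat.card K).factorization p -
      sInf ((fun χ : IrrCharacter K => (charDegree (χ : K → ℂ)).factorization p) '' b) := rfl
  have hht : blockHeight p b (θ : K → ℂ) = (charDegree (θ : K → ℂ)).factorization p -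
      sInf ((fun χ : IrrCharacter K => (charDegree (χ : K → ℂ)).factorization p) '' b) := rfl
  rw [hdefB', hdefb] at hfong
  have h5 : (Helper15.inertia K (θ : K → ℂ)).index.factorization p = 0 := by omega
  refine ⟨by omega, ?_⟩
  rcases (Nat.factorization_eq_zero_iff _ _).mp h5 with h6 | h6 | h6
  · exact absurd hp h6
  · exact h6
  · exact absurd h6 hidx0

end

end Cfsg.Agent.Helper78
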