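import Cfsg.Agent.Helper16.KnorrDefect
import Cfsg.Agent.Helper78.ExtFirstMain
import Cfsg.Agent.Helper78.InducedTrans
import Cfsg.Agent.Helper78.ChainTransport
import Cfsg.Agent.Helper77.MaxPair
import Cfsg.Agent.S0919

/-!
# Harris–Knörr correspondence (S4674): common imports and the conjugation automorphism

`conjAutOf L x hx : ↥L ≃* ↥L` is conjugation `l ↦ x l x⁻¹` by an element `x` normalizing `L`.
Note `irrMap (conjAutOf L x hx) ξ l = ξ (x⁻¹ l x)`, which matches `conjBlk N x⁻¹`.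
-/

set_option autoImplicit false

namespace Cfsg.Agent.Helper78

open Cfsg

universe u

variable {G : Type u} [Group G]

/-- Conjugation by `x` normalizing `L`, as an automorphism of `↥L`. -/
def conjAutOf (L : Subgroup G) (x : G) (hx : x ∈ Subgroup.normalizer (L : Set G)) : ↥L ≃* ↥L where
  toFun l := ⟨x * l * x⁻¹, (Subgroup.mem_normalizer_iff.mp hx l).mp l.2⟩
  invFun l := ⟨x⁻¹ * l * x, by
    have := (Subgroup.mem_normalizer_iff.mp (Subgroup.inv_mem _ hx) l).mp l.2
    simpa using this⟩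
  left_inv l := by
    apply Subtype.ext
    show x⁻¹ * (x * l * x⁻¹) * x = l
    group
  right_inv l := by
    apply Subtype.ext
    show x * (x⁻¹ * l * x) * x⁻¹ = l
    group
  map_mul' a b := by
    apply Subtype.ext
    show x * (a * b) * x⁻¹ = (x * a * x⁻¹) * (x * b * x⁻¹)
    group

theorem conjAutOf_apply (L : Subgroup G) (x : G) (hx : x ∈ Subgroup.normalizer (L : Set G))
    (l : ↥L) : ((conjAutOf L x hx l : ↥L) : G) = x * (l : G) * x⁻¹ := rfl

theorem conjAutOf_symm_apply (L : Subgroup G) (x : G) (hx : x ∈ Subgroup.normalizer (L : Set G))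
    (l : ↥L) : (((conjAutOf L x hx).symm l : ↥L) : G) = x⁻¹ * (l : G) * x := rfl

theorem irrMap_conjAutOf_apply (L : Subgroup G) (x : G)
    (hx : x ∈ Subgroup.normalizer (L : Set G)) (ξ : IrrCharacter ↥L) (l : ↥L) :
    (irrMap (conjAutOf L x hx) ξ : ↥L → ℂ) l =
      (ξ : ↥L → ℂ) ⟨x⁻¹ * (l : G) * x, ((conjAutOf L x hx).symm l).2⟩ := by
  rw [irrMap_apply]
  rfl

end Cfsg.Agent.Helper78
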