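import Cfsg.Agent.Helper78.HKDefs
import Cfsg.Agent.Helper2.HK_KH1
import Cfsg.Agent.Helper77.PIndexNilpotent

/-!
# Harris–Knörr (S4674), piece KH2: the stable form of Knörr's theorem transported to `H`, `H ⊓ N`
-/

set_option autoImplicit false
set_option linter.unusedSectionVars false
set_option linter.unusedVariables false
set_option linter.style.haveILetI false

namespace Cfsg.Agent.Helper78

open Cfsg Cfsg.Agent.Helper2.HKKH1

universe u

variable {G : Type u} [Group G] [Fintype G] {M : Ideal AlgInt} {p : ℕ}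
variable (N : Subgroup G) [hN : N.Normal] [Fintype N]

/-- (KH2) A block `c` of `H` with defect group `D` covers a block of `H ⊓ N` with defect group
`D ⊓ N`. -/
theorem exists_covered_block_defect_flat [Fact p.Prime] (hM : IsPModular p M) (H : Subgroup G)
    [Fintype ↥(H ⊓ N)] {c : Set (IrrCharacter ↥H)} (hc : IsPBlock M c) {D : Subgroup G}
    (hDH : D ≤ H) (hD : IsDefectGroup p M c (D.subgroupOf H)) :
    ∃ e₁ : Set (IrrCharacter ↥(H ⊓ N)), IsPBlock M e₁ ∧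
      (∃ ψ ∈ c, ∃ ξ ∈ e₁, classInner
        (fun l : ↥(H ⊓ N) => (ψ : ↥H → ℂ) (Subgroup.inclusion inf_le_left l))
        (ξ : ↥(H ⊓ N) → ℂ) ≠ 0) ∧
      IsDefectGroup p M e₁ ((D ⊓ N).subgroupOf (H ⊓ N)) := by
  classical
  haveI hMp : M.IsPrime := hM.2.1.isPrime
  haveI : Fintype ↥H := Fintype.ofFinite _
  haveI hLHn : (N.subgroupOf H).Normal := Subgroup.normal_subgroupOf
  haveI : Fintype ↥(N.subgroupOf H) := Fintype.ofFinite _
  -- (a) `c` covers some block of `LH`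
  obtain ⟨ψ, hψ⟩ := isPBlock_nonempty hMp hc
  obtain ⟨ξ₀, hξ₀⟩ := Helper77.exists_constituent_res (N.subgroupOf H) ψ
  have he₀ : IsPBlock M (blockOf M (ξ₀ : ↥(N.subgroupOf H) → ℂ)) := ⟨ξ₀, rfl⟩
  have hcov₀ : ∃ χ ∈ c, ∃ θ ∈ blockOf M (ξ₀ : ↥(N.subgroupOf H) → ℂ),
      classInner (fun n : ↥(N.subgroupOf H) => (χ : ↥H → ℂ) n)
        (θ : ↥(N.subgroupOf H) → ℂ) ≠ 0 :=
    ⟨ψ, hψ, ξ₀, mem_blockOf_self hMp ξ₀, hξ₀⟩
  -- (b) the stable Knörr theorem in `↥H`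
  obtain ⟨e', he', ⟨g, hg⟩, -, hdef'⟩ :=
    Helper16.exists_stable_covered_block_defect (N.subgroupOf H) hM he₀ hc hcov₀ hD
  have hcov' : ∃ χ ∈ c, ∃ θ ∈ e', classInner (fun n : ↥(N.subgroupOf H) => (χ : ↥H → ℂ) n)
      (θ : ↥(N.subgroupOf H) → ℂ) ≠ 0 := by
    rw [hg]
    exact Helper16.covers_conjBlk (N.subgroupOf H) hcov₀ g
  -- (c) transport back along `σ.symm`
  refine ⟨irrMap (sigmaInf N H).symm '' e',
    Helper77.isPBlock_image_irrMap (sigmaInf N H).symm he', ?_, ?_⟩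
  · obtain ⟨χ, hχ, θ, hθ, hne⟩ := hcov'
    refine ⟨χ, hχ, irrMap (sigmaInf N H).symm θ, ⟨θ, hθ, rfl⟩, ?_⟩
    rw [← classInner_comp_mulEquiv (sigmaInf N H)] at hne
    have h2 : (fun a : ↥(H ⊓ N) => (θ : ↥(N.subgroupOf H) → ℂ) (sigmaInf N H a)) =
        (irrMap (sigmaInf N H).symm θ : ↥(H ⊓ N) → ℂ) := by
      funext l
      rw [irrMap_apply]
      rfl
    rw [h2] at hne
    exact hne
  · have hmap : (((D.subgroupOf H) ⊓ N.subgroupOf H).subgroupOf (N.subgroupOf H)).map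
        (((sigmaInf N H).symm : ↥(N.subgroupOf H) ≃* ↥(H ⊓ N)) :
          ↥(N.subgroupOf H) →* ↥(H ⊓ N)) = (D ⊓ N).subgroupOf (H ⊓ N) := by
      ext x
      constructor
      · rintro ⟨y, hy, rfl⟩
        exact ⟨hy.1, hy.2⟩
      · intro hx
        exact ⟨sigmaInf N H x, ⟨hx.1, hx.2⟩, (sigmaInf N H).symm_apply_apply x⟩
    rw [← hmap]
    exact isDefectGroup_image_irrMap p (sigmaInf N H).symm hdef'

end Cfsg.Agent.Helper78
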