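import Cfsg.Agent.Helper78.HKDefs
import Cfsg.Agent.Helper95.HK_N2
import Cfsg.Agent.Helper39.HK_N3
import Cfsg.Agent.Helper93.HK_C1
import Cfsg.Agent.Helper4.HK_FM
import Cfsg.Agent.Helper68.HK_F
import Cfsg.Agent.Helper80.HK_KH3
import Cfsg.Agent.Helper2.HK_KH1
import Cfsg.Agent.Helper54.HK_L1W
import Cfsg.Agent.Helper78.HKKH2

/-!
# Harris–Knörr correspondence (S4674): the nine input lemmas

Formalized by helper95 (N2), helper39 (N3), helper93 (C1), helper4 (FM), helper91/helper68 (F),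
helper80 (KH3), helper2 (KH1), helper54 (L1); (KH2) is in `HKKH2` (helper78, on helper2's `sigmaInf`) from helper78's paper proofs
(WANTED #3512-#3520); restated here in one namespace for the assembly `HKMain`.
-/

set_option autoImplicit false
set_option linter.unusedSectionVars false
set_option linter.unusedVariables false

namespace Cfsg.Agent.Helper78

open Cfsg
open scoped ComplexConjugate

universe u

section HK

variable {G : Type u} [Group G] [Fintype G] {M : Ideal AlgInt} {p : ℕ}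

/-- (C1) Induction "inside `K`" from `X ≤ K` is induction in the group `K` from any copy `Y` of `X`
inside `↥K`. -/
theorem isInducedBlockIn_iff_of_equiv {K X : Subgroup G} (Y : Subgroup ↥K) (τ : ↥X ≃* ↥Y)
    (hτ : ∀ x : X, ((τ x : ↥K) : G) = (x : G)) {b : Set (IrrCharacter ↥X)}
    {β : Set (IrrCharacter ↥K)} :
    IsInducedBlockIn M K X b β ↔ IsInducedBlock M Y (irrMap τ '' b) β :=
  Cfsg.Agent.Helper93.HKC1.isInducedBlockIn_iff_of_equiv Y τ hτ

/-- (FM) Brauer's first main theorem over a subgroup `H ≥ N_G(D)`. -/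
theorem first_main_over [Fact p.Prime] (hM : IsPModular p M) (D H : Subgroup G) (hD : IsPGroup p D)
    (hH : Subgroup.normalizer (D : Set G) ≤ H) :
    (∀ c : Set (IrrCharacter ↥H), IsPBlock M c → IsDefectGroup p M c (D.subgroupOf H) →
      ∃ B : Set (IrrCharacter G), IsPBlock M B ∧ IsDefectGroup p M B D ∧ IsInducedBlock M H c B) ∧
    (∀ B : Set (IrrCharacter G), IsPBlock M B → IsDefectGroup p M B D →
      ∃ c : Set (IrrCharacter ↥H), IsPBlock M c ∧ IsDefectGroup p M c (D.subgroupOf H) ∧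
        IsInducedBlock M H c B) ∧
    (∀ (B : Set (IrrCharacter G)) (c c' : Set (IrrCharacter ↥H)), IsPBlock M c →
      IsDefectGroup p M c (D.subgroupOf H) → IsInducedBlock M H c B →
      IsPBlock M c' → IsDefectGroup p M c' (D.subgroupOf H) → IsInducedBlock M H c' B → c' = c) :=
  Cfsg.Agent.Helper4.HKFM.first_main_over hM D H hD hH

/-- (F) The first main theorem inside a subgroup `K`, in flat form. -/
theorem flat_first_main [Fact p.Prime] (hM : IsPModular p M) (K Q : Subgroup G) (hQK : Q ≤ K)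
    (hQ : IsPGroup p Q) :
    (∀ e₁ : Set (IrrCharacter ↥(Subgroup.normalizer (Q : Set G) ⊓ K)), IsPBlock M e₁ →
      IsDefectGroup p M e₁ (Q.subgroupOf (Subgroup.normalizer (Q : Set G) ⊓ K)) →
      ∃ d₁ : Set (IrrCharacter ↥K), IsPBlock M d₁ ∧ IsDefectGroup p M d₁ (Q.subgroupOf K) ∧
        IsInducedBlockIn M K (Subgroup.normalizer (Q : Set G) ⊓ K) e₁ d₁) ∧
    (∀ (d₁ : Set (IrrCharacter ↥K))
      (e₁ e₂ : Set (IrrCharacter ↥(Subgroup.normalizer (Q : Set G) ⊓ K))),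
      IsDefectGroup p M e₁ (Q.subgroupOf (Subgroup.normalizer (Q : Set G) ⊓ K)) →
      IsInducedBlockIn M K (Subgroup.normalizer (Q : Set G) ⊓ K) e₁ d₁ →
      IsInducedBlockIn M K (Subgroup.normalizer (Q : Set G) ⊓ K) e₂ d₁ → e₂ = e₁) :=
  Cfsg.Agent.Helper68.HKF.flat_first_main hM K Q hQK hQ

variable (N : Subgroup G) [hN : N.Normal] [Fintype N]

/-- (KH3) `ω_ψ(f|_H) = ω_ξ(f|_L)` for `ξ` a constituent of `ψ|_L`, `L = H ⊓ N`, and `f` a class
function of `G` vanishing off `N`. -/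
theorem omega_restrict_of_constituent_inf (H : Subgroup G) [Fintype ↥H] [Fintype ↥(H ⊓ N)]
    (ψ : IrrCharacter ↥H) (ξ : IrrCharacter ↥(H ⊓ N))
    (h : classInner (fun l : ↥(H ⊓ N) => (ψ : ↥H → ℂ) (Subgroup.inclusion inf_le_left l))
      (ξ : ↥(H ⊓ N) → ℂ) ≠ 0) {f : G → ℂ} (hf : IsClassFunction G f)
    (hfN : ∀ g : G, g ∉ N → f g = 0) :
    Helper16.omega (ψ : ↥H → ℂ) (fun h : ↥H => f h) =
      Helper16.omega (ξ : ↥(H ⊓ N) → ℂ) (fun l : ↥(H ⊓ N) => f l) :=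
  Cfsg.Agent.Helper80.HK.omega_restrict_of_constituent_inf N H ψ ξ h hf hfN

/-- (KH1) Knörr's theorem inside `H`, flat form. -/
theorem exists_defectGroup_inf_eq_flat [Fact p.Prime] (hM : IsPModular p M) (H : Subgroup G)
    [Fintype ↥(H ⊓ N)] {Q : Subgroup G} (hQL : Q ≤ H ⊓ N)
    {e : Set (IrrCharacter ↥(H ⊓ N))} (he : IsPBlock M e)
    (heQ : IsDefectGroup p M e (Q.subgroupOf (H ⊓ N)))
    {c : Set (IrrCharacter ↥H)} (hc : IsPBlock M c)
    (hcov : ∃ ψ ∈ c, ∃ ξ ∈ e, classInner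
      (fun l : ↥(H ⊓ N) => (ψ : ↥H → ℂ) (Subgroup.inclusion inf_le_left l))
      (ξ : ↥(H ⊓ N) → ℂ) ≠ 0) :
    ∃ D : Subgroup G, D ≤ H ∧ IsDefectGroup p M c (D.subgroupOf H) ∧ D ⊓ N = Q :=
  Cfsg.Agent.Helper2.HKKH1.exists_defectGroup_inf_eq_flat N hM H hQL he heQ hc hcov

/-- (L1) Covering is compatible with block induction. -/
theorem covers_of_induced [Fact p.Prime] (hM : IsPModular p M) (H : Subgroup G) [Fintype ↥(H ⊓ N)]
    {c : Set (IrrCharacter ↥H)} {B : Set (IrrCharacter G)} (hind : IsInducedBlock M H c B)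
    {e : Set (IrrCharacter ↥(H ⊓ N))} {d : Set (IrrCharacter ↥N)}
    (hed : IsInducedBlockIn M N (H ⊓ N) e d)
    (hcov : ∃ ψ ∈ c, ∃ ξ ∈ e, classInner
      (fun l : ↥(H ⊓ N) => (ψ : ↥H → ℂ) (Subgroup.inclusion inf_le_left l))
      (ξ : ↥(H ⊓ N) → ℂ) ≠ 0) :
    ∃ χ ∈ B, ∃ θ ∈ d, classInner (fun n : N => (χ : G → ℂ) n) (θ : N → ℂ) ≠ 0 :=
  Cfsg.Agent.Helper54.HKL1.covers_of_induced N hM H hind hed hcov

/-- (N2) The blocks of `N` covered by a block of `G` are conjugate. -/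
theorem exists_conjBlk_of_covers [hMp : M.IsPrime] {B : Set (IrrCharacter G)} (hB : IsPBlock M B)
    {d d₁ : Set (IrrCharacter ↥N)} (hd : IsPBlock M d) (hd₁ : IsPBlock M d₁)
    (hcov : ∃ χ ∈ B, ∃ θ ∈ d, classInner (fun n : N => (χ : G → ℂ) n) (θ : N → ℂ) ≠ 0)
    (hcov₁ : ∃ χ ∈ B, ∃ θ ∈ d₁, classInner (fun n : N => (χ : G → ℂ) n) (θ : N → ℂ) ≠ 0) :
    ∃ g : G, d₁ = conjBlk N g d :=
  Cfsg.Agent.Helper95.HKN2.exists_conjBlk_of_covers N hB hd hd₁ hcov hcov₁

/-- (N3) Conjugation is compatible with induction inside `N`. -/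
theorem isInducedBlockIn_conj (L : Subgroup G) (hLN : L ≤ N) (x : G)
    (hx : x ∈ Subgroup.normalizer (L : Set G))
    {e : Set (IrrCharacter ↥L)} {d : Set (IrrCharacter ↥N)} (hed : IsInducedBlockIn M N L e d) :
    IsInducedBlockIn M N L (irrMap (conjAutOf L x hx) '' e) (conjBlk N x⁻¹ d) :=
  Cfsg.Agent.Helper39.HKN3.isInducedBlockIn_conj N L hLN x hx hed

end HK

end Cfsg.Agent.Helper78
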