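import Cfsg.Agent.Helper78.HKLemmas

/-!
# The Harris–Knörr correspondence (assembly)
-/

set_option autoImplicit false
set_option linter.unusedSectionVars false
set_option linter.unusedVariables false

namespace Cfsg.Agent.Helper78

open Cfsg
open scoped ComplexConjugate

universe u

section HKMain

variable {G : Type u} [Group G] [Fintype G] {M : Ideal AlgInt} {p : ℕ}
variable (N : Subgroup G) [hN : N.Normal] [Fintype N]

/-- If `D ∩ N = Q` then `N_G(D) ≤ N_G(Q)`. -/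
theorem normalizer_le_normalizer_of_inf_eq {D Q : Subgroup G} (h : D ⊓ N = Q) :
    Subgroup.normalizer (D : Set G) ≤ Subgroup.normalizer (Q : Set G) := by
  intro x hx
  rw [Subgroup.mem_normalizer_iff] at hx ⊢
  intro q
  rw [← h, Subgroup.mem_inf, Subgroup.mem_inf, ← hx q]
  constructor
  · rintro ⟨h1, h2⟩
    exact ⟨h1, hN.conj_mem q h2 x⟩
  · rintro ⟨h1, h2⟩
    refine ⟨h1, ?_⟩
    have := hN.conj_mem _ h2 x⁻¹
    simpa [mul_assoc] using this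

/-- If `D₂ = y D y⁻¹` and both meet `N` in `Q`, then `y` normalizes `Q`. -/
theorem mem_normalizer_of_map_conj_inf {D D₂ Q : Subgroup G} (h : D ⊓ N = Q) (h₂ : D₂ ⊓ N = Q)
    {y : G} (hy : D₂ = D.map (MulAut.conj y).toMonoidHom) :
    y ∈ Subgroup.normalizer (Q : Set G) := by
  rw [Subgroup.mem_normalizer_iff]
  intro q
  constructor
  · intro hq
    rw [← h] at hq
    rw [← h₂, Subgroup.mem_inf, hy]
    exact ⟨⟨q, hq.1, rfl⟩, hN.conj_mem q hq.2 y⟩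
  · intro hq
    rw [← h₂, Subgroup.mem_inf, hy] at hq
    obtain ⟨⟨q', hq', hqq'⟩, hqN⟩ := hq
    have e : q' = q := by
      have : y * q' * y⁻¹ = y * q * y⁻¹ := hqq'
      have h3 := congrArg (fun t => y⁻¹ * t * y) this
      simpa [mul_assoc] using h3
    rw [← h, Subgroup.mem_inf]
    refine ⟨e ▸ hq', ?_⟩
    have := hN.conj_mem _ hqN y⁻¹
    simpa [mul_assoc] using this

/-- Elements of `N` fix the blocks of `N`. -/
theorem conjBlk_of_mem (b : Set (IrrCharacter ↥N)) {m : G} (hm : m ∈ N) : conjBlk N m b = b := by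
  ext θ
  show Helper16.irrConj N m⁻¹ θ ∈ b ↔ θ ∈ b
  have : Helper16.irrConj N m⁻¹ θ = θ := by
    apply Subtype.ext
    rw [Helper16.irrConj_coe]
    exact Helper15.conjFun_of_mem N (Helper16.irr_isClassFunction θ) (N.inv_mem hm)
  rw [this]

/-- The conjugate block as a transported block. -/
theorem conjBlk_eq_image_irrMap (g : G) (d : Set (IrrCharacter ↥N)) :
    conjBlk N g d = irrMap (MulAut.conjNormal g : ↥N ≃* ↥N).symm '' d := by
  ext θ'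
  constructor
  · intro h
    refine ⟨Helper16.irrConj N g⁻¹ θ', h, ?_⟩
    apply Subtype.ext
    funext n
    rw [irrMap_apply, MulEquiv.symm_symm, Helper16.irrConj_coe, Helper15.conjFun_apply]
    refine congrArg _ (Subtype.ext ?_)
    show g⁻¹ * ((MulAut.conjNormal g n : ↥N) : G) * g⁻¹⁻¹ = (n : G)
    rw [MulAut.conjNormal_apply]
    group
  · rintro ⟨θ, hθ, rfl⟩
    show Helper16.irrConj N g⁻¹ (irrMap (MulAut.conjNormal g : ↥N ≃* ↥N).symm θ) ∈ d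
    have : Helper16.irrConj N g⁻¹ (irrMap (MulAut.conjNormal g : ↥N ≃* ↥N).symm θ) = θ := by
      apply Subtype.ext
      funext n
      rw [Helper16.irrConj_coe, Helper15.conjFun_apply, irrMap_apply, MulEquiv.symm_symm]
      refine congrArg _ (Subtype.ext ?_)
      rw [MulAut.conjNormal_apply]
      show g * (g⁻¹ * (n : G) * g⁻¹⁻¹) * g⁻¹ = (n : G)
      group
    rw [this]
    exact hθ

/-- If a block `d` of `N` and its conjugate `d^g` both have defect group `Q`, then `d^g = d^x`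
for some `x ∈ N_G(Q)`. -/
theorem exists_normalizer_conjBlk [Fact p.Prime] (hM : IsPModular p M) {Q : Subgroup G}
    (hQN : Q ≤ N) {d : Set (IrrCharacter ↥N)} (hd : IsPBlock M d)
    (hdQ : IsDefectGroup p M d (Q.subgroupOf N)) (g : G)
    (hdQ' : IsDefectGroup p M (conjBlk N g d) (Q.subgroupOf N)) :
    ∃ x ∈ Subgroup.normalizer (Q : Set G), conjBlk N g d = conjBlk N x d := by
  classical
  haveI hMp : M.IsPrime := isPrime_of_isPModular hM
  have h1 : IsDefectGroup p M (conjBlk N g d)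
      ((Q.subgroupOf N).map ((MulAut.conjNormal g : ↥N ≃* ↥N).symm : ↥N →* ↥N)) := by
    rw [conjBlk_eq_image_irrMap]
    exact isDefectGroup_image_irrMap p _ hdQ
  obtain ⟨n, hn⟩ := Helper16.exists_conj_eq_of_isDefectGroup hM (isPBlock_conjBlk N g hd) h1 hdQ'
  -- `x₀ = n g⁻¹` normalizes `Q`
  have hmem : ∀ q : G, q ∈ Q ↔ (n : G) * g⁻¹ * q * ((n : G) * g⁻¹)⁻¹ ∈ Q := by
    intro q
    constructor
    · intro hq
      have hq' : (⟨q, hQN hq⟩ : ↥N) ∈ Q.subgroupOf N := Subgroup.mem_subgroupOf.mpr hq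
      have h2 : (MulAut.conj n).toMonoidHom
          (((MulAut.conjNormal g : ↥N ≃* ↥N).symm : ↥N →* ↥N) ⟨q, hQN hq⟩) ∈
          ((Q.subgroupOf N).map ((MulAut.conjNormal g : ↥N ≃* ↥N).symm : ↥N →* ↥N)).map
            (MulAut.conj n).toMonoidHom :=
        Subgroup.mem_map_of_mem _ (Subgroup.mem_map_of_mem _ hq')
      rw [← hn, Subgroup.mem_subgroupOf] at h2
      convert h2 using 1
      show (n : G) * g⁻¹ * q * ((n : G) * g⁻¹)⁻¹ =
        (n : G) * (((MulAut.conjNormal g : ↥N ≃* ↥N).symm ⟨q, hQN hq⟩ : ↥N) : G) * (n : G)⁻¹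
      rw [MulAut.conjNormal_symm_apply]
      group
    · intro hq
      have hqN : (n : G) * g⁻¹ * q * ((n : G) * g⁻¹)⁻¹ ∈ N := hQN hq
      have hq' : (⟨_, hqN⟩ : ↥N) ∈ Q.subgroupOf N := Subgroup.mem_subgroupOf.mpr hq
      rw [hn] at hq'
      obtain ⟨y, ⟨z, hz, rfl⟩, hyz⟩ := hq'
      have hz' : (z : G) ∈ Q := Subgroup.mem_subgroupOf.mp hz
      have h3 := congrArg Subtype.val hyz
      have h4 : (n : G) * (((MulAut.conjNormal g : ↥N ≃* ↥N).symm z : ↥N) : G) * (n : G)⁻¹ =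
          (n : G) * g⁻¹ * q * ((n : G) * g⁻¹)⁻¹ := h3
      rw [MulAut.conjNormal_symm_apply] at h4
      have h5 : (z : G) = q := by
        have h6 := congrArg (fun t => g * (n : G)⁻¹ * t * (n : G) * g⁻¹) h4
        simp only [mul_inv_rev, inv_inv] at h6
        have e1 : g * (n : G)⁻¹ * ((n : G) * (g⁻¹ * (z : G) * g) * (n : G)⁻¹) * (n : G) * g⁻¹
            = (z : G) := by group
        have e2 : g * (n : G)⁻¹ * ((n : G) * g⁻¹ * q * (g * (n : G)⁻¹)) * (n : G) * g⁻¹ = q := by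
          group
        rw [e1, e2] at h6
        exact h6
      rw [← h5]
      exact hz'
  have hx₀ : (n : G) * g⁻¹ ∈ Subgroup.normalizer (Q : Set G) :=
    Subgroup.mem_normalizer_iff.mpr hmem
  refine ⟨((n : G) * g⁻¹)⁻¹, Subgroup.inv_mem _ hx₀, ?_⟩
  have e : ((n : G) * g⁻¹)⁻¹ = g * (n : G)⁻¹ := by group
  rw [e, ← Helper16.conjBlk_conjBlk N (n : G)⁻¹ g d, conjBlk_of_mem N _ (N.inv_mem n.2)]

/-- Covering is insensitive to conjugation by elements of `H`. -/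
theorem classInner_restrict_irrMap_conjAutOf (H : Subgroup G) [Fintype ↥H] [Fintype ↥(H ⊓ N)]
    {x : G}
    (hxH : x ∈ H) (hx : x ∈ Subgroup.normalizer ((H ⊓ N : Subgroup G) : Set G))
    (ψ : IrrCharacter ↥H) (ξ : IrrCharacter ↥(H ⊓ N)) :
    classInner (fun l : ↥(H ⊓ N) => (ψ : ↥H → ℂ) (Subgroup.inclusion inf_le_left l))
      (irrMap (conjAutOf (H ⊓ N) x hx) ξ : ↥(H ⊓ N) → ℂ) =
    classInner (fun l : ↥(H ⊓ N) => (ψ : ↥H → ℂ) (Subgroup.inclusion inf_le_left l))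
      (ξ : ↥(H ⊓ N) → ℂ) := by
  rw [← classInner_comp_mulEquiv (conjAutOf (H ⊓ N) x hx)
    (fun l : ↥(H ⊓ N) => (ψ : ↥H → ℂ) (Subgroup.inclusion inf_le_left l))
    (irrMap (conjAutOf (H ⊓ N) x hx) ξ : ↥(H ⊓ N) → ℂ)]
  congr 1
  · funext l
    have hcl := Helper16.irr_isClassFunction ψ
    have := hcl (Subgroup.inclusion inf_le_left l) ⟨x, hxH⟩
    rw [← this]
    congr 1
  · funext l
    rw [irrMap_apply_apply]

/-- Elements of `H` normalize `H ⊓ N`. -/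
theorem mem_normalizer_inf_of_mem (H : Subgroup G) {x : G} (hxH : x ∈ H) :
    x ∈ Subgroup.normalizer ((H ⊓ N : Subgroup G) : Set G) := by
  rw [Subgroup.mem_normalizer_iff]
  intro l
  rw [Subgroup.mem_inf, Subgroup.mem_inf]
  constructor
  · rintro ⟨h1, h2⟩
    exact ⟨H.mul_mem (H.mul_mem hxH h1) (H.inv_mem hxH), hN.conj_mem l h2 x⟩
  · rintro ⟨h1, h2⟩
    refine ⟨?_, ?_⟩
    · have := H.mul_mem (H.mul_mem (H.inv_mem hxH) h1) hxH
      simpa [mul_assoc] using this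
    · have := hN.conj_mem _ h2 x⁻¹
      simpa [mul_assoc] using this

variable (Q : Subgroup G)

local notation "𝓗" => Subgroup.normalizer (Q : Set G)

/-- **The Harris–Knörr correspondence.** -/
theorem harris_knorr [Fact p.Prime] (hM : IsPModular p M) (hQ : IsPGroup p Q)
    (hQN : Q ≤ N) [Fintype ↥(Subgroup.normalizer (Q : Set G) ⊓ N)]
    (d : Set (IrrCharacter ↥N)) (hd : IsPBlock M d)
    (hdQ : IsDefectGroup p M d (Q.subgroupOf N))
    (e : Set (IrrCharacter ↥(Subgroup.normalizer (Q : Set G) ⊓ N))) (he : IsPBlock M e)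
    (heQ : IsDefectGroup p M e (Q.subgroupOf (Subgroup.normalizer (Q : Set G) ⊓ N)))
    (hed : IsInducedBlockIn M N (Subgroup.normalizer (Q : Set G) ⊓ N) e d) :
    (∀ c : Set (IrrCharacter ↥(Subgroup.normalizer (Q : Set G))), IsPBlock M c →
      (∃ ψ ∈ c, ∃ ξ ∈ e, classInner
        (fun l : ↥(Subgroup.normalizer (Q : Set G) ⊓ N) =>
          (ψ : ↥(Subgroup.normalizer (Q : Set G)) → ℂ) (Subgroup.inclusion inf_le_left l))
        (ξ : ↥(Subgroup.normalizer (Q : Set G) ⊓ N) → ℂ) ≠ 0) →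
      ∃! B : Set (IrrCharacter G), IsInducedBlock M (Subgroup.normalizer (Q : Set G)) c B ∧
        (∃ χ ∈ B, ∃ θ ∈ d, classInner (fun n : N => (χ : G → ℂ) n) (θ : N → ℂ) ≠ 0)) ∧
    (∀ B : Set (IrrCharacter G), IsPBlock M B →
      (∃ χ ∈ B, ∃ θ ∈ d, classInner (fun n : N => (χ : G → ℂ) n) (θ : N → ℂ) ≠ 0) →
      ∃! c : Set (IrrCharacter ↥(Subgroup.normalizer (Q : Set G))),
        (IsPBlock M c ∧ ∃ ψ ∈ c, ∃ ξ ∈ e, classInner
          (fun l : ↥(Subgroup.normalizer (Q : Set G) ⊓ N) =>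
            (ψ : ↥(Subgroup.normalizer (Q : Set G)) → ℂ) (Subgroup.inclusion inf_le_left l))
          (ξ : ↥(Subgroup.normalizer (Q : Set G) ⊓ N) → ℂ) ≠ 0) ∧
        IsInducedBlock M (Subgroup.normalizer (Q : Set G)) c B) := by
  classical
  haveI hMp : M.IsPrime := isPrime_of_isPModular hM
  haveI : Fintype ↥(Subgroup.normalizer (Q : Set G)) := Fintype.ofFinite _
  have hQH : Q ≤ 𝓗 := Subgroup.le_normalizer
  have hQL : Q ≤ 𝓗 ⊓ N := le_inf hQH hQN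
  refine ⟨fun c hc hcov => ?_, fun B hB hcovB => ?_⟩
  · -- Part A
    obtain ⟨B, hind⟩ := Cfsg.Agent.S0919.result p M hM Q 𝓗 hQ hQH
      (Subgroup.centralizer_le_normalizer _) le_rfl c hc
    refine ⟨B, ⟨hind, covers_of_induced N hM 𝓗 hind hed hcov⟩, ?_⟩
    rintro B' ⟨hind', -⟩
    exact Helper77.isInducedBlock_unique 𝓗 hind' hind
  · -- Part B
    obtain ⟨D, hD, hDN⟩ := Helper16.exists_defectGroup_inf_eq N hM hd hQN hdQ hB hcovB
    have hDp : IsPGroup p D := IsPGroup.of_card (Helper77.card_defectGroup hM hB D hD)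
    have hND : Subgroup.normalizer (D : Set G) ≤ 𝓗 := normalizer_le_normalizer_of_inf_eq N hDN
    have hDH : D ≤ 𝓗 := Subgroup.le_normalizer.trans hND
    obtain ⟨hFM1, hFM2, hFM3⟩ := first_main_over hM D 𝓗 hDp hND
    obtain ⟨c, hc, hcD, hcB⟩ := hFM2 B hB hD
    -- `c` covers `e`
    have hcove : ∃ ψ ∈ c, ∃ ξ ∈ e, classInner
        (fun l : ↥(𝓗 ⊓ N) => (ψ : ↥𝓗 → ℂ) (Subgroup.inclusion inf_le_left l))
        (ξ : ↥(𝓗 ⊓ N) → ℂ) ≠ 0 := by
      obtain ⟨e₁, he₁, hcov₁, he₁D⟩ := exists_covered_block_defect_flat N hM 𝓗 hc hDH hcD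
      rw [hDN] at he₁D
      obtain ⟨hF1, hF2⟩ := flat_first_main hM N Q hQN hQ
      obtain ⟨d₁, hd₁, hd₁Q, hed₁⟩ := hF1 e₁ he₁ he₁D
      have hcovB₁ := covers_of_induced N hM 𝓗 hcB hed₁ hcov₁
      obtain ⟨g, hg⟩ := exists_conjBlk_of_covers N hB hd hd₁ hcovB hcovB₁
      rw [hg] at hd₁Q
      obtain ⟨x, hxH, hx⟩ := exists_normalizer_conjBlk N hM hQN hd hdQ g hd₁Q
      have hxiH : x⁻¹ ∈ 𝓗 := Subgroup.inv_mem _ hxH
      have hxiL := mem_normalizer_inf_of_mem N 𝓗 hxiH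
      have hed₂ := isInducedBlockIn_conj N (𝓗 ⊓ N) inf_le_right x⁻¹ hxiL hed
      rw [inv_inv, ← hx, ← hg] at hed₂
      have he₂ : irrMap (conjAutOf (𝓗 ⊓ N) x⁻¹ hxiL) '' e = e₁ :=
        hF2 d₁ e₁ _ he₁D hed₁ hed₂
      obtain ⟨ψ, hψ, ξ₁, hξ₁, hne⟩ := hcov₁
      rw [← he₂] at hξ₁
      obtain ⟨ξ, hξ, rfl⟩ := hξ₁
      refine ⟨ψ, hψ, ξ, hξ, ?_⟩
      rw [← classInner_restrict_irrMap_conjAutOf N 𝓗 hxiH hxiL ψ ξ]
      exact hne
    refine ⟨c, ⟨⟨hc, hcove⟩, hcB⟩, ?_⟩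
    rintro c' ⟨⟨hc', hcov'⟩, hc'B⟩
    obtain ⟨D₂, hD₂H, hc'D₂, hD₂N⟩ :=
      exists_defectGroup_inf_eq_flat N hM 𝓗 hQL he heQ hc' hcov'
    have hND₂ : Subgroup.normalizer (D₂ : Set G) ≤ 𝓗 :=
      normalizer_le_normalizer_of_inf_eq N hD₂N
    have hD₂p : IsPGroup p D₂ := by
      have h1 : IsPGroup p (D₂.subgroupOf 𝓗) :=
        IsPGroup.of_card (Helper77.card_defectGroup hM hc' _ hc'D₂)
      exact h1.of_equiv (Subgroup.subgroupOfEquivOfLe hD₂H)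
    obtain ⟨B₂, hB₂, hB₂D, hc'B₂⟩ := (first_main_over hM D₂ 𝓗 hD₂p hND₂).1 c' hc' hc'D₂
    have hBB₂ : B₂ = B := Helper77.isInducedBlock_unique 𝓗 hc'B₂ hc'B
    rw [hBB₂] at hB₂D
    obtain ⟨y, hy⟩ := Helper16.exists_conj_eq_of_isDefectGroup hM hB hD hB₂D
    have hyH : y ∈ 𝓗 := mem_normalizer_of_map_conj_inf N hDN hD₂N hy
    -- `c'` also has defect group `D`
    have hc'D : IsDefectGroup p M c' (D.subgroupOf 𝓗) := by
      obtain ⟨ψ', hψ'⟩ := isPBlock_nonempty hMp hc'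
      have hceq := isPBlock_eq_blockOf_of_mem hMp hc' hψ'
      rw [hceq] at hc'D₂ ⊢
      have h2 := isDefectGroup_map_conj ψ' hc'D₂ (⟨y, hyH⟩ : ↥𝓗)⁻¹
      convert h2 using 1
      ext z
      rw [Subgroup.mem_subgroupOf, Subgroup.mem_map]
      constructor
      · intro hz
        refine ⟨(⟨y, hyH⟩ : ↥𝓗) * z * (⟨y, hyH⟩ : ↥𝓗)⁻¹, ?_, ?_⟩
        · rw [Subgroup.mem_subgroupOf, hy]
          exact ⟨(z : G), hz, rfl⟩
        · show (⟨y, hyH⟩ : ↥𝓗)⁻¹ * ((⟨y, hyH⟩ : ↥𝓗) * z * (⟨y, hyH⟩ : ↥𝓗)⁻¹) *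
            (⟨y, hyH⟩ : ↥𝓗)⁻¹⁻¹ = z
          group
      · rintro ⟨w, hw, rfl⟩
        rw [Subgroup.mem_subgroupOf, hy] at hw
        obtain ⟨v, hv, hvw⟩ := hw
        have hvw' : y * v * y⁻¹ = (w : G) := hvw
        show (((⟨y, hyH⟩ : ↥𝓗)⁻¹ * w * (⟨y, hyH⟩ : ↥𝓗)⁻¹⁻¹ : ↥𝓗) : G) ∈ D
        have : (((⟨y, hyH⟩ : ↥𝓗)⁻¹ * w * (⟨y, hyH⟩ : ↥𝓗)⁻¹⁻¹ : ↥𝓗) : G) = v := by
          show y⁻¹ * (w : G) * y⁻¹⁻¹ = v
          rw [← hvw']
          group
        rw [this]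
        exact hv
    exact hFM3 B c c' hc hcD hcB hc' hc'D hc'B

end HKMain

end Cfsg.Agent.Helper78
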