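import Cfsg.Agent.Helper78.BrauerCorr
import Cfsg.Agent.Helper16.QuotientDefect2

/-!
# Induced blocks with a prescribed non-vanishing idempotent coefficient

Strengthening of `exists_induced_of_blockCoeff_not_mem`: for `P ≤ H`, `C_G(P) ≤ H ≤ N_G(P)` and
`g ∈ C_G(P)` with the coefficient of the block idempotent of `B` at `g` a unit, there is a block
`b` of `H` inducing `B` whose own idempotent coefficient at `g` is a unit.
-/

set_option autoImplicit false
set_option linter.unusedSectionVars false
set_option linter.unusedVariables false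

namespace Cfsg.Agent.Helper78

open Cfsg
open scoped ComplexConjugate

universe u

section InducedCoeff

variable {G : Type u} [Group G] [Fintype G] {M : Ideal AlgInt} {p : ℕ}

/-- The idempotent of an arbitrary set of irreducible characters is idempotent. -/
theorem conv_blockCoeff_self_of_set (A : Set (IrrCharacter G)) :
    Helper16.conv (blockCoeff A) (blockCoeff A) = blockCoeff A := by
  classical
  have hcl := Helper16.isClassFunction_blockCoeff A
  apply Helper16.classFunction_ext_omega (Helper16.isClassFunction_conv hcl hcl) hcl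
  intro χ
  rw [Helper16.irr_omega_conv χ hcl hcl, Helper16.omega_blockCoeff]
  split_ifs <;> simp

/-- A character `ξ` of `H` whose central character does not kill the Brauer image of the block
idempotent of `B` lies in a block inducing `B`. -/
theorem isInducedBlock_of_omega_brRes_not_mem [Fact p.Prime] (hM : IsPModular p M)
    {P H : Subgroup G} [Fintype H] (hP : IsPGroup p P) (hPH : P ≤ H)
    (hCH : Subgroup.centralizer (P : Set G) ≤ H) (hHN : H ≤ Subgroup.normalizer (P : Set G))
    (χ₀ : IrrCharacter G) (ξ : IrrCharacter H)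
    (hξ : ¬ MemLocalIdeal M (Helper16.omega (ξ : H → ℂ)
      (brRes P H (blockCoeff (blockOf M (χ₀ : G → ℂ)))))) :
    IsInducedBlock M H (blockOf M (ξ : H → ℂ)) (blockOf M (χ₀ : G → ℂ)) := by
  classical
  have hMp : M.IsPrime := isPrime_of_isPModular hM
  set B := blockOf M (χ₀ : G → ℂ) with hB
  have hBb : IsPBlock M B := ⟨χ₀, rfl⟩
  obtain ⟨hecl, heS, heom⟩ := Helper16.osima_strong (M := M) χ₀
  have he : IsZS M (blockCoeff B) := ⟨hecl, heS⟩
  obtain ⟨χ', hχ'⟩ := (isModHom_brauer hM hP hCH hHN ξ).exists_irr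
  have hχ'B : χ' ∈ B := by
    have h1 := hχ' _ he
    rw [Helper16.omega_blockCoeff] at h1
    by_contra hn
    rw [if_neg hn, sub_zero] at h1
    exact hξ h1
  rw [isInducedBlock_iff_brauerCentralChar hM hP hPH hHN _ ⟨ξ, rfl⟩ _ hBb]
  intro ξ' hξ' χ hχ k
  have a1 : MemLocalIdeal M (brauerCentralChar P H (ξ' : H → ℂ) k -
      brauerCentralChar P H (ξ : H → ℂ) k) := by
    rw [brauerCentralChar_eq_omega, brauerCentralChar_eq_omega]
    have hz := isZS_brRes (M := M) (P := P) (H := H) hHN (isZS_classInd (M := M) k)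
    exact Helper16.omega_sub_memLocalIdeal
      (Helper16.sameBlock_symm (show SameBlock M (ξ : H → ℂ) (ξ' : H → ℂ) from hξ')) hz.1 hz.2
  have a2 : MemLocalIdeal M (brauerCentralChar P H (ξ : H → ℂ) k - centralChar (χ' : G → ℂ) k) := by
    have := hχ' _ (isZS_classInd (M := M) k)
    rwa [← brauerCentralChar_eq_omega,
      Helper16.omega_classInd _ (Helper16.irr_isClassFunction χ')] at this
  have a3 : MemLocalIdeal M (centralChar (χ' : G → ℂ) k - centralChar (χ : G → ℂ) k) := by
    have h1 : SameBlock M (χ₀ : G → ℂ) (χ' : G → ℂ) := hχ'B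
    have h2 : SameBlock M (χ₀ : G → ℂ) (χ : G → ℂ) := hχ
    exact (Helper16.sameBlock_trans (Helper16.sameBlock_symm h1) h2) k
  have := Helper16.memLocalIdeal_add (Helper16.memLocalIdeal_add a1 a2) a3
  have e : brauerCentralChar P H (ξ' : H → ℂ) k - brauerCentralChar P H (ξ : H → ℂ) k +
      (brauerCentralChar P H (ξ : H → ℂ) k - centralChar (χ' : G → ℂ) k) +
      (centralChar (χ' : G → ℂ) k - centralChar (χ : G → ℂ) k) =
      brauerCentralChar P H (ξ' : H → ℂ) k - centralChar (χ : G → ℂ) k := by ring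
  rwa [e] at this

/-- **Existence of an inducing block with a unit idempotent coefficient.** -/
theorem exists_induced_blockCoeff_not_mem [Fact p.Prime] (hM : IsPModular p M)
    {P H : Subgroup G} (hP : IsPGroup p P) (hPH : P ≤ H)
    (hCH : Subgroup.centralizer (P : Set G) ≤ H) (hHN : H ≤ Subgroup.normalizer (P : Set G))
    (χ₀ : IrrCharacter G) (g : G) (hgP : g ∈ Subgroup.centralizer (P : Set G))
    (hg : ¬ MemLocalIdeal M (blockCoeff (blockOf M (χ₀ : G → ℂ)) g)) :
    ∃ b : Set (IrrCharacter H), IsInducedBlock M H b (blockOf M (χ₀ : G → ℂ)) ∧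
      ¬ MemLocalIdeal M (blockCoeff b ⟨g, hCH hgP⟩) := by
  classical
  have hMp : M.IsPrime := isPrime_of_isPModular hM
  haveI : Fintype H := Fintype.ofFinite H
  set B := blockOf M (χ₀ : G → ℂ) with hB
  have hBb : IsPBlock M B := ⟨χ₀, rfl⟩
  obtain ⟨hecl, heS, heom⟩ := Helper16.osima_strong (M := M) χ₀
  have he : IsZS M (blockCoeff B) := ⟨hecl, heS⟩
  set u : H → ℂ := brRes P H (blockCoeff B) with hu
  have huZ : IsZS M u := isZS_brRes hHN he
  have hidem : JValued M (Helper16.conv u u - u) := by
    intro h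
    have := brRes_conv_sub_mem hM hP hCH hHN he he h
    rw [Helper77.blockCoeff_conv_self hBb] at this
    have := Helper16.memLocalIdeal_neg this
    simpa using this
  -- the set of characters of `H` not killing `u`
  set T : Set (IrrCharacter H) := {ψ | ¬ MemLocalIdeal M (Helper16.omega (ψ : H → ℂ) u)} with hT
  have hTcl : ∀ χ ∈ T, ∀ ψ : IrrCharacter H, SameBlock M (χ : H → ℂ) (ψ : H → ℂ) → ψ ∈ T := by
    intro χ hχ ψ hsame hψ
    apply hχ
    have := Helper16.omega_sub_memLocalIdeal hsame huZ.1 huZ.2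
    have h2 := Helper16.memLocalIdeal_add this hψ
    simpa using h2
  set e : H → ℂ := blockCoeff T with he'
  have heZ : IsZS M e :=
    ⟨Helper16.isClassFunction_blockCoeff T, Helper16.memLocalRing_blockCoeff_of_closed T hTcl⟩
  have hee : Helper16.conv e e = e := conv_blockCoeff_self_of_set T
  have hω : ∀ ψ : IrrCharacter H, MemLocalIdeal M
      (Helper16.omega (ψ : H → ℂ) u - Helper16.omega (ψ : H → ℂ) e) := by
    intro ψ
    rw [he', Helper16.omega_blockCoeff]
    by_cases hψ : ψ ∈ T
    · rw [if_pos hψ]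
      -- x² - x ∈ J, x ∉ J ⟹ x - 1 ∈ J
      set x := Helper16.omega (ψ : H → ℂ) u with hx
      have hxR : MemLocalRing M x := Helper16.omega_memLocalRing ψ huZ.1 huZ.2
      have h1 : MemLocalIdeal M (Helper16.omega (ψ : H → ℂ) (Helper16.conv u u - u)) :=
        omega_memLocalIdeal_of_forall ψ
          (Helper16.isClassFunction_sub (Helper16.isClassFunction_conv huZ.1 huZ.1) huZ.1) hidem
      rw [Helper16.omega_sub, Helper16.irr_omega_conv ψ huZ.1 huZ.1] at h1
      by_contra hcon
      have h2 : ¬ MemLocalIdeal M (x * (x - 1)) := Helper16.not_memLocalIdeal_mul hxR hψ hcon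
      apply h2
      have : x * (x - 1) = x * x - x := by ring
      rw [this]
      exact h1
    · rw [if_neg hψ, sub_zero]
      by_contra hcon
      exact hψ hcon
  have hJ : JValued M (u - e) := jValued_sub_of_omega_congr huZ heZ hee hidem hω
  have hug : u ⟨g, hCH hgP⟩ = blockCoeff B g := by
    rw [hu, brRes_of_mem P H _ (by exact hgP)]
  have heg : ¬ MemLocalIdeal M (e ⟨g, hCH hgP⟩) := by
    intro hcon
    apply hg
    have := Helper16.memLocalIdeal_add (hJ ⟨g, hCH hgP⟩) hcon
    rw [Pi.sub_apply, sub_add_cancel, hug] at this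
    exact this
  -- decompose `e` as a sum of block idempotents
  have hsum := Helper16.blockCoeff_eq_sum_blocks (M := M) T hTcl
  have hex : ∃ b ∈ (Helper77.blocksFinset M H).filter (fun b => b ⊆ T),
      ¬ MemLocalIdeal M (blockCoeff b ⟨g, hCH hgP⟩) := by
    by_contra hcon
    push Not at hcon
    apply heg
    rw [he', hsum, Finset.sum_apply]
    exact Helper16.memLocalIdeal_sum _ _ hcon
  obtain ⟨b, hb, hbg⟩ := hex
  rw [Finset.mem_filter, Helper77.mem_blocksFinset] at hb
  obtain ⟨⟨ξ, rfl⟩, hbT⟩ := hb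
  have hξT : ξ ∈ T := hbT (mem_blockOf_self hMp ξ)
  exact ⟨_, isInducedBlock_of_omega_brRes_not_mem hM hP hPH hCH hHN χ₀ ξ hξT, hbg⟩

end InducedCoeff

end Cfsg.Agent.Helper78
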