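import Cfsg.Agent.Helper77.KW.Defs
import Cfsg.Agent.Helper16.PrincipalNorm
import Cfsg.Agent.Helper16.Height
import Cfsg.Agent.S4441
import Cfsg.Agent.S4513
import Cfsg.Agent.S4428
import Cfsg.Agent.S0936
import Cfsg.Agent.S4431

/-!
# S4588 pieces (helper78 for helper77): shared lemmas for the H-chain

Central cyclic `p`-subgroup `⟨z⟩` of `H`, `K = H ⧸ ⟨z⟩`: `p`-regular elements, push-forward of
`p`-regular cutoffs, inner products of inflated functions.
-/

set_option autoImplicit false

namespace Cfsg.Agent.Helper78.KW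

open Cfsg
open scoped ComplexConjugate
open Cfsg.Agent.S4426 (cut)

universe u

section grp

variable {H : Type u} [Group H]

theorem isPGroup_zpowers_of_orderOf {p : ℕ} [hp : Fact p.Prime] (z : H) (n : ℕ)
    (hzn : orderOf z = p ^ n) : IsPGroup p (Subgroup.zpowers z) := by
  apply IsPGroup.of_card (n := n)
  rw [Nat.card_zpowers, hzn]

theorem mem_centralizer_zpowers_of_mem_center (z : H) (hz : z ∈ Subgroup.center H) (x : H) :
    x ∈ Subgroup.centralizer ((Subgroup.zpowers z : Subgroup H) : Set H) := by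
  rw [Subgroup.mem_centralizer_iff]
  intro h hh
  have h1 : h ∈ Subgroup.center H := (Subgroup.zpowers_le.2 hz) hh
  exact ((Subgroup.mem_center_iff.1 h1) x).symm

theorem not_dvd_orderOf_mk (p : ℕ) (N : Subgroup H) [N.Normal] (c : H) (hc : ¬ p ∣ orderOf c) :
    ¬ p ∣ orderOf (QuotientGroup.mk c : H ⧸ N) := by
  intro h
  apply hc
  refine h.trans (orderOf_dvd_of_pow_eq_one ?_)
  rw [← QuotientGroup.mk_pow, pow_orderOf_eq_one, QuotientGroup.mk_one]

end grp

section fin

variable {H : Type u} [Group H] [Fintype H]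

theorem isClassFunction_cut_of_isClassFunction (p : ℕ) (c : ℂ) {f : H → ℂ}
    (hf : IsClassFunction H f) : IsClassFunction H (cut p c f) := by
  intro g h
  unfold cut
  have h1 : orderOf (h * g * h⁻¹) = orderOf g := by
    have : h * g * h⁻¹ = MulAut.conj h g := by simp
    rw [this, MulEquiv.orderOf_eq]
  rw [h1, hf g h]

theorem cut_apply_of_not_dvd (p : ℕ) (c : ℂ) (f : H → ℂ) (x : H) (hx : ¬ p ∣ orderOf x) :
    cut p c f x = c * f x := by
  unfold cut
  rw [if_neg hx]

theorem cut_apply_of_dvd (p : ℕ) (c : ℂ) (f : H → ℂ) (x : H) (hx : p ∣ orderOf x) :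
    cut p c f x = 0 := by
  unfold cut
  rw [if_pos hx]

theorem cut_add (p : ℕ) (c : ℂ) (f g : H → ℂ) : cut p c (f + g) = cut p c f + cut p c g := by
  funext x
  by_cases hx : p ∣ orderOf x
  · simp [cut, hx]
  · simp [cut, hx, mul_add]

theorem cut_smul (p : ℕ) (c a : ℂ) (f : H → ℂ) : cut p c (a • f) = a • cut p c f := by
  funext x
  by_cases hx : p ∣ orderOf x
  · simp [cut, hx]
  · simp [cut, hx]; ring

theorem cut_sum (p : ℕ) (c : ℂ) {ι : Type*} (s : Finset ι) (f : ι → H → ℂ) :
    cut p c (∑ i ∈ s, f i) = ∑ i ∈ s, cut p c (f i) := by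
  classical
  induction s using Finset.induction_on with
  | empty =>
    funext x
    by_cases hx : p ∣ orderOf x <;> simp [cut, hx]
  | insert a s ha ih =>
    rw [Finset.sum_insert ha, Finset.sum_insert ha, cut_add, ih]

variable (z : H) [(Subgroup.zpowers z).Normal]

/-- the push-forward of a function vanishing on `p`-singular elements, at a `p`-regular
element. -/
theorem pushQ_mk_of_pRegular {p : ℕ} [hp : Fact p.Prime] (n : ℕ) (hz : z ∈ Subgroup.center H)
    (hzn : orderOf z = p ^ n) (s : H → ℂ) (hs : ∀ x : H, p ∣ orderOf x → s x = 0) (c : H)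
    (hc : ¬ p ∣ orderOf c) :
    Helper16.pushQ (Subgroup.zpowers z) s (QuotientGroup.mk c) = s c := by
  classical
  unfold Helper16.pushQ
  rw [Finset.sum_eq_single c]
  · rw [if_pos rfl]
  · intro y _ hy
    split_ifs with hxy
    · by_cases hyr : p ∣ orderOf y
      · exact hs y hyr
      · exact absurd (Helper76.pRegular_lift_unique p (Subgroup.zpowers z)
          (isPGroup_zpowers_of_orderOf z n hzn) y c hyr hc
          (mem_centralizer_zpowers_of_mem_center z hz c) hxy) hy
    · rfl
  · intro h; exact absurd (Finset.mem_univ _) h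

/-- `|H| = |H ⧸ ⟨z⟩| p^n`. -/
theorem card_eq_card_quotient_mul_pow {p : ℕ} (n : ℕ) (hzn : orderOf z = p ^ n) :
    Nat.card H = Nat.card (H ⧸ Subgroup.zpowers z) * p ^ n := by
  have h1 : Nat.card H = Nat.card (H ⧸ Subgroup.zpowers z) * Nat.card (Subgroup.zpowers z) :=
    Subgroup.card_eq_card_quotient_mul_card_subgroup (Subgroup.zpowers z)
  rw [Nat.card_zpowers, hzn] at h1
  exact h1

/-- the inner product of a push-forward with a function on the quotient. -/
theorem classInner_pushQ {p : ℕ} [hp : Fact p.Prime] (n : ℕ) (hzn : orderOf z = p ^ n)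
    (s : H → ℂ) (φ : H ⧸ Subgroup.zpowers z → ℂ) :
    classInner (Helper16.pushQ (Subgroup.zpowers z) s) φ =
      (p : ℂ) ^ n * classInner s (fun c : H => φ (QuotientGroup.mk c)) := by
  unfold classInner
  have h1 := Helper16.sum_pushQ_mul (Subgroup.zpowers z) s (fun q => conj (φ q))
  rw [h1, card_eq_card_quotient_mul_pow z n hzn]
  have hK : (Nat.card (H ⧸ Subgroup.zpowers z) : ℂ) ≠ 0 := by
    exact_mod_cast (Nat.card_pos (α := H ⧸ Subgroup.zpowers z)).ne'
  have hp0 : ((p : ℂ) ^ n) ≠ 0 := pow_ne_zero _ (by exact_mod_cast hp.out.ne_zero)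
  push_cast
  field_simp

end fin

end Cfsg.Agent.Helper78.KW
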