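import Cfsg.Agent.Helper78.KWBase

/-!
# S4588 piece (H3a) (helper78 for helper77): `p`-regular values of a character of `H` through
the characters of `H ⧸ ⟨z⟩`
-/

set_option autoImplicit false

namespace Cfsg.Agent.Helper78.KW

open Cfsg
open scoped ComplexConjugate
open Cfsg.Agent.S4426 (cut)
open Cfsg.Agent.Helper77.KW (PimData lift)

universe u

section L

variable {H : Type u} [Group H] [Fintype H] {p : ℕ} [Fact p.Prime] {M : Ideal AlgInt}
  (z : H) [(Subgroup.zpowers z).Normal] (n : ℕ) (D : PimData p M (H ⧸ Subgroup.zpowers z))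

/-- general form of (H3a): a class function of `H` on `p`-regular elements. -/
theorem classFunction_apply_pRegular_eq_sum (hz : z ∈ Subgroup.center H)
    (hzn : orderOf z = p ^ n) (f : H → ℂ) (hf : IsClassFunction H f) (c : H)
    (hc : ¬ p ∣ orderOf c) :
    f c = (p : ℂ) ^ n * ∑ θ : IrrCharacter (H ⧸ Subgroup.zpowers z),
      classInner (cut p 1 f) (fun c : H => (θ : H ⧸ Subgroup.zpowers z → ℂ)
        (QuotientGroup.mk c)) * (θ : H ⧸ Subgroup.zpowers z → ℂ) (QuotientGroup.mk c) := by
  classical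
  set s : H → ℂ := cut p 1 f with hs_def
  have hs : IsClassFunction H s := isClassFunction_cut_of_isClassFunction p 1 hf
  have hcf : IsClassFunction (H ⧸ Subgroup.zpowers z) (Helper16.pushQ (Subgroup.zpowers z) s) :=
    Helper16.isClassFunction_pushQ (Subgroup.zpowers z) hs
  have hexp := Helper74.classFunction_eq_sum_irr hcf
  have hpush : Helper16.pushQ (Subgroup.zpowers z) s (QuotientGroup.mk c) = s c :=
    pushQ_mk_of_pRegular z n hz hzn s (fun x hx => cut_apply_of_dvd p 1 f x hx) c hc
  have h2 := congrFun hexp (QuotientGroup.mk c)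
  rw [hpush, Finset.sum_apply] at h2
  have h3 : s c = f c := by
    rw [hs_def, cut_apply_of_not_dvd p 1 f c hc, one_mul]
  rw [← h3, h2, Finset.mul_sum]
  refine Finset.sum_congr rfl fun θ _ => ?_
  rw [Pi.smul_apply, smul_eq_mul, classInner_pushQ z n hzn]
  ring

/-- (H3a) the `p`-regular values of a character of `H` through the characters of `H ⧸ ⟨z⟩` -/
theorem irr_apply_pRegular_eq_sum (hz : z ∈ Subgroup.center H) (hzn : orderOf z = p ^ n)
    (ξ : IrrCharacter H) (c : H) (hc : ¬ p ∣ orderOf c) :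
    (ξ : H → ℂ) c = (p : ℂ) ^ n * ∑ θ : IrrCharacter (H ⧸ Subgroup.zpowers z),
      classInner (cut p 1 (ξ : H → ℂ)) (fun c : H => (θ : H ⧸ Subgroup.zpowers z → ℂ)
        (QuotientGroup.mk c)) * (θ : H ⧸ Subgroup.zpowers z → ℂ) (QuotientGroup.mk c) :=
  classFunction_apply_pRegular_eq_sum z n hz hzn (ξ : H → ℂ) (Helper16.irr_isClassFunction ξ) c hc

end L

end Cfsg.Agent.Helper78.KW
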