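import Cfsg.Agent.Helper78.KWBase

/-!
# S4588 piece (H3b) (helper78 for helper77): domination for the principal block modulo a central
cyclic `p`-subgroup
-/

set_option autoImplicit false

namespace Cfsg.Agent.Helper78.KW

open Cfsg
open scoped ComplexConjugate
open Cfsg.Agent.S4426 (cut)
open Cfsg.Agent.Helper77.KW (PimData lift)

universe u

section L

variable {H : Type u} [Group H] [Fintype H] {p : ℕ} [Fact p.Prime] {M : Ideal AlgInt}
  (z : H) [(Subgroup.zpowers z).Normal] (n : ℕ) (D : PimData p M (H ⧸ Subgroup.zpowers z))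

/-- (H3b) domination: the inflation of `θ` lies in the principal block of `H` iff `θ` lies in
the principal block of `H ⧸ ⟨z⟩` -/
theorem inflate_mem_principalBlock_iff (hM : IsPModular p M) (hz : z ∈ Subgroup.center H)
    (hzn : orderOf z = p ^ n) (θ : IrrCharacter (H ⧸ Subgroup.zpowers z)) :
    Helper16.inflate (Subgroup.zpowers z) θ ∈ principalBlock M H ↔
      θ ∈ principalBlock M (H ⧸ Subgroup.zpowers z) := by
  have hMp : M.IsPrime := Helper78.isPrime_of_isPModular hM
  constructor
  · intro h
    have h1 : SameBlock M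
        (fun g : H => ((Helper79.principalIrr (H ⧸ Subgroup.zpowers z) :
          IrrCharacter (H ⧸ Subgroup.zpowers z)) : H ⧸ Subgroup.zpowers z → ℂ)
            (QuotientGroup.mk g))
        (fun g : H => (θ : H ⧸ Subgroup.zpowers z → ℂ) (QuotientGroup.mk g)) := h
    exact Helper76.sameBlock_of_comp_mk_of_pRegular_central p hM (Subgroup.zpowers z)
      (isPGroup_zpowers_of_orderOf z n hzn)
      (fun x _ => mem_centralizer_zpowers_of_mem_center z hz x) _ _ h1
  · intro h
    have h1 : SameBlock M
        ((Helper79.principalIrr (H ⧸ Subgroup.zpowers z) :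
          IrrCharacter (H ⧸ Subgroup.zpowers z)) : H ⧸ Subgroup.zpowers z → ℂ)
        (θ : H ⧸ Subgroup.zpowers z → ℂ) := h
    exact Helper16.sameBlock_comp_mk (Subgroup.zpowers z) h1

end L

end Cfsg.Agent.Helper78.KW
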