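import Cfsg.Agent.Helper78.KWH3b

/-!
# S4588 piece (H4) (helper78 for helper77): characters outside the principal block are orthogonal
to the PIM-type functions
-/

set_option autoImplicit false

namespace Cfsg.Agent.Helper78.KW

open Cfsg
open scoped ComplexConjugate
open Cfsg.Agent.S4426 (cut)
open Cfsg.Agent.Helper77.KW (PimData lift)

universe u

section L

variable {H : Type u} [Group H] [Fintype H] {p : ℕ} [Fact p.Prime] {M : Ideal AlgInt}
  (z : H) [(Subgroup.zpowers z).Normal] (n : ℕ) (D : PimData p M (H ⧸ Subgroup.zpowers z))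

/-- the lifted function as a combination of inflated characters. -/
theorem lift_eq_sum (i : Fin D.e) :
    lift z n D i = ((D.ε i : ℂ) * (p : ℂ) ^ n) •
        (fun c : H => ((D.θ i : IrrCharacter (H ⧸ Subgroup.zpowers z)) :
          H ⧸ Subgroup.zpowers z → ℂ) (QuotientGroup.mk c)) +
      ∑ ψ ∈ D.Y, ((D.ε i : ℂ) * (p : ℂ) ^ n * ((D.ε i : ℂ) * (D.δ : ℂ))) •
        (fun c : H => (ψ : H ⧸ Subgroup.zpowers z → ℂ) (QuotientGroup.mk c)) := by
  funext c
  simp only [lift, PimData.pim, Pi.add_apply, Pi.smul_apply, Finset.sum_apply, smul_eq_mul]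
  rw [← Finset.mul_sum]
  ring

/-- an inflated member of the principal block of the quotient is orthogonal, after the
`p`-regular cutoff, to the characters outside the principal block. -/
theorem classInner_cut_inflate_eq_zero (hM : IsPModular p M) (hz : z ∈ Subgroup.center H)
    (hzn : orderOf z = p ^ n) (η : IrrCharacter (H ⧸ Subgroup.zpowers z))
    (hη : η ∈ principalBlock M (H ⧸ Subgroup.zpowers z)) (ξ : IrrCharacter H)
    (hξ : ξ ∉ principalBlock M H) :
    classInner (cut p 1 (fun c : H => (η : H ⧸ Subgroup.zpowers z → ℂ) (QuotientGroup.mk c)))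
      (ξ : H → ℂ) = 0 := by
  have hMp : M.IsPrime := Helper78.isPrime_of_isPModular hM
  have h1 : Helper16.inflate (Subgroup.zpowers z) η ∈ principalBlock M H :=
    (inflate_mem_principalBlock_iff z n hM hz hzn η).2 hη
  have h2 : blockOf M ((Helper16.inflate (Subgroup.zpowers z) η : IrrCharacter H) : H → ℂ) =
      principalBlock M H := blockOf_eq_of_mem hMp h1
  exact S4431.classInner_cut_eq_zero hM 1 (Helper16.inflate (Subgroup.zpowers z) η) ξ
    (by rw [h2]; exact hξ)

/-- (H4) characters outside the principal block are orthogonal to the PIM-type functions -/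
theorem classInner_cut_lift_eq_zero (hM : IsPModular p M) (hz : z ∈ Subgroup.center H)
    (hzn : orderOf z = p ^ n) (i : Fin D.e) (ξ : IrrCharacter H)
    (hξ : ξ ∉ principalBlock M H) :
    classInner (cut p 1 (lift z n D i)) (ξ : H → ℂ) = 0 := by
  have hθ : (D.θ i) ∈ principalBlock M (H ⧸ Subgroup.zpowers z) :=
    (D.hblock _).2 (Or.inl ⟨i, rfl⟩)
  rw [lift_eq_sum z n D i, cut_add, cut_smul, cut_sum, Helper74.classInner_add_left,
    Helper74.classInner_smul_left, Helper74.classInner_sum_left,
    classInner_cut_inflate_eq_zero z n hM hz hzn _ hθ ξ hξ, mul_zero, zero_add]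
  refine Finset.sum_eq_zero fun ψ hψ => ?_
  have hψ' : ψ ∈ principalBlock M (H ⧸ Subgroup.zpowers z) := (D.hblock _).2 (Or.inr hψ)
  rw [cut_smul, Helper74.classInner_smul_left,
    classInner_cut_inflate_eq_zero z n hM hz hzn _ hψ' ξ hξ, mul_zero]

end L

end Cfsg.Agent.Helper78.KW
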