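import Cfsg.Agent.Helper78.KWH3a
import Cfsg.Agent.Helper78.KWH4

/-!
# S4588 piece (H3c) (helper78 for helper77): the `p`-regular values of a character of the
principal block of `H` through the `θ i`
-/

set_option autoImplicit false

namespace Cfsg.Agent.Helper78.KW

open Cfsg
open scoped ComplexConjugate
open Cfsg.Agent.S4426 (cut)
open Cfsg.Agent.Helper77.KW (PimData lift)

universe u

section E

variable {K : Type u} [Group K] [Fintype K] {p : ℕ} {M : Ideal AlgInt}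

/-- a sum over `Irr(K)` of a function supported on the principal block, split along the PIM
data. -/
theorem sum_eq_sum_theta_add_sum_Y (D : PimData p M K) (F : IrrCharacter K → ℂ)
    (hF : ∀ ψ : IrrCharacter K, ψ ∉ principalBlock M K → F ψ = 0) :
    ∑ ψ : IrrCharacter K, F ψ = ∑ i, F (D.θ i) + ∑ ψ ∈ D.Y, F ψ := by
  classical
  have h1 : ∑ ψ ∈ Finset.univ.image D.θ ∪ D.Y, F ψ = ∑ ψ : IrrCharacter K, F ψ := by
    refine Finset.sum_subset (Finset.subset_univ _) fun ψ _ hψ => hF ψ fun hmem => ?_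
    rcases (D.hblock ψ).1 hmem with ⟨i, rfl⟩ | hY
    · exact hψ (Finset.mem_union_left _ (Finset.mem_image_of_mem _ (Finset.mem_univ i)))
    · exact hψ (Finset.mem_union_right _ hY)
  rw [← h1, Finset.sum_union, Finset.sum_image fun x _ y _ h => D.hθ h]
  rw [Finset.disjoint_left]
  intro ψ hψ
  obtain ⟨i, -, rfl⟩ := Finset.mem_image.1 hψ
  exact D.hdisj i

end E

section L

variable {H : Type u} [Group H] [Fintype H] {p : ℕ} [Fact p.Prime] {M : Ideal AlgInt}
  (z : H) [(Subgroup.zpowers z).Normal] (n : ℕ) (D : PimData p M (H ⧸ Subgroup.zpowers z))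

/-- the inner product of a `p`-regular cutoff with a lifted function. -/
theorem classInner_cut_lift_right (i : Fin D.e) (f : H → ℂ) :
    classInner (cut p 1 f) (lift z n D i) =
      (D.ε i : ℂ) * (p : ℂ) ^ n *
        (classInner (cut p 1 f) (fun c : H => ((D.θ i : IrrCharacter (H ⧸ Subgroup.zpowers z)) :
          H ⧸ Subgroup.zpowers z → ℂ) (QuotientGroup.mk c)) +
        (D.ε i : ℂ) * (D.δ : ℂ) * ∑ ψ ∈ D.Y, classInner (cut p 1 f)
          (fun c : H => (ψ : H ⧸ Subgroup.zpowers z → ℂ) (QuotientGroup.mk c))) := by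
  have hc1 : conj ((D.ε i : ℂ) * (p : ℂ) ^ n) = (D.ε i : ℂ) * (p : ℂ) ^ n := by
    rw [map_mul, map_pow, map_intCast, map_natCast]
  have hc2 : conj ((D.ε i : ℂ) * (p : ℂ) ^ n * ((D.ε i : ℂ) * (D.δ : ℂ))) =
      (D.ε i : ℂ) * (p : ℂ) ^ n * ((D.ε i : ℂ) * (D.δ : ℂ)) := by
    rw [map_mul, map_mul, map_mul, map_pow, map_intCast, map_natCast, map_intCast]
  rw [lift_eq_sum z n D i, Helper74.classInner_add_right, Helper74.classInner_smul_right,
    Helper74.classInner_sum_right, hc1]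
  have h3 : ∀ ψ ∈ D.Y, classInner (cut p 1 f)
      (((D.ε i : ℂ) * (p : ℂ) ^ n * ((D.ε i : ℂ) * (D.δ : ℂ))) •
        (fun c : H => (ψ : H ⧸ Subgroup.zpowers z → ℂ) (QuotientGroup.mk c))) =
      ((D.ε i : ℂ) * (p : ℂ) ^ n * ((D.ε i : ℂ) * (D.δ : ℂ))) * classInner (cut p 1 f)
        (fun c : H => (ψ : H ⧸ Subgroup.zpowers z → ℂ) (QuotientGroup.mk c)) := by
    intro ψ _
    rw [Helper74.classInner_smul_right, hc2]
  rw [Finset.sum_congr rfl h3, ← Finset.mul_sum]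
  ring

/-- (H3c) the `p`-regular values of a character of the principal block of `H` through the
`θ i` -/
theorem irr_apply_pRegular_eq_sum_lift (hM : IsPModular p M) (hz : z ∈ Subgroup.center H)
    (hzn : orderOf z = p ^ n) (ξ : IrrCharacter H) (hξ : ξ ∈ principalBlock M H) (c : H)
    (hc : ¬ p ∣ orderOf c) :
    (ξ : H → ℂ) c = ∑ i : Fin D.e, conj (classInner (cut p 1 (lift z n D i)) (ξ : H → ℂ)) *
      ((D.ε i : ℂ) * ((D.θ i : IrrCharacter (H ⧸ Subgroup.zpowers z)) :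
        H ⧸ Subgroup.zpowers z → ℂ) (QuotientGroup.mk c)) := by
  classical
  have hMp : M.IsPrime := Helper78.isPrime_of_isPModular hM
  set a : IrrCharacter (H ⧸ Subgroup.zpowers z) → ℂ := fun θ =>
    classInner (cut p 1 (ξ : H → ℂ)) (fun c : H => (θ : H ⧸ Subgroup.zpowers z → ℂ)
      (QuotientGroup.mk c)) with ha_def
  -- Step A
  have hblk : blockOf M (ξ : H → ℂ) = principalBlock M H := blockOf_eq_of_mem hMp hξ
  have ha0 : ∀ θ : IrrCharacter (H ⧸ Subgroup.zpowers z),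
      θ ∉ principalBlock M (H ⧸ Subgroup.zpowers z) → a θ = 0 := by
    intro θ hθ
    have h1 : Helper16.inflate (Subgroup.zpowers z) θ ∉ blockOf M (ξ : H → ℂ) := by
      rw [hblk]
      exact fun h => hθ ((inflate_mem_principalBlock_iff z n hM hz hzn θ).1 h)
    exact S4431.classInner_cut_eq_zero hM 1 ξ (Helper16.inflate (Subgroup.zpowers z) θ) h1
  -- Step B
  have hcbar : ¬ p ∣ orderOf (QuotientGroup.mk c : H ⧸ Subgroup.zpowers z) :=
    not_dvd_orderOf_mk p (Subgroup.zpowers z) c hc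
  have h0 := irr_apply_pRegular_eq_sum z n hz hzn ξ c hc
  have hsplit := sum_eq_sum_theta_add_sum_Y D
    (fun θ => a θ * (θ : H ⧸ Subgroup.zpowers z → ℂ) (QuotientGroup.mk c))
    (fun θ hθ => by
      show a θ * _ = 0
      rw [ha0 θ hθ, zero_mul])
  -- Step C
  set T : ℂ := ∑ i, (D.ε i : ℂ) * ((D.θ i : IrrCharacter (H ⧸ Subgroup.zpowers z)) :
    H ⧸ Subgroup.zpowers z → ℂ) (QuotientGroup.mk c) with hT_def
  have hδ2 : (D.δ : ℂ) * (D.δ : ℂ) = 1 := by
    rcases D.hδ with h | h <;> rw [h] <;> norm_num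
  have hY : ∀ ψ ∈ D.Y, (ψ : H ⧸ Subgroup.zpowers z → ℂ) (QuotientGroup.mk c) = (D.δ : ℂ) * T := by
    intro ψ hψ
    have h1 := D.hrel ψ hψ (QuotientGroup.mk c) hcbar
    rw [hT_def, ← h1, ← mul_assoc, hδ2, one_mul]
  set A : ℂ := ∑ ψ ∈ D.Y, a ψ with hA_def
  have hYsum : ∑ ψ ∈ D.Y, a ψ * (ψ : H ⧸ Subgroup.zpowers z → ℂ) (QuotientGroup.mk c) =
      A * ((D.δ : ℂ) * T) := by
    rw [hA_def, Finset.sum_mul]
    exact Finset.sum_congr rfl fun ψ hψ => by rw [hY ψ hψ]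
  -- Step D
  have hD : ∀ i : Fin D.e, conj (classInner (cut p 1 (lift z n D i)) (ξ : H → ℂ)) =
      (D.ε i : ℂ) * (p : ℂ) ^ n * (a (D.θ i) + (D.ε i : ℂ) * (D.δ : ℂ) * A) := by
    intro i
    rw [S4426.classInner_cut_symm p 1 (map_one _) (lift z n D i) (ξ : H → ℂ), Complex.conj_conj,
      classInner_cut_lift_right z n D i (ξ : H → ℂ)]
  have hterm : ∀ i : Fin D.e, conj (classInner (cut p 1 (lift z n D i)) (ξ : H → ℂ)) *
      ((D.ε i : ℂ) * ((D.θ i : IrrCharacter (H ⧸ Subgroup.zpowers z)) :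
        H ⧸ Subgroup.zpowers z → ℂ) (QuotientGroup.mk c)) =
      (p : ℂ) ^ n * (a (D.θ i) * ((D.θ i : IrrCharacter (H ⧸ Subgroup.zpowers z)) :
        H ⧸ Subgroup.zpowers z → ℂ) (QuotientGroup.mk c)) +
      (p : ℂ) ^ n * (D.δ : ℂ) * A * ((D.ε i : ℂ) *
        ((D.θ i : IrrCharacter (H ⧸ Subgroup.zpowers z)) :
          H ⧸ Subgroup.zpowers z → ℂ) (QuotientGroup.mk c)) := by
    intro i
    have he : (D.ε i : ℂ) * (D.ε i : ℂ) = 1 := by
      rcases D.hε i with h | h <;> rw [h] <;> norm_num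
    rw [hD i]
    linear_combination ((p : ℂ) ^ n * (a (D.θ i) *
      ((D.θ i : IrrCharacter (H ⧸ Subgroup.zpowers z)) :
        H ⧸ Subgroup.zpowers z → ℂ) (QuotientGroup.mk c)) +
      (p : ℂ) ^ n * (D.δ : ℂ) * A * ((D.ε i : ℂ) *
        ((D.θ i : IrrCharacter (H ⧸ Subgroup.zpowers z)) :
          H ⧸ Subgroup.zpowers z → ℂ) (QuotientGroup.mk c))) * he
  rw [Finset.sum_congr rfl fun i _ => hterm i, Finset.sum_add_distrib, ← Finset.mul_sum,
    ← Finset.mul_sum, ← hT_def, h0]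
  have h5 : ∑ θ : IrrCharacter (H ⧸ Subgroup.zpowers z),
      classInner (cut p 1 (ξ : H → ℂ)) (fun c : H => (θ : H ⧸ Subgroup.zpowers z → ℂ)
        (QuotientGroup.mk c)) * (θ : H ⧸ Subgroup.zpowers z → ℂ) (QuotientGroup.mk c) =
      ∑ i, a (D.θ i) * ((D.θ i : IrrCharacter (H ⧸ Subgroup.zpowers z)) :
        H ⧸ Subgroup.zpowers z → ℂ) (QuotientGroup.mk c) + A * ((D.δ : ℂ) * T) := by
    rw [← hYsum]
    exact hsplit
  rw [h5]
  ring

end L

end Cfsg.Agent.Helper78.KW
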