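import Mathlib.Algebra.Order.Floor.Semiring
import Mathlib.Algebra.BigOperators.Field
import Mathlib.Algebra.Order.BigOperators.Group.Finset
import Mathlib.Data.Rat.Floor
import Mathlib.Tactic

/-!
# Landau's bound: finitely many solutions of `∑ 1 / nᵢ = r` with a bounded number of terms
-/

set_option autoImplicit false

namespace Cfsg.Agent.Helper78

universe u

/-- **Landau's lemma**: for a bounded number of positive integers `nᵢ` with `∑ 1 / nᵢ = r`, all
`nᵢ` are bounded in terms of the number of terms and `r` only. -/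
theorem landau_bound (K : ℕ) : ∀ r : ℚ, 0 < r → ∃ N : ℕ, ∀ {α : Type u} [DecidableEq α]
    (s : Finset α) (n : α → ℕ), s.card ≤ K → (∀ i ∈ s, 0 < n i) →
      ∑ i ∈ s, (1 : ℚ) / (n i : ℚ) = r → ∀ i ∈ s, n i ≤ N := by
  induction K with
  | zero =>
    intro r hr
    refine ⟨0, ?_⟩
    intro α _ s n hs hpos hsum i hi
    exfalso
    have : s = ∅ := Finset.card_eq_zero.mp (Nat.le_zero.mp hs)
    rw [this] at hi
    exact absurd hi (Finset.notMem_empty i)
  | succ K ih =>
    intro r hr
    classical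
    set T : ℕ := ⌊((K + 1 : ℕ) : ℚ) / r⌋₊ with hT
    let f : ℕ → ℕ := fun v =>
      if h : 0 < r - 1 / (v : ℚ) then Classical.choose (ih (r - 1 / (v : ℚ)) h) else 0
    refine ⟨max T ((Finset.range (T + 1)).sup f), ?_⟩
    intro α _ s n hs hpos hsum
    -- `s` is nonempty
    have hne : s.Nonempty := by
      rw [Finset.nonempty_iff_ne_empty]
      intro h0
      rw [h0, Finset.sum_empty] at hsum
      exact hr.ne hsum
    -- some element is at most `T`
    have hex : ∃ i₀ ∈ s, n i₀ ≤ T := by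
      by_contra hcon
      push Not at hcon
      have hlt : ∀ i ∈ s, (1 : ℚ) / (n i : ℚ) < r / ((K + 1 : ℕ) : ℚ) := by
        intro i hi
        have h1 : T + 1 ≤ n i := hcon i hi
        have h2 : ((K + 1 : ℕ) : ℚ) / r < (n i : ℚ) := by
          have h3 : ((K + 1 : ℕ) : ℚ) / r < (T : ℚ) + 1 := Nat.lt_floor_add_one _
          have h4 : (T : ℚ) + 1 ≤ (n i : ℚ) := by exact_mod_cast h1
          linarith
        have hni : (0 : ℚ) < (n i : ℚ) := by exact_mod_cast hpos i hi
        have hK : (0 : ℚ) < ((K + 1 : ℕ) : ℚ) := by positivity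
        rw [div_lt_div_iff₀ hni hK, one_mul]
        rw [div_lt_iff₀ hr] at h2
        linarith
      have hsumlt : ∑ i ∈ s, (1 : ℚ) / (n i : ℚ) < ∑ _i ∈ s, r / ((K + 1 : ℕ) : ℚ) :=
        Finset.sum_lt_sum_of_nonempty hne hlt
      rw [Finset.sum_const, nsmul_eq_mul, hsum] at hsumlt
      have hK : (0 : ℚ) < ((K + 1 : ℕ) : ℚ) := by positivity
      have hcard : (s.card : ℚ) ≤ ((K + 1 : ℕ) : ℚ) := by exact_mod_cast hs
      have : (s.card : ℚ) * (r / ((K + 1 : ℕ) : ℚ)) ≤ r := by
        rw [mul_div_assoc', div_le_iff₀ hK]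
        nlinarith
      linarith
    obtain ⟨i₀, hi₀, hi₀T⟩ := hex
    have hsum' : ∑ i ∈ s.erase i₀, (1 : ℚ) / (n i : ℚ) = r - 1 / (n i₀ : ℚ) := by
      rw [← hsum, ← Finset.add_sum_erase s _ hi₀]
      ring
    have hcard' : (s.erase i₀).card ≤ K := by
      rw [Finset.card_erase_of_mem hi₀]
      omega
    intro i hi
    by_cases hii : i = i₀
    · rw [hii]
      exact le_trans hi₀T (le_max_left _ _)
    · have hi' : i ∈ s.erase i₀ := Finset.mem_erase.mpr ⟨hii, hi⟩
      have hpos' : 0 < r - 1 / (n i₀ : ℚ) := by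
        rw [← hsum']
        apply Finset.sum_pos
        · intro j hj
          have : (0 : ℚ) < (n j : ℚ) := by exact_mod_cast hpos j (Finset.mem_of_mem_erase hj)
          positivity
        · exact ⟨i, hi'⟩
      have h1 : n i ≤ Classical.choose (ih (r - 1 / (n i₀ : ℚ)) hpos') :=
        (Classical.choose_spec (ih (r - 1 / (n i₀ : ℚ)) hpos')) (s.erase i₀) n hcard'
          (fun j hj => hpos j (Finset.mem_of_mem_erase hj)) hsum' i hi'
      have h2 : f (n i₀) = Classical.choose (ih (r - 1 / (n i₀ : ℚ)) hpos') := by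
        simp only [f]
        rw [dif_pos hpos']
      have h3 : f (n i₀) ≤ (Finset.range (T + 1)).sup f :=
        Finset.le_sup (Finset.mem_range.mpr (Nat.lt_succ_of_le hi₀T))
      rw [← h2] at h1
      exact le_trans h1 (le_trans h3 (le_max_right _ _))

end Cfsg.Agent.Helper78
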