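import Cfsg.Agent.Helper16.MinMax

/-!
# Ring homomorphisms modulo the local ideal on the centre of the local group ring

A functional `Λ` on complex functions on `G` which is linear, takes local-integer valued class
functions to local integers, and is multiplicative and unital modulo the local ideal, agrees
modulo the local ideal with the central character `omega χ` of some irreducible character `χ`
(on all local-integer valued class functions).
-/

set_option autoImplicit false
set_option linter.unusedSectionVars false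
set_option linter.unusedVariables false

namespace Cfsg.Agent.Helper78

open Cfsg
open scoped ComplexConjugate

universe u

variable {G : Type u} [Group G] [Fintype G] {M : Ideal AlgInt}

/-- Class functions with values in the local ring: the centre of the local group ring. -/
def IsZS (M : Ideal AlgInt) (t : G → ℂ) : Prop :=
  IsClassFunction G t ∧ ∀ g, MemLocalRing M (t g)

theorem isZS_deltaOne [M.IsPrime] : IsZS M (Helper16.deltaOne : G → ℂ) := by
  classical
  refine ⟨?_, fun g => ?_⟩
  · intro g h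
    unfold Helper16.deltaOne
    have : h * g * h⁻¹ = 1 ↔ g = 1 := by
      constructor
      · intro hh
        have : g = h⁻¹ * (h * g * h⁻¹) * h := by group
        rw [this, hh]; group
      · rintro rfl; group
    simp only [this]
  · unfold Helper16.deltaOne
    split_ifs
    · exact Helper16.memLocalRing_one
    · exact Helper16.memLocalRing_zero

theorem isZS_zero [M.IsPrime] : IsZS M (0 : G → ℂ) :=
  ⟨fun _ _ => rfl, fun _ => Helper16.memLocalRing_zero⟩

theorem IsZS.conv [M.IsPrime] {s t : G → ℂ} (hs : IsZS M s) (ht : IsZS M t) :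
    IsZS M (Helper16.conv s t) :=
  ⟨Helper16.isClassFunction_conv hs.1 ht.1, fun g =>
    Helper16.memLocalRing_sum _ _ (fun x _ => Helper16.memLocalRing_mul (hs.2 x) (ht.2 _))⟩

theorem IsZS.smul [M.IsPrime] {c : ℂ} (hc : MemLocalRing M c) {t : G → ℂ} (ht : IsZS M t) :
    IsZS M (c • t) :=
  ⟨fun g h => by simp only [Pi.smul_apply, ht.1 g h], fun g => by
    simpa using Helper16.memLocalRing_mul hc (ht.2 g)⟩

theorem IsZS.sub [M.IsPrime] {s t : G → ℂ} (hs : IsZS M s) (ht : IsZS M t) : IsZS M (s - t) :=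
  ⟨fun g h => by simp only [Pi.sub_apply, hs.1 g h, ht.1 g h], fun g =>
    Helper16.memLocalRing_sub (hs.2 g) (ht.2 g)⟩

/-- Iterated convolution of a list of functions. -/
noncomputable def convList : List (G → ℂ) → (G → ℂ)
  | [] => Helper16.deltaOne
  | t :: l => Helper16.conv t (convList l)

theorem isZS_convList [M.IsPrime] (l : List (G → ℂ)) (hl : ∀ t ∈ l, IsZS M t) :
    IsZS M (convList l) := by
  induction l with
  | nil => exact isZS_deltaOne
  | cons t l ih =>
    exact (hl t (List.mem_cons_self)).conv (ih (fun s hs => hl s (List.mem_cons_of_mem _ hs)))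

theorem omega_convList [M.IsPrime] (χ : IrrCharacter G) (l : List (G → ℂ))
    (hl : ∀ t ∈ l, IsZS M t) :
    Helper16.omega (χ : G → ℂ) (convList l) = (l.map (Helper16.omega (χ : G → ℂ))).prod := by
  induction l with
  | nil =>
    exact Helper16.omega_deltaOne _ (Helper16.irr_one_ne_zero χ)
  | cons t l ih =>
    have hl' : ∀ s ∈ l, IsZS M s := fun s hs => hl s (List.mem_cons_of_mem _ hs)
    show Helper16.omega (χ : G → ℂ) (Helper16.conv t (convList l)) = _
    rw [Helper16.irr_omega_conv χ (hl t List.mem_cons_self).1 (isZS_convList l hl').1, ih hl',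
      List.map_cons, List.prod_cons]

/-- A ring homomorphism modulo the local ideal from the centre of the local group ring. -/
structure IsModHom (M : Ideal AlgInt) (Λ : (G → ℂ) → ℂ) : Prop where
  add : ∀ s t, Λ (s + t) = Λ s + Λ t
  smul : ∀ (c : ℂ) t, Λ (c • t) = c * Λ t
  mem : ∀ t, IsZS M t → MemLocalRing M (Λ t)
  mul : ∀ s t, IsZS M s → IsZS M t → MemLocalIdeal M (Λ (Helper16.conv s t) - Λ s * Λ t)
  one : MemLocalIdeal M (Λ Helper16.deltaOne - 1)

namespace IsModHom

variable {Λ : (G → ℂ) → ℂ}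

theorem map_zero (h : IsModHom M Λ) : Λ 0 = 0 := by
  have := h.smul 0 0
  simpa using this

theorem map_sub (h : IsModHom M Λ) (s t : G → ℂ) : Λ (s - t) = Λ s - Λ t := by
  have h1 : s - t = s + (-1 : ℂ) • t := by
    funext g; simp [sub_eq_add_neg]
  rw [h1, h.add, h.smul]; ring

theorem convList_congr [M.IsPrime] (h : IsModHom M Λ) (l : List (G → ℂ))
    (hl : ∀ t ∈ l, IsZS M t) :
    MemLocalIdeal M (Λ (convList l) - (l.map Λ).prod) := by
  induction l with
  | nil => simpa [convList] using h.one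
  | cons t l ih =>
    have hl' : ∀ s ∈ l, IsZS M s := fun s hs => hl s (List.mem_cons_of_mem _ hs)
    have ht := hl t List.mem_cons_self
    have h1 := h.mul t (convList l) ht (isZS_convList l hl')
    have h2 := Helper16.memLocalIdeal_mul_left (h.mem t ht) (ih hl')
    have h3 := Helper16.memLocalIdeal_add h1 h2
    have e : Λ (convList (t :: l)) - ((t :: l).map Λ).prod =
        (Λ (Helper16.conv t (convList l)) - Λ t * Λ (convList l)) +
          Λ t * (Λ (convList l) - (l.map Λ).prod) := by
      rw [List.map_cons, List.prod_cons]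
      show Λ (Helper16.conv t (convList l)) - _ = _
      ring
    rw [e]; exact h3

theorem exists_mem_of_prod_mem [M.IsPrime] (l : List ℂ) (hl : ∀ x ∈ l, MemLocalRing M x)
    (h : MemLocalIdeal M l.prod) : ∃ x ∈ l, MemLocalIdeal M x := by
  induction l with
  | nil =>
    exact absurd (by simpa using h) Helper16.not_memLocalIdeal_one
  | cons x l ih =>
    by_cases hx : MemLocalIdeal M x
    · exact ⟨x, List.mem_cons_self, hx⟩
    · have hl' : ∀ y ∈ l, MemLocalRing M y := fun y hy => hl y (List.mem_cons_of_mem _ hy)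
      have : MemLocalIdeal M l.prod := by
        by_contra hne
        rw [List.prod_cons] at h
        exact Helper16.not_memLocalIdeal_mul (hl x List.mem_cons_self) hx hne h
      obtain ⟨y, hy, hy'⟩ := ih hl' this
      exact ⟨y, List.mem_cons_of_mem _ hy, hy'⟩

/-- If every irreducible character kills (via `omega`) some member of the list, then `Λ` of some
member lies in the local ideal. -/
theorem exists_mem_of_forall_omega_eq_zero [M.IsPrime] (h : IsModHom M Λ) (l : List (G → ℂ))
    (hl : ∀ t ∈ l, IsZS M t)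
    (hkill : ∀ ψ : IrrCharacter G, ∃ t ∈ l, Helper16.omega (ψ : G → ℂ) t = 0) :
    ∃ t ∈ l, MemLocalIdeal M (Λ t) := by
  have h0 : convList l = 0 := by
    apply Helper16.classFunction_ext_omega (isZS_convList l hl).1 (isZS_zero (M := M)).1
    intro ψ
    rw [omega_convList ψ l hl, Helper16.omega_zero]
    obtain ⟨t, ht, ht0⟩ := hkill ψ
    exact List.prod_eq_zero (List.mem_map.mpr ⟨t, ht, ht0⟩)
  have h1 := h.convList_congr l hl
  rw [h0, h.map_zero, zero_sub] at h1
  have h2 : MemLocalIdeal M (l.map Λ).prod := by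
    have := Helper16.memLocalIdeal_neg h1
    rwa [neg_neg] at this
  obtain ⟨x, hx, hxJ⟩ := exists_mem_of_prod_mem (l.map Λ)
    (fun x hx => by
      obtain ⟨t, ht, rfl⟩ := List.mem_map.mp hx
      exact h.mem t (hl t ht)) h2
  obtain ⟨t, ht, rfl⟩ := List.mem_map.mp hx
  exact ⟨t, ht, hxJ⟩

/-- Elements of the radical: if all central characters of `u` lie in the local ideal, so does
`Λ u`. -/
theorem mem_of_forall_omega_mem [M.IsPrime] (h : IsModHom M Λ) {u : G → ℂ} (hu : IsZS M u)
    (hJ : ∀ ψ : IrrCharacter G, MemLocalIdeal M (Helper16.omega (ψ : G → ℂ) u)) :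
    MemLocalIdeal M (Λ u) := by
  classical
  let F : IrrCharacter G → (G → ℂ) :=
    fun ψ => u - (Helper16.omega (ψ : G → ℂ) u) • (Helper16.deltaOne : G → ℂ)
  have hF : ∀ ψ, IsZS M (F ψ) := fun ψ =>
    hu.sub (isZS_deltaOne.smul (Helper16.omega_memLocalRing ψ hu.1 hu.2))
  obtain ⟨t, ht, htJ⟩ := h.exists_mem_of_forall_omega_eq_zero
    ((Finset.univ : Finset (IrrCharacter G)).toList.map F)
    (fun t ht => by
      obtain ⟨ψ, -, rfl⟩ := List.mem_map.mp ht
      exact hF ψ)
    (fun ψ => ⟨F ψ, List.mem_map.mpr ⟨ψ, Finset.mem_toList.mpr (Finset.mem_univ ψ), rfl⟩, by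
      show Helper16.omega (ψ : G → ℂ) (u - _ • Helper16.deltaOne) = 0
      rw [Helper16.omega_sub, Helper16.omega_smul,
        Helper16.omega_deltaOne _ (Helper16.irr_one_ne_zero ψ), mul_one, sub_self]⟩)
  obtain ⟨ψ, -, rfl⟩ := List.mem_map.mp ht
  have e : Λ (F ψ) = Λ u - Helper16.omega (ψ : G → ℂ) u * Λ Helper16.deltaOne := by
    show Λ (u - _ • Helper16.deltaOne) = _
    rw [h.map_sub, h.smul]
  rw [e] at htJ
  have h2 := Helper16.memLocalIdeal_mul_right (hJ ψ) (h.mem _ (isZS_deltaOne (M := M)))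
  have h3 := Helper16.memLocalIdeal_add htJ h2
  rwa [sub_add_cancel] at h3

/-- **Main theorem**: `Λ` agrees modulo the local ideal with the central character of some
irreducible character. -/
theorem exists_irr [M.IsPrime] (h : IsModHom M Λ) :
    ∃ χ : IrrCharacter G, ∀ t, IsZS M t →
      MemLocalIdeal M (Λ t - Helper16.omega (χ : G → ℂ) t) := by
  classical
  -- block idempotents
  let E : IrrCharacter G → (G → ℂ) := fun χ => blockCoeff (blockOf M (χ : G → ℂ))
  have hE : ∀ χ, IsZS M (E χ) := fun χ =>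
    ⟨(Helper16.osima_strong (M := M) χ).1, (Helper16.osima_strong (M := M) χ).2.1⟩
  have hEom : ∀ χ ψ : IrrCharacter G, Helper16.omega (ψ : G → ℂ) (E χ) =
      if SameBlock M (χ : G → ℂ) (ψ : G → ℂ) then (1 : ℂ) else 0 := fun χ ψ =>
    (Helper16.osima_strong (M := M) χ).2.2 ψ
  let F : IrrCharacter G → (G → ℂ) := fun χ => (Helper16.deltaOne : G → ℂ) - E χ
  have hF : ∀ χ, IsZS M (F χ) := fun χ => isZS_deltaOne.sub (hE χ)
  obtain ⟨t, ht, htJ⟩ := h.exists_mem_of_forall_omega_eq_zero
    ((Finset.univ : Finset (IrrCharacter G)).toList.map F)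
    (fun t ht => by
      obtain ⟨ψ, -, rfl⟩ := List.mem_map.mp ht
      exact hF ψ)
    (fun ψ => ⟨F ψ, List.mem_map.mpr ⟨ψ, Finset.mem_toList.mpr (Finset.mem_univ ψ), rfl⟩, by
      show Helper16.omega (ψ : G → ℂ) (Helper16.deltaOne - E ψ) = 0
      rw [Helper16.omega_sub, Helper16.omega_deltaOne _ (Helper16.irr_one_ne_zero ψ), hEom,
        if_pos (Helper16.sameBlock_refl _), sub_self]⟩)
  obtain ⟨χ₁, -, rfl⟩ := List.mem_map.mp ht
  -- `Λ (E χ₁) ≡ 1`
  have hΛE : MemLocalIdeal M (Λ (E χ₁) - 1) := by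
    have e : Λ (F χ₁) = Λ Helper16.deltaOne - Λ (E χ₁) := h.map_sub _ _
    rw [e] at htJ
    have := Helper16.memLocalIdeal_sub h.one htJ
    have e2 : Λ Helper16.deltaOne - 1 - (Λ Helper16.deltaOne - Λ (E χ₁)) = Λ (E χ₁) - 1 := by ring
    rwa [e2] at this
  refine ⟨χ₁, fun t ht => ?_⟩
  set c := Helper16.omega (χ₁ : G → ℂ) t with hc
  have hcS : MemLocalRing M c := Helper16.omega_memLocalRing χ₁ ht.1 ht.2
  let u : G → ℂ := Helper16.conv t (E χ₁) - c • E χ₁
  have hu : IsZS M u := (ht.conv (hE χ₁)).sub ((hE χ₁).smul hcS)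
  have huJ : ∀ ψ : IrrCharacter G, MemLocalIdeal M (Helper16.omega (ψ : G → ℂ) u) := by
    intro ψ
    show MemLocalIdeal M (Helper16.omega (ψ : G → ℂ) (Helper16.conv t (E χ₁) - c • E χ₁))
    rw [Helper16.omega_sub, Helper16.omega_smul, Helper16.irr_omega_conv ψ ht.1 (hE χ₁).1, hEom]
    split_ifs with hs
    · rw [mul_one, mul_one]
      exact Helper16.omega_sub_memLocalIdeal (Helper16.sameBlock_symm hs) ht.1 ht.2
    · rw [mul_zero, mul_zero, sub_zero]
      exact Helper16.memLocalIdeal_zero
  have h1 := h.mem_of_forall_omega_mem hu huJ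
  have e1 : Λ u = Λ (Helper16.conv t (E χ₁)) - c * Λ (E χ₁) := by
    show Λ (Helper16.conv t (E χ₁) - c • E χ₁) = _
    rw [h.map_sub, h.smul]
  rw [e1] at h1
  have h2 := h.mul t (E χ₁) ht (hE χ₁)
  -- Λ t - c = (Λ t * Λ E - Λ(conv)) ... assemble
  have h3 : MemLocalIdeal M ((Λ t - c) * Λ (E χ₁)) := by
    have e : (Λ t - c) * Λ (E χ₁) =
        (Λ (Helper16.conv t (E χ₁)) - c * Λ (E χ₁)) -
          (Λ (Helper16.conv t (E χ₁)) - Λ t * Λ (E χ₁)) := by ring
    rw [e]
    exact Helper16.memLocalIdeal_sub h1 h2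
  have h4 : MemLocalIdeal M ((Λ t - c) * (Λ (E χ₁) - 1)) :=
    Helper16.memLocalIdeal_mul_left (Helper16.memLocalRing_sub (h.mem t ht) hcS) hΛE
  have h5 := Helper16.memLocalIdeal_sub h3 h4
  have e5 : (Λ t - c) * Λ (E χ₁) - (Λ t - c) * (Λ (E χ₁) - 1) = Λ t - c := by ring
  rwa [e5] at h5

end IsModHom

end Cfsg.Agent.Helper78
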