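import Mathlib
import Cfsg.Agent.Helper99.O9.Defs
import Cfsg.Agent.Helper86.O9FIT

set_option autoImplicit false
set_option linter.unusedSectionVars false
set_option linter.unusedVariables false

/-!
# (PAR) for helper99's S2517 farm (backup by helper78)

A unipotent isometry `u` of a non-degenerate quadratic space of even dimension `n ≥ 1` over a field of odd
characteristic has `(u - 1)^(n-1) = 0`.
-/

namespace Cfsg.Agent.Helper78.O9PAR

open Matrix QuadraticMap Cfsg.Agent.Helper44 Cfsg.Agent.Helper44.QType Cfsg.Agent.Helper99.O9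
  Cfsg.Agent.Helper86.O9

universe u

variable {F : Type u} [Field F]

section lin

variable {V : Type*} [AddCommGroup V] [Module F V] [FiniteDimensional F V]

/-- for a nilpotent endomorphism, `f^k ≠ 0` forces `k ≤ dim ker f^k` -/
theorem par_le_finrank_ker (f : Module.End F V) (m : ℕ) (hm : f ^ m = 0) :
    ∀ k : ℕ, f ^ k ≠ 0 → k ≤ Module.finrank F (LinearMap.ker (f ^ k)) := by
  intro k
  induction k with
  | zero => intro _; exact Nat.zero_le _
  | succ k ih =>
    intro hk
    have hk0 : f ^ k ≠ 0 := by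
      intro h0
      apply hk
      rw [pow_succ, h0, zero_mul]
    have h1 := ih hk0
    have hle : LinearMap.ker (f ^ k) ≤ LinearMap.ker (f ^ (k + 1)) := by
      rw [pow_succ']
      exact LinearMap.ker_le_ker_comp _ _
    have hne : LinearMap.ker (f ^ k) ≠ LinearMap.ker (f ^ (k + 1)) := by
      intro heq
      have h2 := Module.End.ker_pow_constant heq m
      have h3 : f ^ (k + m) = 0 := by rw [pow_add, hm, mul_zero]
      rw [h3, LinearMap.ker_zero, LinearMap.ker_eq_top] at h2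
      exact hk0 h2
    have hlt := Submodule.finrank_lt_finrank_of_lt (lt_of_le_of_ne hle hne)
    omega

/-- if `dim V ≤ dim ker a + 1` then `a` has rank at most one, in the form: all values are multiples of one -/
theorem par_rank_one (a : Module.End F V)
    (h : Module.finrank F V ≤ Module.finrank F (LinearMap.ker a) + 1) :
    ∃ v : V, ∀ x : V, ∃ c : F, a x = c • a v := by
  have h1 := Submodule.finrank_quotient_add_finrank (LinearMap.ker a)
  have h2 : Module.finrank F (V ⧸ LinearMap.ker a) ≤ 1 := by omega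
  obtain ⟨vb, hvb⟩ := finrank_le_one_iff.1 h2
  obtain ⟨v, rfl⟩ := Submodule.Quotient.mk_surjective _ vb
  refine ⟨v, fun x => ?_⟩
  obtain ⟨c, hc⟩ := hvb (Submodule.Quotient.mk x)
  refine ⟨c, ?_⟩
  rw [← Submodule.Quotient.mk_smul, Submodule.Quotient.eq, LinearMap.mem_ker, map_sub,
    map_smul, sub_eq_zero] at hc
  exact hc.symm

end lin

section mat

variable {ι : Type} [Fintype ι] [DecidableEq ι]

/-- the matrix version of the two lemmas above -/
theorem par_mat_rank_one (N : Matrix ι ι F) (m : ℕ) (hm : N ^ m = 0) (k : ℕ) (hk : N ^ k ≠ 0)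
    (hc : Fintype.card ι ≤ k + 1) :
    ∃ v : ι → F, ∀ x : ι → F, ∃ c : F, N ^ k *ᵥ x = c • (N ^ k *ᵥ v) := by
  have h1 := par_le_finrank_ker (Matrix.toLinAlgEquiv' (n := ι) (R := F) N) m
    (by rw [← map_pow, hm, map_zero]) k
    (by
      rw [← map_pow]
      intro h0
      apply hk
      apply (Matrix.toLinAlgEquiv' (n := ι) (R := F)).injective
      rw [h0, map_zero])
  have h2 := par_rank_one ((Matrix.toLinAlgEquiv' (n := ι) (R := F) N) ^ k)
    (by rw [Module.finrank_fintype_fun_eq_card]; omega)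
  obtain ⟨v, hv⟩ := h2
  refine ⟨v, fun x => ?_⟩
  obtain ⟨c, hc⟩ := hv x
  refine ⟨c, ?_⟩
  have e : (Matrix.toLinAlgEquiv' (n := ι) (R := F) N) ^ k
      = Matrix.toLinAlgEquiv' (n := ι) (R := F) (N ^ k) := (map_pow _ _ _).symm
  rw [e, Matrix.toLinAlgEquiv'_apply, Matrix.toLinAlgEquiv'_apply] at hc
  exact hc

end mat

section adj

variable {ι : Type} [Fintype ι] [DecidableEq ι] (Q : QuadraticForm F (ι → F))
  (g : ↥(Cfsg.isometryGroup F ⇑Q))

/-- powers of an isometry preserve the polar form -/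
theorem par_polar_pow (k : ℕ) : ∀ x y : ι → F,
    polar Q (((g : GL ι F) : Matrix ι ι F) ^ k *ᵥ x) (((g : GL ι F) : Matrix ι ι F) ^ k *ᵥ y)
      = polar Q x y := by
  induction k with
  | zero => intro x y; rw [pow_zero, Matrix.one_mulVec, Matrix.one_mulVec]
  | succ k ih =>
    intro x y
    rw [pow_succ, ← Matrix.mulVec_mulVec, ← Matrix.mulVec_mulVec, ih, fit_polar_iso]

/-- `M^j A = A` when `(M - 1) A = 0` -/
theorem par_pow_mul (M A : Matrix ι ι F) (h : (M - 1) * A = 0) (j : ℕ) : M ^ j * A = A := by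
  have h1 : M * A = A := by
    have : M * A = (M - 1) * A + A := by rw [sub_mul, one_mul, sub_add_cancel]
    rw [this, h, zero_add]
  induction j with
  | zero => rw [pow_zero, one_mul]
  | succ j ih => rw [pow_succ, mul_assoc, h1, ih]

/-- the form `(x, y) ↦ B(N^k x, y)` is antisymmetric when `k` is odd and `N^(k+1) = 0` -/
theorem par_antisymm (k : ℕ) (hk : Odd k)
    (h0 : (((g : GL ι F) : Matrix ι ι F) - 1) * (((g : GL ι F) : Matrix ι ι F) - 1) ^ k = 0)
    (x y : ι → F) :
    polar Q ((((g : GL ι F) : Matrix ι ι F) - 1) ^ k *ᵥ x) y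
      = - polar Q ((((g : GL ι F) : Matrix ι ι F) - 1) ^ k *ᵥ y) x := by
  have h1 := fit_adj_pow Q g k y x
  have h2 := par_pow_mul _ _ h0 k
  have h3 : (((g : GL ι F) : Matrix ι ι F) - 1) ^ k *ᵥ y
      = ((g : GL ι F) : Matrix ι ι F) ^ k *ᵥ ((((g : GL ι F) : Matrix ι ι F) - 1) ^ k *ᵥ y) := by
    rw [Matrix.mulVec_mulVec, h2]
  rw [polar_comm, h1, hk.neg_one_pow, neg_one_mul]
  congr 1
  conv_lhs => rw [h3]
  rw [par_polar_pow]

end adj

variable [Fintype F]

/-- (PAR) -/
theorem nil_lt_of_even (hF : Odd (Fintype.card F)) {P : OPair F} (hP : P.ND) (he : Even P.dim)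
    (h1 : 1 ≤ P.dim) {t : ℕ} (h : P.Nil t) : t + 1 ≤ P.dim := by
  by_contra hcon
  rw [not_le] at hcon
  rw [OPair.nil_def] at h
  rw [OPair.nd_def] at hP
  obtain ⟨ht, hs⟩ := h
  have hd : P.dim = Fintype.card P.ι := P.dim_def
  have hA : (P.M - 1) ^ (P.dim - 1) ≠ 0 := hs _ (by omega)
  have hn : (P.M - 1) ^ P.dim = 0 := by
    rw [hd]; exact fit_pow_card_eq_zero _ t ht
  have h0 : (P.M - 1) * (P.M - 1) ^ (P.dim - 1) = 0 := by
    rw [← pow_succ', Nat.sub_add_cancel h1, hn]
  have hodd : Odd (P.dim - 1) := by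
    obtain ⟨m, hm⟩ := he
    exact ⟨m - 1, by omega⟩
  have h2 : (2 : F) ≠ 0 := by
    apply Ring.two_ne_zero
    intro hc
    have := FiniteField.even_card_iff_char_two.1 hc
    rw [Nat.odd_iff] at hF
    omega
  rw [OPair.M_def] at hA h0 ht
  obtain ⟨v, hv⟩ := par_mat_rank_one _ t ht (P.dim - 1) hA (by omega)
  have hanti := par_antisymm P.Q P.g (P.dim - 1) hodd h0
  -- `B(A v, v) = 0`
  have hvv : polar P.Q ((((P.g : GL P.ι F) : Matrix P.ι P.ι F) - 1) ^ (P.dim - 1) *ᵥ v) v = 0 := by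
    have h3 := hanti v v
    have h4 : (2 : F) * polar P.Q ((((P.g : GL P.ι F) : Matrix P.ι P.ι F) - 1) ^ (P.dim - 1) *ᵥ v) v
        = 0 := by
      rw [two_mul]
      nth_rewrite 1 [h3]
      exact neg_add_cancel _
    exact (mul_eq_zero.1 h4).resolve_left h2
  have hzero : ∀ x y : P.ι → F,
      polar P.Q ((((P.g : GL P.ι F) : Matrix P.ι P.ι F) - 1) ^ (P.dim - 1) *ᵥ x) y = 0 := by
    intro x y
    obtain ⟨c, hc⟩ := hv x
    obtain ⟨d, hd'⟩ := hv y
    rw [hc, polar_smul_left, hanti v y, hd', polar_smul_left, hvv]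
    simp
  apply hA
  apply Matrix.mulVec_injective
  funext x
  rw [Matrix.zero_mulVec]
  exact hP _ (hzero x)

end Cfsg.Agent.Helper78.O9PAR
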