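import Cfsg.Agent.Helper31.BGTrans

/-!
# `π'`-cores of local subgroups

Group-theoretic lemmas about `O_π'(X)` (`piCoreOf`) for `X` among `C_G(P)`, `P C_G(P)`, `N_G(P)`
and their subgroups, where `P` is a `p`-subgroup and `p ∈ π`.
-/

set_option autoImplicit false
set_option linter.unusedSectionVars false
set_option linter.unusedVariables false

namespace Cfsg.Agent.Helper78

open Cfsg
open Cfsg.Agent.Helper31 (piCoreOf_le piCoreOf_primes le_normalizer_piCoreOf le_piCoreOf_of_normal)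

universe u

variable {G : Type u} [Group G]

theorem mem_piCore_iff_coe_mem_piCoreOf (π : Set ℕ) (X : Subgroup G) (x : ↥X) :
    x ∈ piCore π ↥X ↔ (x : G) ∈ piCoreOf π X := by
  unfold piCoreOf
  rw [Subgroup.mem_map]
  constructor
  · intro h
    exact ⟨x, h, rfl⟩
  · rintro ⟨y, hy, hxy⟩
    have : y = x := Subtype.ext hxy
    rwa [← this]

/-- `N_G(P) ≤ N_G(C_G(P))`. -/
theorem normalizer_le_normalizer_centralizer_pi (P : Subgroup G) :
    Subgroup.normalizer (P : Set G) ≤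
      Subgroup.normalizer ((Subgroup.centralizer (P : Set G) : Subgroup G) : Set G) := by
  rw [Subgroup.le_normalizer_iff]
  intro n hn c hc
  rw [Subgroup.mem_centralizer_iff] at hc ⊢
  intro d hd
  have hd' : n⁻¹ * d * n ∈ P := (Subgroup.mem_normalizer_iff''.mp hn d).mp hd
  have h1 := hc _ hd'
  calc d * (n * c * n⁻¹) = n * ((n⁻¹ * d * n) * c) * n⁻¹ := by group
    _ = n * (c * (n⁻¹ * d * n)) * n⁻¹ := by rw [h1]
    _ = n * c * n⁻¹ * d := by group

variable [Finite G]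

/-- `O_π(X)` is characteristic in `X`: it is normalized by `N_G(X)`. -/
theorem normalizer_le_normalizer_piCoreOf (π : Set ℕ) (X : Subgroup G) :
    Subgroup.normalizer (X : Set G) ≤ Subgroup.normalizer ((piCoreOf π X : Subgroup G) : Set G) := by
  rw [Subgroup.le_normalizer_iff]
  intro n hn o ho
  set O' : Subgroup G := (piCoreOf π X).map (MulAut.conj n).toMonoidHom with hO'
  have hmem : ∀ y, y ∈ O' ↔ n⁻¹ * y * n ∈ piCoreOf π X := by
    intro y
    rw [hO', Subgroup.mem_map]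
    constructor
    · rintro ⟨z, hz, rfl⟩
      show n⁻¹ * (n * z * n⁻¹) * n ∈ _
      have : n⁻¹ * (n * z * n⁻¹) * n = z := by group
      rwa [this]
    · intro hy
      refine ⟨_, hy, ?_⟩
      show n * (n⁻¹ * y * n) * n⁻¹ = y
      group
  have h1 : O' ≤ X := by
    intro y hy
    have h2 : n⁻¹ * y * n ∈ X := piCoreOf_le π X ((hmem y).mp hy)
    have := (Subgroup.mem_normalizer_iff''.mp hn y).mpr h2
    exact this
  have h2 : X ≤ Subgroup.normalizer (O' : Set G) := by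
    rw [Subgroup.le_normalizer_iff]
    intro x hx y hy
    rw [hmem] at hy ⊢
    have hx' : n⁻¹ * x * n ∈ X := (Subgroup.mem_normalizer_iff''.mp hn x).mp hx
    have := Helper31.conj_mem_piCoreOf hx' hy
    have e : n⁻¹ * (x * y * x⁻¹) * n = n⁻¹ * x * n * (n⁻¹ * y * n) * (n⁻¹ * x * n)⁻¹ := by group
    rw [e]
    exact this
  have h3 : ∀ q : ℕ, q.Prime → q ∣ Nat.card O' → q ∈ π := by
    intro q hq hdvd
    have hc : Nat.card O' = Nat.card (piCoreOf π X) :=
      Subgroup.card_map_of_injective (MulAut.conj n).injective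
    rw [hc] at hdvd
    exact piCoreOf_primes π X q hq hdvd
  have h4 := le_piCoreOf_of_normal h1 h2 h3
  apply h4
  rw [hmem]
  have : n⁻¹ * (n * o * n⁻¹) * n = o := by group
  rwa [this]

/-- Two subgroups of coprime orders normalized by a common overgroup commute. -/
theorem le_centralizer_of_coprime_of_normalized {W P X : Subgroup G} (hWX : W ≤ X) (hPX : P ≤ X)
    (hXW : X ≤ Subgroup.normalizer (W : Set G)) (hXP : X ≤ Subgroup.normalizer (P : Set G))
    (hcop : Nat.Coprime (Nat.card W) (Nat.card P)) : W ≤ Subgroup.centralizer (P : Set G) := by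
  intro w hw
  rw [Subgroup.mem_centralizer_iff]
  intro d hd
  have hbot : W ⊓ P = ⊥ := Subgroup.inf_eq_bot_of_coprime hcop
  have h1 : w * d * w⁻¹ * d⁻¹ ∈ W := by
    have h2 : d * w⁻¹ * d⁻¹ ∈ W :=
      (Subgroup.le_normalizer_iff.mp hXW) d (hPX hd) _ (W.inv_mem hw)
    have : w * d * w⁻¹ * d⁻¹ = w * (d * w⁻¹ * d⁻¹) := by group
    rw [this]
    exact W.mul_mem hw h2
  have h2 : w * d * w⁻¹ * d⁻¹ ∈ P := by
    have h3 : w * d * w⁻¹ ∈ P := (Subgroup.le_normalizer_iff.mp hXP) w (hWX hw) _ hd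
    exact P.mul_mem h3 (P.inv_mem hd)
  have h3 : w * d * w⁻¹ * d⁻¹ ∈ W ⊓ P := ⟨h1, h2⟩
  rw [hbot, Subgroup.mem_bot] at h3
  have : w * d = (w * d * w⁻¹ * d⁻¹) * (d * w) := by group
  rw [this, h3, one_mul]

/-- A `π'`-number is coprime to the order of a `p`-group when `p ∈ π`. -/
theorem coprime_card_of_piPrime_of_isPGroup {p : ℕ} [hp : Fact p.Prime] {π : Set ℕ} (hpπ : p ∈ π)
    {W P : Subgroup G} (hW : ∀ q : ℕ, q.Prime → q ∣ Nat.card W → q ∈ {q | q ∉ π})
    (hP : IsPGroup p P) : Nat.Coprime (Nat.card W) (Nat.card P) := by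
  obtain ⟨k, hk⟩ := IsPGroup.iff_card.mp hP
  rw [hk]
  apply Nat.Coprime.pow_right
  apply Nat.Coprime.symm
  rw [Nat.Prime.coprime_iff_not_dvd hp.out]
  intro hdvd
  exact hW p hp.out hdvd hpπ

/-- `p ∤ |O_π'(X)|` when `p ∈ π`. -/
theorem not_dvd_card_piCore {p : ℕ} [hp : Fact p.Prime] {π : Set ℕ} (hpπ : p ∈ π)
    (X : Type*) [Group X] [Finite X] : ¬ p ∣ Nat.card (piCore {q | q ∉ π} X) := fun h =>
  Cfsg.Agent.S1886.piCore_isPi {q | q ∉ π} p hp.out h hpπ

/-- `O_π(X) ∩ Y ≤ O_π(Y)` for `Y ≤ X`. -/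
theorem piCoreOf_inf_le_piCoreOf (π : Set ℕ) {X Y : Subgroup G} (hYX : Y ≤ X) :
    piCoreOf π X ⊓ Y ≤ piCoreOf π Y := by
  refine le_piCoreOf_of_normal inf_le_right ?_ ?_
  · rw [Subgroup.le_normalizer_iff]
    intro y hy k hk
    refine ⟨?_, Y.mul_mem (Y.mul_mem hy hk.2) (Y.inv_mem hy)⟩
    exact Helper31.conj_mem_piCoreOf (hYX hy) hk.1
  · intro q hq hdvd
    exact piCoreOf_primes π X q hq (hdvd.trans (Subgroup.card_dvd_of_le inf_le_left))

/-- If `P ⊴ G₀` is a `p`-subgroup with `C_G(P) ≤ G₀` and `p ∈ π`, then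
`O_π'(G₀) ≤ O_π'(N_G(P))`. -/
theorem piCoreOf_le_piCoreOf_normalizer {p : ℕ} [hp : Fact p.Prime] {π : Set ℕ} (hpπ : p ∈ π)
    {P G₀ : Subgroup G} (hP : IsPGroup p P) (hPG₀ : P ≤ G₀)
    (hCG₀ : Subgroup.centralizer (P : Set G) ≤ G₀)
    (hG₀N : G₀ ≤ Subgroup.normalizer (P : Set G)) :
    piCoreOf {q | q ∉ π} G₀ ≤ piCoreOf {q | q ∉ π} (Subgroup.normalizer (P : Set G)) := by
  set π' : Set ℕ := {q | q ∉ π} with hπ'
  have h1 : piCoreOf π' G₀ ≤ Subgroup.centralizer (P : Set G) :=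
    le_centralizer_of_coprime_of_normalized (piCoreOf_le π' G₀) hPG₀
      (le_normalizer_piCoreOf π' G₀) hG₀N
      (coprime_card_of_piPrime_of_isPGroup hpπ (piCoreOf_primes π' G₀) hP)
  have h2 : piCoreOf π' G₀ ≤ piCoreOf π' (Subgroup.centralizer (P : Set G)) :=
    le_piCoreOf_of_normal h1 (hCG₀.trans (le_normalizer_piCoreOf π' G₀)) (piCoreOf_primes π' G₀)
  have h3 : piCoreOf π' (Subgroup.centralizer (P : Set G)) ≤
      piCoreOf π' (Subgroup.normalizer (P : Set G)) :=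
    le_piCoreOf_of_normal
      ((piCoreOf_le π' _).trans (Subgroup.centralizer_le_normalizer _))
      ((normalizer_le_normalizer_centralizer_pi P).trans (normalizer_le_normalizer_piCoreOf π' _))
      (piCoreOf_primes π' _)
  exact h2.trans h3

/-- `O_π'(N_G(P)) ≤ O_π'(C_G(P))` for a `p`-subgroup `P` with `p ∈ π`. -/
theorem piCoreOf_normalizer_le_piCoreOf_centralizer {p : ℕ} [hp : Fact p.Prime] {π : Set ℕ}
    (hpπ : p ∈ π) {P : Subgroup G} (hP : IsPGroup p P) :
    piCoreOf {q | q ∉ π} (Subgroup.normalizer (P : Set G)) ≤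
      piCoreOf {q | q ∉ π} (Subgroup.centralizer (P : Set G)) := by
  set π' : Set ℕ := {q | q ∉ π} with hπ'
  have h1 : piCoreOf π' (Subgroup.normalizer (P : Set G)) ≤ Subgroup.centralizer (P : Set G) :=
    le_centralizer_of_coprime_of_normalized (piCoreOf_le π' _) Subgroup.le_normalizer
      (le_normalizer_piCoreOf π' _) (le_refl _)
      (coprime_card_of_piPrime_of_isPGroup hpπ (piCoreOf_primes π' _) hP)
  exact le_piCoreOf_of_normal h1
    ((Subgroup.centralizer_le_normalizer _).trans (le_normalizer_piCoreOf π' _))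
    (piCoreOf_primes π' _)

/-- The order of an element of `O_π(X)` involves only primes of `π`. -/
theorem orderOf_primes_of_mem_piCoreOf (π : Set ℕ) (X : Subgroup G) {x : G}
    (hx : x ∈ piCoreOf π X) : ∀ q : ℕ, q.Prime → q ∣ orderOf x → q ∈ π := by
  intro q hq hdvd
  have h1 : orderOf x ∣ Nat.card (piCoreOf π X) := by
    have := orderOf_dvd_natCard (⟨x, hx⟩ : piCoreOf π X)
    rwa [Subgroup.orderOf_mk] at this
  exact piCoreOf_primes π X q hq (hdvd.trans h1)

end Cfsg.Agent.Helper78
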