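import Cfsg.Agent.Helper78.PiPrimeKernel
import Cfsg.Agent.Helper77.PairTransport

/-!
# Brauer's ascent: from a local block of `D₀ C_G(D₀)` up to the Brauer correspondent

If `b` is a block of `D₀ C_G(D₀)` with `b^G = B`, `O_π'(C_G(D₀))` is a normal Hall `π'`-subgroup of
`C_G(D₀)` contained in `ker b`, then `O_π'(N_G(D)) ≤ ker B₁` for the Brauer correspondent `B₁` of `B`.
-/

set_option autoImplicit false
set_option linter.unusedSectionVars false
set_option linter.unusedVariables false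

namespace Cfsg.Agent.Helper78

open Cfsg
open Cfsg.Agent.Helper31 (piCoreOf_le piCoreOf_primes le_normalizer_piCoreOf le_piCoreOf_of_normal)

universe u

variable {G : Type u} [Group G] [Finite G] {M : Ideal AlgInt} {p : ℕ}

/-- A block of `G₀` with `P C_G(P) ≤ G₀ ≤ N_G(P)` inducing `B` induces a block of `N_G(P)` which
induces `B`. -/
theorem exists_induced_to_normalizer [Fact p.Prime] (hM : IsPModular p M)
    {B : Set (IrrCharacter G)} {P G₀ : Subgroup G} (hPp : IsPGroup p P) (hPG₀ : P ≤ G₀)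
    (hC : Subgroup.centralizer (P : Set G) ≤ G₀)
    (hnorm : G₀ ≤ Subgroup.normalizer (P : Set G))
    {B₀ : Set (IrrCharacter ↥G₀)} (hB₀ : IsInducedBlock M G₀ B₀ B) :
    ∃ β : Set (IrrCharacter ↥(Subgroup.normalizer (P : Set G))),
      IsInducedBlock M (G₀.subgroupOf (Subgroup.normalizer (P : Set G)))
        (irrMap (Subgroup.subgroupOfEquivOfLe hnorm).symm '' B₀) β ∧
      IsInducedBlock M (Subgroup.normalizer (P : Set G)) β B := by
  classical
  haveI hMp : M.IsPrime := isPrime_of_isPModular hM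
  set N : Subgroup G := Subgroup.normalizer (P : Set G) with hN
  haveI : Fintype G := Fintype.ofFinite G
  haveI : Fintype ↥N := Fintype.ofFinite _
  set H₁ : Subgroup ↥N := G₀.subgroupOf N with hH₁
  set e₁ : ↥G₀ ≃* ↥H₁ := (Subgroup.subgroupOfEquivOfLe hnorm).symm with he₁
  set b₁ : Set (IrrCharacter ↥H₁) := irrMap e₁ '' B₀ with hb₁def
  have hb₁ : IsPBlock M b₁ := Helper77.isPBlock_image_irrMap e₁ hB₀.1
  set P₁ : Subgroup ↥N := P.subgroupOf N with hP₁
  have hP₁p : IsPGroup p P₁ := hPp.comap_of_injective N.subtype N.subtype_injective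
  have hP₁H₁ : P₁ ≤ H₁ := fun x hx =>
    Subgroup.mem_subgroupOf.mpr (hPG₀ (Subgroup.mem_subgroupOf.mp hx))
  have hC₁ : Subgroup.centralizer (P₁ : Set ↥N) ≤ H₁ := by
    intro c hc
    rw [hH₁, Subgroup.mem_subgroupOf]
    apply hC
    rw [Subgroup.mem_centralizer_iff]
    intro d hd
    have := (Subgroup.mem_centralizer_iff.mp hc) ⟨d, Subgroup.le_normalizer hd⟩
      (Subgroup.mem_subgroupOf.mpr hd)
    exact congrArg Subtype.val this
  haveI hP₁n : P₁.Normal := Subgroup.normal_in_normalizer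
  have hH₁N : H₁ ≤ Subgroup.normalizer (P₁ : Set ↥N) := by
    rw [Subgroup.normalizer_eq_top]
    exact le_top
  obtain ⟨β, hβ⟩ := inducedBlockDefined_of_le_normalizer hM hP₁p hP₁H₁ hC₁ hH₁N b₁ hb₁
  obtain ⟨B', hB'⟩ := inducedBlockDefined_of_le_normalizer hM hPp
    (Subgroup.le_normalizer : P ≤ N) (Subgroup.centralizer_le_normalizer _) (le_refl N) β hβ.2.1
  have h5 : IsInducedBlock M G₀ B₀ B' := isInducedBlock_trans_flat hnorm hβ hB'
  have hBB' : B = B' := Helper77.isInducedBlock_unique G₀ hB₀ h5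
  rw [← hBB'] at hB'
  exact ⟨β, hβ, hB'⟩

/-- **Brauer's ascent.** -/
theorem piKer_ascent [hp : Fact p.Prime] (hM : IsPModular p M) {π : Set ℕ} (hpπ : p ∈ π)
    {B : Set (IrrCharacter G)} (hB : IsPBlock M B) :
    ∀ (n : ℕ) (D₀ H₀ : Subgroup G) (b : Set (IrrCharacter ↥H₀)), IsPGroup p D₀ →
      H₀ = D₀ ⊔ Subgroup.centralizer (D₀ : Set G) → IsInducedBlock M H₀ b B →
      (∀ x ∈ Subgroup.centralizer (D₀ : Set G), (∀ q : ℕ, q.Prime → q ∣ orderOf x → q ∉ π) →
        x ∈ piCoreOf {q | q ∉ π} (Subgroup.centralizer (D₀ : Set G))) →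
      (∀ h : ↥H₀, (h : G) ∈ piCoreOf {q | q ∉ π} (Subgroup.centralizer (D₀ : Set G)) →
        h ∈ blockKer b) →
      Nat.card G - Nat.card D₀ = n →
      ∃ (D' : Subgroup G) (B₁' : Set (IrrCharacter ↥(Subgroup.normalizer (D' : Set G)))),
        IsDefectGroup p M B D' ∧ IsInducedBlock M (Subgroup.normalizer (D' : Set G)) B₁' B ∧
        IsDefectGroup p M B₁' (D'.subgroupOf (Subgroup.normalizer (D' : Set G))) ∧
        PiKer π (Subgroup.normalizer (D' : Set G)) B₁' := by
  intro n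
  induction n using Nat.strong_induction_on with
  | _ n ih =>
    intro D₀ H₀ b hD₀p hH₀ hb hcompl hkerb hn
    classical
    haveI hMp : M.IsPrime := isPrime_of_isPModular hM
    haveI : Fintype G := Fintype.ofFinite G
    set N₀ : Subgroup G := Subgroup.normalizer (D₀ : Set G) with hN₀
    haveI : Fintype ↥N₀ := Fintype.ofFinite _
    set π' : Set ℕ := {q | q ∉ π} with hπ'
    set C₀ : Subgroup G := Subgroup.centralizer (D₀ : Set G) with hC₀
    set V₀ : Subgroup G := piCoreOf π' C₀ with hV₀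
    have hD₀H₀ : D₀ ≤ H₀ := by rw [hH₀]; exact le_sup_left
    have hC₀H₀ : C₀ ≤ H₀ := by rw [hH₀]; exact le_sup_right
    have hH₀N₀ : H₀ ≤ N₀ := by
      rw [hH₀]
      exact sup_le Subgroup.le_normalizer (Subgroup.centralizer_le_normalizer _)
    obtain ⟨β₀, hβ₀1, hβ₀2⟩ := exists_induced_to_normalizer hM hD₀p hD₀H₀ hC₀H₀ hH₀N₀ hb
    set e₁ := (Subgroup.subgroupOfEquivOfLe hH₀N₀).symm with he₁
    -- the normal `p'`-subgroup `K = V₀` of `N₀`
    have hV₀N₀ : N₀ ≤ Subgroup.normalizer (V₀ : Set G) :=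
      (normalizer_le_normalizer_centralizer_pi D₀).trans (normalizer_le_normalizer_piCoreOf π' C₀)
    set K : Subgroup ↥N₀ := V₀.subgroupOf N₀ with hK
    haveI hKn : K.Normal := Subgroup.normal_subgroupOf_of_le_normalizer hV₀N₀
    have hV₀le : V₀ ≤ N₀ := (piCoreOf_le π' C₀).trans (Subgroup.centralizer_le_normalizer _)
    have hKp : ¬ p ∣ Nat.card K := by
      have hc : Nat.card K = Nat.card V₀ :=
        Nat.card_congr (Subgroup.subgroupOfEquivOfLe hV₀le).toEquiv
      rw [hc]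
      intro h
      exact piCoreOf_primes π' C₀ p hp.out h hpπ
    have hiff₁ := blockKer_induced_iff hM (H₀.subgroupOf N₀) hβ₀1 K hKp
    have hKβ : ∀ k ∈ K, k ∈ blockKer β₀ := by
      refine hiff₁.mpr ?_
      intro h hh
      have h1 : h = e₁ (e₁.symm h) := (e₁.apply_symm_apply h).symm
      rw [h1, mem_blockKer_image_irrMap]
      apply hkerb
      exact Subgroup.mem_subgroupOf.mp hh
    -- a defect group of `β₀`
    set P₁ : Subgroup ↥N₀ := D₀.subgroupOf N₀ with hP₁
    haveI hP₁n : P₁.Normal := Subgroup.normal_in_normalizer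
    have hP₁p : IsPGroup p P₁ := hD₀p.comap_of_injective N₀.subtype N₀.subtype_injective
    have hcardP₁ : Nat.card P₁ = Nat.card D₀ :=
      Nat.card_congr (Subgroup.subgroupOfEquivOfLe Subgroup.le_normalizer).toEquiv
    obtain ⟨Dβ, hDβ⟩ := exists_isDefectGroup hM hβ₀1.2.1
    have hP₁Dβ : P₁ ≤ Dβ := normal_pGroup_le_defectGroup hM P₁ hP₁p hβ₀1.2.1 hDβ
    by_cases hcard : Nat.card Dβ = Nat.card P₁
    · -- `D₀` is a defect group of `B` and `β₀` is the Brauer correspondent
      have hDβeq : P₁ = Dβ := Subgroup.eq_of_le_of_card_ge hP₁Dβ hcard.le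
      rw [← hDβeq] at hDβ
      obtain ⟨B'', hB''1, hB''2, hB''3⟩ :=
        Cfsg.Agent.S0920.part_one p M hM D₀ hD₀p β₀ hβ₀1.2.1 hDβ
      have hBB'' : B = B'' := Helper77.isInducedBlock_unique N₀ hβ₀2 hB''3
      rw [← hBB''] at hB''2
      refine ⟨D₀, β₀, hB''2, hβ₀2, hDβ, ?_⟩
      intro x hx
      apply hKβ x
      rw [hK, Subgroup.mem_subgroupOf]
      exact piCoreOf_normalizer_le_piCoreOf_centralizer hpπ hD₀p
        ((mem_piCore_iff_coe_mem_piCoreOf _ _ x).mp hx)
    · -- go up to the defect group of `β₀`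
      have hlt : Nat.card P₁ < Nat.card Dβ :=
        lt_of_le_of_ne (Subgroup.card_le_of_le hP₁Dβ) (Ne.symm hcard)
      set H₂ : Subgroup ↥N₀ := Dβ ⊔ Subgroup.centralizer (Dβ : Set ↥N₀) with hH₂
      obtain ⟨b₂, hb₂D, hb₂⟩ : ∃ b₂ : Set (IrrCharacter ↥H₂),
          IsDefectGroup p M b₂ (Dβ.subgroupOf H₂) ∧ IsInducedBlock M H₂ b₂ β₀ :=
        Helper77.exists_block_sup_centralizer (P := Dβ) hM β₀ hβ₀1.2.1 hDβ
      have hiff₂ := blockKer_induced_iff hM H₂ hb₂ K hKp
      have hKb₂ := hiff₂.mp hKβ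
      set D₁ : Subgroup G := Dβ.map N₀.subtype with hD₁
      set H₂' : Subgroup G := H₂.map N₀.subtype with hH₂'
      set e₂ := H₂.equivMapOfInjective N₀.subtype N₀.subtype_injective with he₂
      have hb₂' : IsInducedBlock M H₂' (irrMap e₂ '' b₂) B :=
        isInducedBlock_trans_map N₀ H₂ hb₂ hβ₀2
      have hD₀D₁ : D₀ ≤ D₁ := by
        intro d hd
        exact Subgroup.mem_map.mpr ⟨⟨d, Subgroup.le_normalizer hd⟩,
          hP₁Dβ (Subgroup.mem_subgroupOf.mpr hd), rfl⟩
      have hC₁C₀ : Subgroup.centralizer (D₁ : Set G) ≤ C₀ := Subgroup.centralizer_le hD₀D₁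
      have hC₁N₀ : Subgroup.centralizer (D₁ : Set G) ≤ N₀ :=
        hC₁C₀.trans (Subgroup.centralizer_le_normalizer _)
      have hcent : (Subgroup.centralizer (Dβ : Set ↥N₀)).map N₀.subtype =
          Subgroup.centralizer (D₁ : Set G) := by
        ext x
        constructor
        · rintro ⟨c, hc, rfl⟩
          exact Helper77.coe_mem_centralizer_map N₀ Dβ c hc
        · intro hx
          exact ⟨⟨x, hC₁N₀ hx⟩, Helper77.mem_centralizer_of_coe_mem N₀ Dβ ⟨x, hC₁N₀ hx⟩ hx, rfl⟩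
      have hH₂eq : H₂' = D₁ ⊔ Subgroup.centralizer (D₁ : Set G) := by
        rw [← hcent]
        exact Subgroup.map_sup _ _ _
      have hD₁p : IsPGroup p D₁ := (isPGroup_of_isDefectGroup hM hβ₀1.2.1 hDβ).map _
      have hcompl₁ : ∀ x ∈ Subgroup.centralizer (D₁ : Set G),
          (∀ q : ℕ, q.Prime → q ∣ orderOf x → q ∉ π) →
          x ∈ piCoreOf π' (Subgroup.centralizer (D₁ : Set G)) := by
        intro x hx hxπ
        apply piCoreOf_inf_le_piCoreOf π' hC₁C₀
        exact ⟨hcompl x (hC₁C₀ hx) hxπ, hx⟩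
      have hker₁ : ∀ h : ↥H₂', (h : G) ∈ piCoreOf π' (Subgroup.centralizer (D₁ : Set G)) →
          h ∈ blockKer (irrMap e₂ '' b₂) := by
        intro h hh
        have h1 : h = e₂ (e₂.symm h) := (e₂.apply_symm_apply h).symm
        rw [h1, mem_blockKer_image_irrMap]
        apply hKb₂
        rw [hK, Subgroup.mem_subgroupOf]
        have hcoe : (((e₂.symm h : ↥H₂) : ↥N₀) : G) = (h : G) := by
          have := Subgroup.coe_equivMapOfInjective_apply H₂ N₀.subtype N₀.subtype_injective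
            (e₂.symm h)
          rw [← he₂, e₂.apply_symm_apply] at this
          exact this.symm
        rw [hcoe]
        apply hcompl (h : G) (hC₁C₀ (piCoreOf_le _ _ hh))
        exact fun q hq hdvd => orderOf_primes_of_mem_piCoreOf π' _ hh q hq hdvd
      have hcardD₁ : Nat.card D₁ = Nat.card Dβ :=
        Subgroup.card_map_of_injective N₀.subtype_injective
      have hle : Nat.card D₁ ≤ Nat.card G := Subgroup.card_le_card_group D₁
      exact ih (Nat.card G - Nat.card D₁) (by omega) D₁ H₂' _ hD₁p hH₂eq hb₂' hcompl₁ hker₁ rfl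

end Cfsg.Agent.Helper78
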