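import Cfsg.Agent.Helper78.InducedTrans
import Cfsg.Agent.Helper78.PiCoreLemmas
import Cfsg.Agent.Helper78.ExtFirstMain
import Cfsg.Agent.Helper77.MaxPair
import Cfsg.Agent.Helper16.QuotientDefect2
import Cfsg.Agent.S0920

/-!
# `π'`-cores in the kernels of blocks: Brauer's descent and ascent

`PiKer π X b`: every element of `O_π'(X)` lies in the kernel of the block `b` of `X`.
-/

set_option autoImplicit false
set_option linter.unusedSectionVars false
set_option linter.unusedVariables false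

namespace Cfsg.Agent.Helper78

open Cfsg
open Cfsg.Agent.Helper31 (piCoreOf_le piCoreOf_primes le_normalizer_piCoreOf le_piCoreOf_of_normal)

universe u

section PiCoreEquiv

theorem piCore_map_equiv_le (π : Set ℕ) {X Y : Type*} [Group X] [Group Y] [Finite X]
    (e : X ≃* Y) : (piCore π X).map e.toMonoidHom ≤ piCore π Y := by
  apply Cfsg.Agent.S1886.le_piCore π
  · exact Subgroup.Normal.map inferInstance _ e.surjective
  · intro q hq hdvd
    have hc : Nat.card ((piCore π X).map e.toMonoidHom) = Nat.card (piCore π X) :=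
      Subgroup.card_map_of_injective e.injective
    rw [hc] at hdvd
    exact Cfsg.Agent.S1886.piCore_isPi π q hq hdvd

theorem mem_piCore_equiv_iff (π : Set ℕ) {X Y : Type*} [Group X] [Group Y] [Finite X]
    (e : X ≃* Y) (x : X) : e x ∈ piCore π Y ↔ x ∈ piCore π X := by
  haveI : Finite Y := Finite.of_equiv X e.toEquiv
  constructor
  · intro h
    have h1 := piCore_map_equiv_le π e.symm (Subgroup.mem_map.mpr ⟨e x, h, rfl⟩)
    have h2 : e.symm.toMonoidHom (e x) = x := e.symm_apply_apply x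
    rwa [h2] at h1
  · intro h
    exact piCore_map_equiv_le π e (Subgroup.mem_map.mpr ⟨x, h, rfl⟩)

end PiCoreEquiv

section Main

variable {G : Type u} [Group G] [Finite G] {M : Ideal AlgInt} {p : ℕ}

/-- Every element of `O_π'(X)` lies in the kernel of the block `b` of `X`. -/
def PiKer (π : Set ℕ) (X : Subgroup G) (b : Set (IrrCharacter ↥X)) : Prop :=
  ∀ x : ↥X, x ∈ piCore {q | q ∉ π} ↥X → x ∈ blockKer b

theorem piKer_iff (π : Set ℕ) (X : Subgroup G) (b : Set (IrrCharacter ↥X)) :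
    PiKer π X b ↔ ∀ x : ↥X, (x : G) ∈ piCoreOf {q | q ∉ π} X → x ∈ blockKer b := by
  unfold PiKer
  constructor
  · intro h x hx
    exact h x ((mem_piCore_iff_coe_mem_piCoreOf _ X x).mpr hx)
  · intro h x hx
    exact h x ((mem_piCore_iff_coe_mem_piCoreOf _ X x).mp hx)

/-- Transport of `PiKer` along an isomorphism. -/
theorem piKer_of_equiv (π : Set ℕ) {X Y : Subgroup G} (e : ↥X ≃* ↥Y) {b : Set (IrrCharacter ↥X)}
    (h : PiKer π X b) : PiKer π Y (irrMap e '' b) := by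
  intro y hy
  have h1 : e.symm y ∈ piCore {q | q ∉ π} ↥X := by
    rw [← mem_piCore_equiv_iff _ e, e.apply_symm_apply]
    exact hy
  have h2 := h _ h1
  rw [← mem_blockKer_image_irrMap e, e.apply_symm_apply] at h2
  exact h2

/-- The conjugation isomorphism `N_G(D) ≃ N_G(gDg⁻¹)`. -/
noncomputable def normalizerConjEquiv (D : Subgroup G) (g : G) :
    ↥(Subgroup.normalizer (D : Set G)) ≃*
      ↥(Subgroup.normalizer ((D.map (MulAut.conj g).toMonoidHom : Subgroup G) : Set G)) :=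
  ((Subgroup.normalizer (D : Set G)).equivMapOfInjective (MulAut.conj g).toMonoidHom
    (MulAut.conj g).injective).trans
    (MulEquiv.subgroupCongr (Subgroup.map_equiv_normalizer_eq D (MulAut.conj g)))

theorem coe_normalizerConjEquiv (D : Subgroup G) (g : G) (x : ↥(Subgroup.normalizer (D : Set G))) :
    ((normalizerConjEquiv D g x : _) : G) = g * (x : G) * g⁻¹ := by
  unfold normalizerConjEquiv
  rfl

/-- Independence of the hypothesis "`O_π'(N_G(D)) ≤ ker B₁`" from the choice of the defect group. -/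
theorem piKer_conj [Fact p.Prime] (hM : IsPModular p M) (π : Set ℕ)
    {B : Set (IrrCharacter G)} (hB : IsPBlock M B) {D D' : Subgroup G}
    (hD : IsDefectGroup p M B D) (hD' : IsDefectGroup p M B D')
    {B₁ : Set (IrrCharacter ↥(Subgroup.normalizer (D : Set G)))}
    (hB₁ : IsInducedBlock M (Subgroup.normalizer (D : Set G)) B₁ B)
    (hB₁D : IsDefectGroup p M B₁ (D.subgroupOf (Subgroup.normalizer (D : Set G))))
    {B₁' : Set (IrrCharacter ↥(Subgroup.normalizer (D' : Set G)))}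
    (hB₁' : IsInducedBlock M (Subgroup.normalizer (D' : Set G)) B₁' B)
    (hker : PiKer π (Subgroup.normalizer (D : Set G)) B₁) :
    PiKer π (Subgroup.normalizer (D' : Set G)) B₁' := by
  classical
  haveI : Fintype G := Fintype.ofFinite G
  obtain ⟨g, rfl⟩ := Helper16.exists_conj_eq_of_isDefectGroup hM hB hD hD'
  set e := normalizerConjEquiv D g with he
  have h1 : IsInducedBlock M _ (irrMap e '' B₁) B :=
    isInducedBlock_conj_transport e g (coe_normalizerConjEquiv D g) hB₁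
  have h2 := isDefectGroup_image_irrMap (M := M) p e hB₁D
  have h3 : (D.subgroupOf (Subgroup.normalizer (D : Set G))).map (e : _ →* _) =
      (D.map (MulAut.conj g).toMonoidHom).subgroupOf
        (Subgroup.normalizer ((D.map (MulAut.conj g).toMonoidHom : Subgroup G) : Set G)) := by
    ext x
    rw [Subgroup.mem_map, Subgroup.mem_subgroupOf, Subgroup.mem_map]
    constructor
    · rintro ⟨y, hy, rfl⟩
      exact ⟨(y : G), Subgroup.mem_subgroupOf.mp hy, (coe_normalizerConjEquiv D g y).symm⟩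
    · rintro ⟨d, hd, hdx⟩
      refine ⟨⟨d, Subgroup.le_normalizer hd⟩, Subgroup.mem_subgroupOf.mpr hd, ?_⟩
      apply Subtype.ext
      show ((e ⟨d, _⟩ : _) : G) = (x : G)
      rw [he, coe_normalizerConjEquiv]
      exact hdx
  rw [h3] at h2
  have hDp : IsPGroup p (D.map (MulAut.conj g).toMonoidHom) :=
    IsPGroup.of_card (Helper77.card_defectGroup hM hB _ hD')
  have h4 := Cfsg.Agent.S0920.part_two_unique p M hM _ hDp B hB (irrMap e '' B₁) B₁' h1.1 h2 h1
    hB₁'.1 hB₁'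
  rw [h4]
  exact piKer_of_equiv π e hker

/-- Every block has a defect group (`Finite` version). -/
theorem exists_isDefectGroup [Fact p.Prime] (hM : IsPModular p M) {X : Type u} [Group X] [Finite X]
    {β : Set (IrrCharacter X)} (hβ : IsPBlock M β) : ∃ D : Subgroup X, IsDefectGroup p M β D := by
  haveI hMp : M.IsPrime := isPrime_of_isPModular hM
  haveI : Fintype X := Fintype.ofFinite X
  obtain ⟨χ₀, rfl⟩ := hβ
  exact Helper16.exists_defectGroup p χ₀

theorem isPGroup_of_isDefectGroup [Fact p.Prime] (hM : IsPModular p M) {X : Type u} [Group X]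
    [Finite X] {β : Set (IrrCharacter X)} (hβ : IsPBlock M β) {D : Subgroup X}
    (hD : IsDefectGroup p M β D) : IsPGroup p D := by
  haveI : Fintype X := Fintype.ofFinite X
  exact IsPGroup.of_card (Helper77.card_defectGroup hM hβ D hD)

/-- The normal case of the descent: `D₀ ⊴ G₀`. -/
theorem piKer_of_normal_defect [Fact p.Prime] (hM : IsPModular p M) {π : Set ℕ} (hpπ : p ∈ π)
    {B : Set (IrrCharacter G)} (hB : IsPBlock M B)
    (hyp : ∀ (D' : Subgroup G) (B₁' : Set (IrrCharacter ↥(Subgroup.normalizer (D' : Set G)))),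
      IsDefectGroup p M B D' → IsInducedBlock M (Subgroup.normalizer (D' : Set G)) B₁' B →
      PiKer π (Subgroup.normalizer (D' : Set G)) B₁')
    (G₀ : Subgroup G) (B₀ : Set (IrrCharacter ↥G₀)) (hB₀ : IsInducedBlock M G₀ B₀ B)
    (D₀ : Subgroup ↥G₀) (hD₀ : IsDefectGroup p M B₀ D₀)
    (hC : Subgroup.centralizer ((D₀.map G₀.subtype : Subgroup G) : Set G) ≤ G₀)
    (hnorm : G₀ ≤ Subgroup.normalizer ((D₀.map G₀.subtype : Subgroup G) : Set G))
    (IH : ∀ (G₁ : Subgroup G) (B₁' : Set (IrrCharacter ↥G₁)) (D₁ : Subgroup ↥G₁),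
      IsInducedBlock M G₁ B₁' B → IsDefectGroup p M B₁' D₁ →
      Subgroup.centralizer ((D₁.map G₁.subtype : Subgroup G) : Set G) ≤ G₁ →
      Nat.card D₀ < Nat.card D₁ → PiKer π G₁ B₁') :
    PiKer π G₀ B₀ := by
  classical
  haveI hMp : M.IsPrime := isPrime_of_isPModular hM
  set P : Subgroup G := D₀.map G₀.subtype with hP
  set N : Subgroup G := Subgroup.normalizer (P : Set G) with hN
  haveI : Fintype G := Fintype.ofFinite G
  haveI : Fintype ↥N := Fintype.ofFinite _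
  have hPG₀ : P ≤ G₀ := Subgroup.map_subtype_le D₀
  have hcardP : Nat.card P = Nat.card D₀ := Subgroup.card_map_of_injective G₀.subtype_injective
  have hPp : IsPGroup p P := by
    have := isPGroup_of_isDefectGroup hM hB₀.1 hD₀
    exact this.map G₀.subtype
  -- step 1: move `B₀` into the group `N`
  set H₁ : Subgroup ↥N := G₀.subgroupOf N with hH₁
  set e₁ : ↥G₀ ≃* ↥H₁ := (Subgroup.subgroupOfEquivOfLe hnorm).symm with he₁
  set b₁ : Set (IrrCharacter ↥H₁) := irrMap e₁ '' B₀ with hb₁def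
  have hb₁ : IsPBlock M b₁ := Helper77.isPBlock_image_irrMap e₁ hB₀.1
  set P₁ : Subgroup ↥N := P.subgroupOf N with hP₁
  have hP₁p : IsPGroup p P₁ := hPp.comap_of_injective N.subtype N.subtype_injective
  have hcardP₁ : Nat.card P₁ = Nat.card P :=
    Nat.card_congr (Subgroup.subgroupOfEquivOfLe Subgroup.le_normalizer).toEquiv
  have hP₁H₁ : P₁ ≤ H₁ := fun x hx =>
    Subgroup.mem_subgroupOf.mpr (hPG₀ (Subgroup.mem_subgroupOf.mp hx))
  have hC₁ : Subgroup.centralizer (P₁ : Set ↥N) ≤ H₁ := by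
    intro c hc
    rw [hH₁, Subgroup.mem_subgroupOf]
    apply hC
    rw [Subgroup.mem_centralizer_iff]
    intro d hd
    have := (Subgroup.mem_centralizer_iff.mp hc) ⟨d, Subgroup.le_normalizer hd⟩
      (Subgroup.mem_subgroupOf.mpr hd)
    exact congrArg Subtype.val this
  haveI hP₁n : P₁.Normal := Subgroup.normal_in_normalizer
  have hH₁N : H₁ ≤ Subgroup.normalizer (P₁ : Set ↥N) := by
    rw [Subgroup.normalizer_eq_top]
    exact le_top
  obtain ⟨β, hβ⟩ := inducedBlockDefined_of_le_normalizer hM hP₁p hP₁H₁ hC₁ hH₁N b₁ hb₁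
  -- step 3: `β^G = B`
  obtain ⟨B', hB'⟩ := inducedBlockDefined_of_le_normalizer hM hPp
    (Subgroup.le_normalizer : P ≤ N) (Subgroup.centralizer_le_normalizer _) (le_refl N) β hβ.2.1
  have h5 : IsInducedBlock M G₀ B₀ B' := isInducedBlock_trans_flat hnorm hβ hB'
  have hBB' : B = B' := Helper77.isInducedBlock_unique G₀ hB₀ h5
  rw [← hBB'] at hB'
  -- step 5: a defect group of `β`
  obtain ⟨Dβ, hDβ⟩ := exists_isDefectGroup hM hβ.2.1
  have hP₁Dβ : P₁ ≤ Dβ := normal_pGroup_le_defectGroup hM P₁ hP₁p hβ.2.1 hDβ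
  -- step 6
  have hkerN : PiKer π N β := by
    by_cases hcard : Nat.card Dβ = Nat.card P₁
    · have hDβeq : P₁ = Dβ := Subgroup.eq_of_le_of_card_ge hP₁Dβ hcard.le
      rw [← hDβeq] at hDβ
      obtain ⟨B'', hB''1, hB''2, hB''3⟩ := Cfsg.Agent.S0920.part_one p M hM P hPp β hβ.2.1 hDβ
      have hBB'' : B = B'' := Helper77.isInducedBlock_unique N hB' hB''3
      rw [← hBB''] at hB''2
      exact hyp P β hB''2 hB'
    · have hlt : Nat.card P₁ < Nat.card Dβ :=
        lt_of_le_of_ne (Subgroup.card_le_of_le hP₁Dβ) (Ne.symm hcard)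
      refine IH N β Dβ hB' hDβ ?_ (by rw [← hcardP, ← hcardP₁]; exact hlt)
      have hPle : P ≤ Dβ.map N.subtype := by
        intro d hd
        exact Subgroup.mem_map.mpr ⟨⟨d, Subgroup.le_normalizer hd⟩,
          hP₁Dβ (Subgroup.mem_subgroupOf.mpr hd), rfl⟩
      exact (Subgroup.centralizer_le hPle).trans (Subgroup.centralizer_le_normalizer _)
  -- step 7
  rw [piKer_iff]
  intro x hx
  have hKp : ¬ p ∣ Nat.card (piCore {q | q ∉ π} ↥N) := not_dvd_card_piCore hpπ ↥N
  have hiff := blockKer_induced_iff hM H₁ hβ (piCore {q | q ∉ π} ↥N) hKp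
  have h6 := hiff.mp (fun k hk => hkerN k hk) (e₁ x) (by
    rw [mem_piCore_iff_coe_mem_piCoreOf]
    have h7 : (((e₁ x : H₁) : N) : G) = (x : G) := rfl
    rw [h7]
    exact piCoreOf_le_piCoreOf_normalizer hpπ hPp hPG₀ hC hnorm hx)
  exact (mem_blockKer_image_irrMap e₁ B₀ x).mp h6

/-- Reduction of the descent to the normal case, through `N_{G₀}(D₀)`. -/
theorem piKer_reduce [Fact p.Prime] (hM : IsPModular p M) {π : Set ℕ} (hpπ : p ∈ π)
    {B : Set (IrrCharacter G)}
    (G₀ : Subgroup G) (B₀ : Set (IrrCharacter ↥G₀)) (hB₀ : IsInducedBlock M G₀ B₀ B)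
    (D₀ : Subgroup ↥G₀) (hD₀ : IsDefectGroup p M B₀ D₀)
    (hC : Subgroup.centralizer ((D₀.map G₀.subtype : Subgroup G) : Set G) ≤ G₀)
    (normalCase : ∀ (G₁ : Subgroup G) (B₁' : Set (IrrCharacter ↥G₁)) (D₁ : Subgroup ↥G₁),
      IsInducedBlock M G₁ B₁' B → IsDefectGroup p M B₁' D₁ →
      Subgroup.centralizer ((D₁.map G₁.subtype : Subgroup G) : Set G) ≤ G₁ →
      G₁ ≤ Subgroup.normalizer ((D₁.map G₁.subtype : Subgroup G) : Set G) →
      Nat.card D₁ = Nat.card D₀ → PiKer π G₁ B₁') :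
    PiKer π G₀ B₀ := by
  classical
  haveI hMp : M.IsPrime := isPrime_of_isPModular hM
  set N₀ : Subgroup ↥G₀ := Subgroup.normalizer (D₀ : Set ↥G₀) with hN₀
  have hD₀p : IsPGroup p D₀ := isPGroup_of_isDefectGroup hM hB₀.1 hD₀
  obtain ⟨β, hβ1, hβ2, hβ3⟩ := Cfsg.Agent.S0920.part_two_exists p M hM D₀ hD₀p B₀ hB₀.1 hD₀
  set N₀' : Subgroup G := N₀.map G₀.subtype with hN₀'
  set e : ↥N₀ ≃* ↥N₀' := N₀.equivMapOfInjective G₀.subtype G₀.subtype_injective with he
  have hecoe : ∀ h : ↥N₀, ((e h : ↥N₀') : G) = ((h : ↥G₀) : G) := fun h =>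
    Subgroup.coe_equivMapOfInjective_apply _ _ _ h
  set β' : Set (IrrCharacter ↥N₀') := irrMap e '' β with hβ'def
  have hβ' : IsInducedBlock M N₀' β' B := isInducedBlock_trans_map G₀ N₀ hβ3 hB₀
  set D₁ : Subgroup ↥N₀' := (D₀.subgroupOf N₀).map (e : ↥N₀ →* ↥N₀') with hD₁def
  have hD₁ : IsDefectGroup p M β' D₁ := isDefectGroup_image_irrMap (M := M) p e hβ2
  have hmap : D₁.map N₀'.subtype = D₀.map G₀.subtype := by
    ext x
    constructor
    · rintro ⟨y, ⟨z, hz, rfl⟩, rfl⟩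
      exact ⟨(z : ↥G₀), Subgroup.mem_subgroupOf.mp hz, (hecoe z).symm⟩
    · rintro ⟨d, hd, rfl⟩
      exact ⟨e ⟨d, Subgroup.le_normalizer hd⟩,
        ⟨⟨d, Subgroup.le_normalizer hd⟩, Subgroup.mem_subgroupOf.mpr hd, rfl⟩, hecoe _⟩
  have hC₁ : Subgroup.centralizer ((D₁.map N₀'.subtype : Subgroup G) : Set G) ≤ N₀' := by
    rw [hmap]
    intro c hc
    have hcG₀ := hC hc
    refine Subgroup.mem_map.mpr ⟨⟨c, hcG₀⟩, ?_, rfl⟩
    apply Subgroup.centralizer_le_normalizer
    rw [Subgroup.mem_centralizer_iff]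
    intro d hd
    apply Subtype.ext
    exact (Subgroup.mem_centralizer_iff.mp hc) (d : G) (Subgroup.mem_map.mpr ⟨d, hd, rfl⟩)
  have hnorm₁ : N₀' ≤ Subgroup.normalizer ((D₁.map N₀'.subtype : Subgroup G) : Set G) := by
    rw [hmap, Subgroup.le_normalizer_iff]
    rintro _ ⟨n, hn, rfl⟩ _ ⟨d, hd, rfl⟩
    exact ⟨n * d * n⁻¹, (Subgroup.mem_normalizer_iff.mp hn d).mp hd, by simp⟩
  have hcard₁ : Nat.card D₁ = Nat.card D₀ := by
    rw [hD₁def, Subgroup.card_map_of_injective e.injective]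
    exact Nat.card_congr (Subgroup.subgroupOfEquivOfLe Subgroup.le_normalizer).toEquiv
  have hk := normalCase N₀' β' D₁ hβ' hD₁ hC₁ hnorm₁ hcard₁
  have hKp : ¬ p ∣ Nat.card (piCore {q | q ∉ π} ↥G₀) := not_dvd_card_piCore hpπ ↥G₀
  have hiff := blockKer_induced_iff hM N₀ hβ3 (piCore {q | q ∉ π} ↥G₀) hKp
  intro x hx
  refine hiff.mpr ?_ x hx
  intro h hh
  rw [← mem_blockKer_image_irrMap e]
  apply (piKer_iff π N₀' β').mp hk (e h)
  rw [hecoe]
  apply piCoreOf_inf_le_piCoreOf {q | q ∉ π} (Subgroup.map_subtype_le N₀ : N₀' ≤ G₀)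
  exact ⟨(mem_piCore_iff_coe_mem_piCoreOf _ G₀ _).mp hh, Subgroup.mem_map.mpr ⟨h, h.2, rfl⟩⟩

/-- **Brauer's descent**: if `O_π'(N_G(D)) ≤ ker B₁` for the Brauer correspondents `B₁` of `B`, then
`O_π'(G₀) ≤ ker B₀` for every block `B₀` of a subgroup `G₀` with `B₀^G = B` and `C_G(D₀) ≤ G₀`
for a defect group `D₀` of `B₀`. -/
theorem piKer_descent [Fact p.Prime] (hM : IsPModular p M) {π : Set ℕ} (hpπ : p ∈ π)
    {B : Set (IrrCharacter G)} (hB : IsPBlock M B)
    (hyp : ∀ (D' : Subgroup G) (B₁' : Set (IrrCharacter ↥(Subgroup.normalizer (D' : Set G)))),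
      IsDefectGroup p M B D' → IsInducedBlock M (Subgroup.normalizer (D' : Set G)) B₁' B →
      PiKer π (Subgroup.normalizer (D' : Set G)) B₁')
    (G₀ : Subgroup G) (B₀ : Set (IrrCharacter ↥G₀)) (hB₀ : IsInducedBlock M G₀ B₀ B)
    (D₀ : Subgroup ↥G₀) (hD₀ : IsDefectGroup p M B₀ D₀)
    (hC : Subgroup.centralizer ((D₀.map G₀.subtype : Subgroup G) : Set G) ≤ G₀) :
    PiKer π G₀ B₀ := by
  suffices h : ∀ (n : ℕ) (G₀ : Subgroup G) (B₀ : Set (IrrCharacter ↥G₀)) (D₀ : Subgroup ↥G₀),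
      IsInducedBlock M G₀ B₀ B → IsDefectGroup p M B₀ D₀ →
      Subgroup.centralizer ((D₀.map G₀.subtype : Subgroup G) : Set G) ≤ G₀ →
      Nat.card G - Nat.card D₀ = n → PiKer π G₀ B₀ from
    h _ G₀ B₀ D₀ hB₀ hD₀ hC rfl
  intro n
  induction n using Nat.strong_induction_on with
  | _ n ih =>
    intro G₀ B₀ D₀ hB₀ hD₀ hC hn
    refine piKer_reduce hM hpπ G₀ B₀ hB₀ D₀ hD₀ hC ?_
    intro G₁ B₁' D₁ h1 h2 h3 h4 h5
    refine piKer_of_normal_defect hM hpπ hB hyp G₁ B₁' h1 D₁ h2 h3 h4 ?_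
    intro G₂ B₂ D₂ k1 k2 k3 k4
    have hle : Nat.card D₂ ≤ Nat.card G :=
      (Subgroup.card_le_card_group D₂).trans (Subgroup.card_le_card_group G₂)
    exact ih (Nat.card G - Nat.card D₂) (by omega) G₂ B₂ D₂ k1 k2 k3 rfl

end Main

end Cfsg.Agent.Helper78
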