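import Mathlib.LinearAlgebra.Matrix.Rank
import Mathlib.LinearAlgebra.Matrix.Transvection

/-!
# Rank of a matrix: invariance under field extension, and a bi-orthogonality criterion
-/

set_option autoImplicit false

namespace Cfsg.Agent.Helper78

open Matrix

/-- The rank of a square matrix over a field is unchanged by a field extension. -/
theorem rank_map_of_field {K F : Type*} [Field K] [Field F] (f : K →+* F)
    {n : Type*} [Fintype n] [DecidableEq n] (A : Matrix n n K) :
    (A.map f).rank = A.rank := by
  classical
  obtain ⟨L, L', D, hA⟩ := Matrix.Pivot.exists_list_transvec_mul_diagonal_mul_list_transvec A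
  set P : Matrix n n K := (L.map Matrix.TransvectionStruct.toMatrix).prod with hP
  set Q : Matrix n n K := (L'.map Matrix.TransvectionStruct.toMatrix).prod with hQ
  have hPdet : P.det = 1 := Matrix.TransvectionStruct.det_toMatrix_prod L
  have hQdet : Q.det = 1 := Matrix.TransvectionStruct.det_toMatrix_prod L'
  have hPu : IsUnit P.det := by rw [hPdet]; exact isUnit_one
  have hQu : IsUnit Q.det := by rw [hQdet]; exact isUnit_one
  have hPu' : IsUnit (P.map f).det := by
    have : (P.map f).det = f P.det := (RingHom.map_det f P).symm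
    rw [this, hPdet, map_one]; exact isUnit_one
  have hQu' : IsUnit (Q.map f).det := by
    have : (Q.map f).det = f Q.det := (RingHom.map_det f Q).symm
    rw [this, hQdet, map_one]; exact isUnit_one
  have h1 : A.rank = (Matrix.diagonal D).rank := by
    rw [hA, Matrix.rank_mul_eq_left_of_isUnit_det _ _ hQu,
      Matrix.rank_mul_eq_right_of_isUnit_det _ _ hPu]
  have h2 : (A.map f).rank = (Matrix.diagonal (fun i => f (D i))).rank := by
    rw [hA, Matrix.map_mul, Matrix.map_mul, Matrix.rank_mul_eq_left_of_isUnit_det _ _ hQu',
      Matrix.rank_mul_eq_right_of_isUnit_det _ _ hPu']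
    congr 1
    ext i j
    simp [Matrix.diagonal_apply, Matrix.map_apply]
    split_ifs <;> simp
  rw [h1, h2, Matrix.rank_diagonal, Matrix.rank_diagonal]
  refine Fintype.card_congr (Equiv.subtypeEquivRight (fun i => ?_))
  exact (map_ne_zero_iff f f.injective)

/-- Bi-orthogonality criterion for the rank: if `A i j * u i = ∑_B a B i * y B j` with `u i ≠ 0`,
and `∑_i a B i * y B' i = δ_{B B'}`, then `rank A = |β|`. -/
theorem rank_eq_card_of_biorthogonal {F : Type*} [Field F] {ι β : Type*} [Fintype ι]
    [DecidableEq ι] [Fintype β] [DecidableEq β] (A : Matrix ι ι F) (u : ι → F)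
    (hu : ∀ i, u i ≠ 0) (a y : β → ι → F)
    (hA : ∀ i j, A i j * u i = ∑ B, a B i * y B j)
    (horth : ∀ B B', ∑ i, a B i * y B' i = if B = B' then 1 else 0) :
    A.rank = Fintype.card β := by
  classical
  -- `A = Z * Y`
  let Z : Matrix ι β F := Matrix.of fun i B => (u i)⁻¹ * a B i
  let Y : Matrix β ι F := Matrix.of fun B j => y B j
  have hAZY : A = Z * Y := by
    ext i j
    rw [Matrix.mul_apply]
    have h1 := hA i j
    have : A i j = (u i)⁻¹ * ∑ B, a B i * y B j := by
      rw [← h1]
      field_simp [hu i]
    rw [this, Finset.mul_sum]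
    refine Finset.sum_congr rfl (fun B _ => ?_)
    simp only [Z, Y, Matrix.of_apply]
    ring
  apply le_antisymm
  · rw [hAZY]
    exact (Matrix.rank_mul_le_left Z Y).trans (Matrix.rank_le_card_width Z)
  · -- `L * A * R = 1`
    let Lm : Matrix β ι F := Matrix.of fun B i => y B i * u i
    let Rm : Matrix ι β F := Matrix.of fun i B => a B i
    have hLZ : Lm * Z = 1 := by
      ext B' B
      rw [Matrix.mul_apply, Matrix.one_apply]
      have h := horth B B'
      have : ∑ i, Lm B' i * Z i B = ∑ i, a B i * y B' i := by
        refine Finset.sum_congr rfl (fun i _ => ?_)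
        simp only [Lm, Z, Matrix.of_apply]
        field_simp [hu i]
      rw [this, h]
      simp [eq_comm]
    have hYR : Y * Rm = 1 := by
      ext B' B
      rw [Matrix.mul_apply, Matrix.one_apply]
      have h := horth B B'
      have : ∑ i, Y B' i * Rm i B = ∑ i, a B i * y B' i := by
        refine Finset.sum_congr rfl (fun i _ => ?_)
        simp only [Y, Rm, Matrix.of_apply]
        ring
      rw [this, h]
      simp [eq_comm]
    have hone : Lm * A * Rm = 1 := by
      rw [hAZY]
      calc Lm * (Z * Y) * Rm = (Lm * Z) * (Y * Rm) := by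
            simp only [Matrix.mul_assoc]
        _ = 1 := by rw [hLZ, hYR, Matrix.one_mul]
    have h1 : (1 : Matrix β β F).rank = Fintype.card β := Matrix.rank_one
    calc Fintype.card β = (Lm * A * Rm).rank := by rw [hone, h1]
      _ ≤ (Lm * A).rank := Matrix.rank_mul_le_left _ _
      _ ≤ A.rank := Matrix.rank_mul_le_right _ _

end Cfsg.Agent.Helper78
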