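import Cfsg.Agent.Helper16.CoverUnder
import Cfsg.Agent.Helper16.SecondMain
import Cfsg.Agent.Helper81.Gallagher
import Cfsg.Agent.Helper78.CentralChar
import Cfsg.Agent.Helper78.IrrTransport

/-!
# Relative central characters (helper78)

Let `ψ ∈ Irr(G)` restrict irreducibly to the subgroup `N`.  Then every `N`-invariant element of the
group algebra acts as a scalar in a representation affording `ψ` (Schur's lemma for `ψ_N`), the
scalar being `omega ψ s`.  Consequently `omega ψ` is multiplicative on `N`-invariant functions and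
takes algebraic-integer values on indicator functions of `N`-stable sets.
-/

set_option autoImplicit false
set_option linter.unusedSectionVars false

namespace Cfsg.Agent.Helper78

open Cfsg Cfsg.Agent.Helper16

section RelSchur

variable {G : Type*} [Group G] [Fintype G]
variable {V : Type*} [AddCommGroup V] [Module ℂ V] [FiniteDimensional ℂ V]

/-- An `N`-invariant function commutes with `ρ(n)`, `n ∈ N`. -/
theorem repSum_comm_of_invUnder (ρ : Representation ℂ G V) (N : Subgroup G) {s : G → ℂ}
    (hs : Helper77.InvUnder (N : Set G) s) (n : N) :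
    repSum ρ s ∘ₗ ρ (n : G) = ρ (n : G) ∘ₗ repSum ρ s := by
  show repSum ρ s * ρ (n : G) = ρ (n : G) * repSum ρ s
  unfold repSum
  rw [Finset.sum_mul, Finset.mul_sum]
  rw [← Equiv.sum_comp (MulAut.conj (n : G)).toEquiv (fun x => s x • ρ x * ρ (n : G))]
  refine Finset.sum_congr rfl (fun x _ => ?_)
  show s ((n : G) * x * (n : G)⁻¹) • ρ ((n : G) * x * (n : G)⁻¹) * ρ (n : G) = ρ (n : G) * s x • ρ x
  rw [hs (n : G) n.2 x, smul_mul_assoc, mul_smul_comm, ← map_mul, ← map_mul]
  congr 2
  simp [mul_assoc]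

/-- Relative Schur: if `ρ` restricted to `N` is irreducible, an `N`-invariant function acts by the
scalar `omega χ s`. -/
theorem repSum_eq_omega_of_invUnder (ρ : Representation ℂ G V) (N : Subgroup G)
    (hirr : (Helper81.resRep ρ N).IsIrreducible) {s : G → ℂ}
    (hs : Helper77.InvUnder (N : Set G) s) :
    repSum ρ s = omega ρ.character s • (1 : V →ₗ[ℂ] V) := by
  haveI := hirr
  obtain ⟨c, hc⟩ := schur_scalar (Helper81.resRep ρ N) (repSum ρ s)
    (fun n => repSum_comm_of_invUnder ρ N hs n)
  have hn : (Module.finrank ℂ V : ℂ) ≠ 0 := by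
    exact_mod_cast (finrank_pos_of_irreducible (Helper81.resRep ρ N)).ne'
  have htr : LinearMap.trace ℂ V (repSum ρ s) = ∑ x : G, s x * ρ.character x := by
    unfold repSum
    rw [map_sum]
    refine Finset.sum_congr rfl (fun x _ => ?_)
    rw [map_smul, smul_eq_mul]
    rfl
  rw [hc, map_smul, LinearMap.trace_one, smul_eq_mul] at htr
  rw [hc]
  congr 1
  unfold omega
  rw [Representation.char_one, ← htr]
  field_simp

theorem omega_conv_of_invUnder_rep (ρ : Representation ℂ G V) (N : Subgroup G)
    (hirr : (Helper81.resRep ρ N).IsIrreducible) {s t : G → ℂ}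
    (hs : Helper77.InvUnder (N : Set G) s) (ht : Helper77.InvUnder (N : Set G) t)
    (hst : Helper77.InvUnder (N : Set G) (conv s t)) :
    omega ρ.character (conv s t) = omega ρ.character s * omega ρ.character t := by
  have h1 := repSum_eq_omega_of_invUnder ρ N hirr hst
  rw [← repSum_mul, repSum_eq_omega_of_invUnder ρ N hirr hs,
    repSum_eq_omega_of_invUnder ρ N hirr ht, smul_mul_smul_comm, mul_one] at h1
  haveI := hirr
  have hpos := finrank_pos_of_irreducible (Helper81.resRep ρ N)
  have : Nontrivial V := Module.finrank_pos_iff.mp hpos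
  have hne : (1 : V →ₗ[ℂ] V) ≠ 0 := one_ne_zero
  have h2 : (omega ρ.character s * omega ρ.character t - omega ρ.character (conv s t)) •
      (1 : V →ₗ[ℂ] V) = 0 := by
    rw [sub_smul, h1, sub_self]
  rcases smul_eq_zero.mp h2 with h | h
  · exact (sub_eq_zero.mp h).symm
  · exact absurd h hne

/-- A sum of `ρ(x)` over a finite set is integral over `ℤ`. -/
theorem isIntegral_sum_rep (ρ : Representation ℂ G V) (S : Finset G) :
    IsIntegral ℤ (∑ x ∈ S, ρ x) := by
  classical
  let F : MonoidAlgebra ℤ G →ₐ[ℤ] Module.End ℂ V := MonoidAlgebra.lift ℤ (Module.End ℂ V) G ρ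
  have h1 : ∑ x ∈ S, ρ x = F (∑ x ∈ S, MonoidAlgebra.of ℤ G x) := by
    rw [map_sum]
    refine Finset.sum_congr rfl fun x _ => ?_
    simp [F]
  rw [h1]
  exact (IsIntegral.of_finite ℤ _).map F

end RelSchur

section RelIrr

variable {G : Type*} [Group G] [Fintype G] {M : Ideal AlgInt} {p : ℕ}
variable (N : Subgroup G) [Fintype N]

/-- `omega ψ` is multiplicative on `N`-invariant functions when `ψ_N` is irreducible. -/
theorem omega_conv_of_invUnder (ψ : IrrCharacter G)
    (hres : IsIrrCharacter N (fun n : N => (ψ : G → ℂ) n)) {s t : G → ℂ}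
    (hs : Helper77.InvUnder (N : Set G) s) (ht : Helper77.InvUnder (N : Set G) t) :
    omega (ψ : G → ℂ) (conv s t) = omega (ψ : G → ℂ) s * omega (ψ : G → ℂ) t := by
  obtain ⟨χ, n, ρ, hirr, rfl⟩ := ψ
  have hirrN : (Helper81.resRep ρ N).IsIrreducible :=
    Helper81.isIrreducible_of_isIrrCharacter (Helper81.resRep ρ N) hres
  exact omega_conv_of_invUnder_rep ρ N hirrN hs ht (Helper77.invUnder_conv hs ht)

open Classical in
/-- `omega ψ` of the indicator function of an `N`-stable set is an algebraic integer. -/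
theorem isIntegral_omega_indicator (ψ : IrrCharacter G)
    (hres : IsIrrCharacter N (fun n : N => (ψ : G → ℂ) n)) (S : Finset G)
    (hS : ∀ n ∈ N, ∀ x ∈ S, n * x * n⁻¹ ∈ S) :
    IsIntegral ℤ (omega (ψ : G → ℂ) (fun x => if x ∈ S then (1 : ℂ) else 0)) := by
  obtain ⟨χ, n, ρ, hirr, rfl⟩ := ψ
  have hirrN : (Helper81.resRep ρ N).IsIrreducible :=
    Helper81.isIrreducible_of_isIrrCharacter (Helper81.resRep ρ N) hres
  have hinv : Helper77.InvUnder (N : Set G) (fun x => if x ∈ S then (1 : ℂ) else 0) := by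
    intro u hu x
    have hiff : u * x * u⁻¹ ∈ S ↔ x ∈ S := by
      constructor
      · intro h
        have := hS u⁻¹ (N.inv_mem hu) _ h
        simpa [mul_assoc] using this
      · intro h
        exact hS u hu x h
    show (if u * x * u⁻¹ ∈ S then (1 : ℂ) else 0) = if x ∈ S then (1 : ℂ) else 0
    by_cases hx : x ∈ S
    · rw [if_pos hx, if_pos (hiff.mpr hx)]
    · rw [if_neg hx, if_neg (fun h => hx (hiff.mp h))]
  have h1 := repSum_eq_omega_of_invUnder ρ N hirrN hinv
  have h2 : repSum ρ (fun x => if x ∈ S then (1 : ℂ) else 0) = ∑ x ∈ S, ρ x := by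
    unfold repSum
    rw [← Finset.sum_filter_add_sum_filter_not Finset.univ (fun x => x ∈ S)]
    have hz : ∑ x ∈ Finset.univ.filter (fun x => ¬ x ∈ S),
        (if x ∈ S then (1 : ℂ) else 0) • ρ x = 0 := by
      refine Finset.sum_eq_zero (fun x hx => ?_)
      rw [Finset.mem_filter] at hx
      rw [if_neg hx.2, zero_smul]
    rw [hz, add_zero]
    have hfil : Finset.univ.filter (fun x => x ∈ S) = S := by
      ext x; simp
    rw [hfil]
    refine Finset.sum_congr rfl (fun x hx => ?_)
    show (if x ∈ S then (1 : ℂ) else 0) • ρ x = ρ x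
    rw [if_pos hx, one_smul]
  have h3 := isIntegral_sum_rep ρ S
  rw [← h2, h1, ← Algebra.algebraMap_eq_smul_one] at h3
  haveI := hirrN
  have hpos := finrank_pos_of_irreducible (Helper81.resRep ρ N)
  have : Nontrivial (Fin n → ℂ) := Module.finrank_pos_iff.mp hpos
  exact (isIntegral_algebraMap_iff
    (FaithfulSMul.algebraMap_injective ℂ (Module.End ℂ (Fin n → ℂ)))).1 h3

open Classical in
/-- The orbit of `g` under conjugation by `N`. -/
noncomputable def conjOrb (g : G) : Finset G :=
  Finset.univ.image (fun n : N => (n : G) * g * (n : G)⁻¹)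

theorem mem_conjOrb {g x : G} : x ∈ conjOrb N g ↔ ∃ n : N, (n : G) * g * (n : G)⁻¹ = x := by
  classical
  unfold conjOrb
  simp

theorem self_mem_conjOrb (g : G) : g ∈ conjOrb N g :=
  (mem_conjOrb N).mpr ⟨1, by simp⟩

theorem conj_mem_conjOrb {g x u : G} (hu : u ∈ N) (hx : x ∈ conjOrb N g) :
    u * x * u⁻¹ ∈ conjOrb N g := by
  obtain ⟨n, rfl⟩ := (mem_conjOrb N).mp hx
  refine (mem_conjOrb N).mpr ⟨⟨u, hu⟩ * n, ?_⟩
  simp [mul_assoc]

open Classical in
/-- The indicator function of the `N`-orbit of `g`. -/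
noncomputable def orbInd (g : G) : G → ℂ := fun x => if x ∈ conjOrb N g then (1 : ℂ) else 0

theorem invUnder_orbInd (g : G) : Helper77.InvUnder (N : Set G) (orbInd N g) := by
  classical
  intro u hu x
  have hiff : u * x * u⁻¹ ∈ conjOrb N g ↔ x ∈ conjOrb N g := by
    constructor
    · intro h
      have := conj_mem_conjOrb N (N.inv_mem hu) h
      simpa [mul_assoc] using this
    · intro h
      exact conj_mem_conjOrb N hu h
  unfold orbInd
  by_cases hx : x ∈ conjOrb N g
  · rw [if_pos hx, if_pos (hiff.mpr hx)]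
  · rw [if_neg hx, if_neg (fun h => hx (hiff.mp h))]

theorem rValued_orbInd [M.IsPrime] (g : G) : RValued M (orbInd N g) := by
  classical
  intro x
  unfold orbInd
  by_cases hx : x ∈ conjOrb N g
  · rw [if_pos hx]; exact Helper77.memLocalRing_natCast M 1 |> fun h => by simpa using h
  · rw [if_neg hx]; exact Helper77.memLocalRing_natCast M 0 |> fun h => by simpa using h

theorem sum_orbInd (g : G) : ∑ x : G, orbInd N g x = ((conjOrb N g).card : ℂ) := by
  classical
  unfold orbInd
  rw [Finset.sum_ite, Finset.sum_const_zero, add_zero, Finset.sum_const, nsmul_eq_mul, mul_one]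
  congr 2
  ext x
  simp

theorem suppCoset_orbInd [hN : N.Normal] (g : G) :
    SuppCoset N (QuotientGroup.mk g : G ⧸ N) (orbInd N g) := by
  classical
  intro x hx
  unfold orbInd
  rw [if_neg]
  intro h
  obtain ⟨n, rfl⟩ := (mem_conjOrb N).mp h
  exact hx (mk_conj_of_mem N n.2 g)

/-- `omega ψ` of an orbit indicator. -/
theorem omega_orbInd {ψ : G → ℂ} (hψ : IsClassFunction G ψ) (g : G) :
    omega ψ (orbInd N g) = ((conjOrb N g).card : ℂ) * ψ g / ψ 1 := by
  classical
  unfold omega
  congr 1
  have h1 : ∀ x : G, orbInd N g x * ψ x = orbInd N g x * ψ g := by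
    intro x
    unfold orbInd
    by_cases hx : x ∈ conjOrb N g
    · obtain ⟨n, rfl⟩ := (mem_conjOrb N).mp hx
      rw [hψ g (n : G)]
    · rw [if_neg hx, zero_mul, zero_mul]
  rw [Finset.sum_congr rfl (fun x _ => h1 x), ← Finset.sum_mul, sum_orbInd]

end RelIrr

end Cfsg.Agent.Helper78
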