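import Cfsg.Agent.Helper78.RelTwist
import Cfsg.Agent.Helper81.RealExt2
import Cfsg.Agent.Helper81.LinTwist

/-!
# An extension in the principal block, compatible with all intermediate subgroups (helper78)
-/

set_option autoImplicit false
set_option linter.unusedSectionVars false

namespace Cfsg.Agent.Helper78

open Cfsg Cfsg.Agent.Helper16

section RelExtend

variable {G : Type*} [Group G] [Fintype G] {M : Ideal AlgInt} {p : ℕ}
variable (N : Subgroup G) [hN : N.Normal] [Fintype N]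

/-- The condition `(*)` passes to intermediate subgroups and puts the restriction into the
principal block there. -/
theorem restrict_mem_principalBlock_of_congr_one [Fact p.Prime] (hM : IsPModular p M)
    (C Q : Subgroup G) (hsup : N ⊔ C = ⊤) (hQN : Q ≤ N) (hQ : ¬ p ∣ Q.relIndex N)
    (hCQ : C ≤ Subgroup.centralizer (Q : Set G)) (θ : IrrCharacter N)
    (hθ : θ ∈ principalBlock M N) (χ : IrrCharacter G)
    (hχ : ∀ n : N, (χ : G → ℂ) n = (θ : N → ℂ) n)
    (hstar : ∀ y ∈ C, MemLocalIdeal M ((χ : G → ℂ) y / (χ : G → ℂ) 1 - 1))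
    (J : Subgroup G) (hNJ : N ≤ J) :
    ∃ ξ : IrrCharacter J, ξ ∈ principalBlock M J ∧ ∀ y : J, (ξ : J → ℂ) y = (χ : G → ℂ) y := by
  classical
  haveI : Fintype J := Fintype.ofFinite J
  haveI : Fintype (N.subgroupOf J) := Fintype.ofFinite _
  have hχN : IsIrrCharacter N (fun n : N => (χ : G → ℂ) n) := by
    have : (fun n : N => (χ : G → ℂ) n) = (θ : N → ℂ) := funext hχ
    rw [this]; exact θ.2
  have hξirr : IsIrrCharacter J (fun y : J => (χ : G → ℂ) y) :=
    Helper81.isIrrCharacter_restrict_of_le χ.2 hNJ hχN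
  set ξ : IrrCharacter J := ⟨fun y : J => (χ : G → ℂ) y, hξirr⟩ with hξdef
  refine ⟨ξ, ?_, fun y => rfl⟩
  -- transport `θ` to `N.subgroupOf J`
  let e : N ≃* N.subgroupOf J := (Subgroup.subgroupOfEquivOfLe hNJ).symm
  set θ' : IrrCharacter (N.subgroupOf J) := irrMap e θ with hθ'def
  have hθ' : θ' ∈ principalBlock M (N.subgroupOf J) := (irrMap_mem_principalBlock_iff M e θ).mpr hθ
  have hξθ' : ∀ n : N.subgroupOf J, (ξ : J → ℂ) n = (θ' : N.subgroupOf J → ℂ) n := by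
    intro n
    rw [hθ'def, irrMap_apply]
    show (χ : G → ℂ) ((n : J) : G) = (θ : N → ℂ) (e.symm n)
    rw [← hχ]
    rfl
  have hsup' : N.subgroupOf J ⊔ C.subgroupOf J = ⊤ := by
    rw [eq_top_iff]
    intro j _
    obtain ⟨y, hyC, hy⟩ := exists_mem_mk_eq N C hsup (j : G)
    have hn : (j : G) * y⁻¹ ∈ N := by
      have h1 : (QuotientGroup.mk ((j : G) * y⁻¹) : G ⧸ N) = 1 := by
        rw [QuotientGroup.mk_mul, QuotientGroup.mk_inv, hy, mul_inv_cancel]
      exact (QuotientGroup.eq_one_iff _).mp h1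
    have hyJ : y ∈ J := by
      have h2 : y = ((j : G) * y⁻¹)⁻¹ * (j : G) := by group
      rw [h2]
      exact J.mul_mem (J.inv_mem (hNJ hn)) j.2
    have hj : j = (⟨(j : G) * y⁻¹, J.mul_mem j.2 (J.inv_mem hyJ)⟩ : J) * ⟨y, hyJ⟩ := by
      apply Subtype.ext
      simp
    rw [hj]
    exact Subgroup.mul_mem_sup (Subgroup.mem_subgroupOf.mpr hn) (Subgroup.mem_subgroupOf.mpr hyC)
  have hQN' : Q.subgroupOf J ≤ N.subgroupOf J := Subgroup.subgroupOf_mono J hQN
  have hQ' : ¬ p ∣ (Q.subgroupOf J).relIndex (N.subgroupOf J) := by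
    rw [Subgroup.relIndex_subgroupOf hNJ]
    exact hQ
  have hCQ' : C.subgroupOf J ≤ Subgroup.centralizer ((Q.subgroupOf J : Subgroup J) : Set J) := by
    intro c hc
    rw [Subgroup.mem_centralizer_iff]
    intro q hq
    apply Subtype.ext
    have h1 := hCQ (Subgroup.mem_subgroupOf.mp hc)
    rw [Subgroup.mem_centralizer_iff] at h1
    exact h1 (q : G) (Subgroup.mem_subgroupOf.mp hq)
  have hstar' : ∀ y ∈ C.subgroupOf J,
      MemLocalIdeal M ((ξ : J → ℂ) y / (ξ : J → ℂ) 1 - 1) := by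
    intro y hy
    exact hstar (y : G) (Subgroup.mem_subgroupOf.mp hy)
  exact mem_principalBlock_of_congr_one (N.subgroupOf J) hM (C.subgroupOf J) (Q.subgroupOf J)
    hsup' hQN' hQ' hCQ' θ' hθ' ξ hξθ' hstar'

/-- **Main theorem.** -/
theorem exists_extension_principalBlock_compatible [Fact p.Prime] (hM : IsPModular p M)
    (C Q : Subgroup G) (hsup : N ⊔ C = ⊤) (hQN : Q ≤ N) (hQ : ¬ p ∣ Q.relIndex N)
    (hCQ : C ≤ Subgroup.centralizer (Q : Set G)) (θ : IrrCharacter N)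
    (hθ : θ ∈ principalBlock M N)
    (hext : ∃ ψ : IrrCharacter G, ∀ x : N, (ψ : G → ℂ) x = (θ : N → ℂ) x) :
    ∃ χ : IrrCharacter G, χ ∈ principalBlock M G ∧ (∀ x : N, (χ : G → ℂ) x = (θ : N → ℂ) x) ∧
      ∀ J : Subgroup G, N ≤ J → ∃ ξ : IrrCharacter J, ξ ∈ principalBlock M J ∧
        ∀ y : J, (ξ : J → ℂ) y = (χ : G → ℂ) y := by
  obtain ⟨ψ, hψ⟩ := hext
  obtain ⟨lam, hlamN, hlamC⟩ := exists_twist_congr_one N hM C Q hsup hQN hQ hCQ θ hθ ψ hψ
  set χ : IrrCharacter G := ⟨fun g => ((lam g : ℂˣ) : ℂ) * (ψ : G → ℂ) g,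
    Helper81.isIrrCharacter_twist lam ψ.2⟩ with hχdef
  have hχ : ∀ n : N, (χ : G → ℂ) n = (θ : N → ℂ) n := by
    intro n
    show ((lam (n : G) : ℂˣ) : ℂ) * (ψ : G → ℂ) n = _
    rw [hlamN (n : G) n.2, Units.val_one, one_mul, hψ]
  have hstar : ∀ y ∈ C, MemLocalIdeal M ((χ : G → ℂ) y / (χ : G → ℂ) 1 - 1) := by
    intro y hy
    show MemLocalIdeal M (((lam y : ℂˣ) : ℂ) * (ψ : G → ℂ) y /
      (((lam 1 : ℂˣ) : ℂ) * (ψ : G → ℂ) 1) - 1)
    rw [map_one, Units.val_one, one_mul]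
    exact hlamC y hy
  refine ⟨χ, mem_principalBlock_of_congr_one N hM C Q hsup hQN hQ hCQ θ hθ χ hχ hstar, hχ, ?_⟩
  intro J hNJ
  exact restrict_mem_principalBlock_of_congr_one N hM C Q hsup hQN hQ hCQ θ hθ χ hχ hstar J hNJ

end RelExtend

end Cfsg.Agent.Helper78
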