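import Cfsg.Agent.Helper78.RelPrincipal
import Cfsg.Agent.Helper67.TeichLift

/-!
# Twisting an extension into the principal block (helper78)

`N ⊴ G`, `Q ≤ N` of index prime to `p`, `C ≤ C_G(Q)`, `G = N C`, `ψ ∈ Irr(G)` extending
`θ ∈ B₀(N)`.  Then `y ↦ ψ(y)/ψ(1)` induces a homomorphism `G/N → kˣ` (`k` the residue field), and
its Teichmüller lift `λ` gives a linear character of `G/N` with `(λ⁻¹ψ)(y)/ψ(1) ≡ 1` on `C`.
-/

set_option autoImplicit false
set_option linter.unusedSectionVars false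

namespace Cfsg.Agent.Helper78

open Cfsg Cfsg.Agent.Helper16

section RelTwist

variable {G : Type*} [Group G] [Fintype G] {M : Ideal AlgInt} {p : ℕ}
variable (N : Subgroup G) [hN : N.Normal] [Fintype N]

/-- For `y ∈ C` the relative central character value `A_y` is a unit of the local ring. -/
theorem omega_orbInd_unit [Fact p.Prime] (hM : IsPModular p M)
    (C Q : Subgroup G) (hQN : Q ≤ N) (hQ : ¬ p ∣ Q.relIndex N)
    (hCQ : C ≤ Subgroup.centralizer (Q : Set G)) (θ : IrrCharacter N)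
    (hθ : θ ∈ principalBlock M N) (ψ : IrrCharacter G)
    (hψ : ∀ n : N, (ψ : G → ℂ) n = (θ : N → ℂ) n) {y : G} (hy : y ∈ C) :
    MemLocalRing M (omega (ψ : G → ℂ) (orbInd N y)) ∧
      ¬ MemLocalIdeal M (omega (ψ : G → ℂ) (orbInd N y)) := by
  haveI hMp : M.IsPrime := Helper77.isPrime_of_isPModular hM
  have hpr : p.Prime := hM.1
  have hres : IsIrrCharacter N (fun n : N => (ψ : G → ℂ) n) := by
    have : (fun n : N => (ψ : G → ℂ) n) = (θ : N → ℂ) := funext hψ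
    rw [this]; exact θ.2
  have hint : ∀ g : G, MemLocalRing M (omega (ψ : G → ℂ) (orbInd N g)) := fun g =>
    Helper77.memLocalRing_of_isIntegral M
      (isIntegral_omega_indicator N ψ hres (conjOrb N g) (fun n hn x hx => conj_mem_conjOrb N hn hx))
  refine ⟨hint y, ?_⟩
  intro hI
  have hγ : (QuotientGroup.mk y : G ⧸ N) * QuotientGroup.mk y⁻¹ = 1 := by
    rw [QuotientGroup.mk_inv, mul_inv_cancel]
  have hE := omega_mul_omega_sub_memLocalIdeal N θ hθ ψ hψ hγ (invUnder_orbInd N y)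
    (rValued_orbInd N y) (suppCoset_orbInd N y) (invUnder_orbInd N y⁻¹) (rValued_orbInd N y⁻¹)
    (suppCoset_orbInd N y⁻¹)
  rw [sum_orbInd, sum_orbInd] at hE
  have h1 : MemLocalIdeal M (omega (ψ : G → ℂ) (orbInd N y) * omega (ψ : G → ℂ) (orbInd N y⁻¹)) := by
    rw [mul_comm]
    exact Helper77.memLocalIdeal_mul_left M (hint y⁻¹) hI
  have h2 := Helper77.memLocalIdeal_sub M h1 hE
  rw [sub_sub_cancel] at h2
  have h3 : MemLocalIdeal M (((conjOrb N y).card * (conjOrb N y⁻¹).card : ℕ) : ℂ) := by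
    push_cast; exact h2
  have h4 := (Helper77.memLocalIdeal_natCast_iff hM _).mp h3
  rcases (Nat.Prime.dvd_mul hpr).mp h4 with h5 | h5
  · exact not_dvd_card_conjOrb N C Q hQN hQ hCQ hy h5
  · exact not_dvd_card_conjOrb N C Q hQN hQ hCQ (C.inv_mem hy) h5

/-- For `y ∈ C`, `μ(y) = ψ(y)/ψ(1)` is a unit of the local ring. -/
theorem div_one_unit [Fact p.Prime] (hM : IsPModular p M)
    (C Q : Subgroup G) (hQN : Q ≤ N) (hQ : ¬ p ∣ Q.relIndex N)
    (hCQ : C ≤ Subgroup.centralizer (Q : Set G)) (θ : IrrCharacter N)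
    (hθ : θ ∈ principalBlock M N) (ψ : IrrCharacter G)
    (hψ : ∀ n : N, (ψ : G → ℂ) n = (θ : N → ℂ) n) {y : G} (hy : y ∈ C) :
    MemLocalRing M ((ψ : G → ℂ) y / (ψ : G → ℂ) 1) ∧
      ¬ MemLocalIdeal M ((ψ : G → ℂ) y / (ψ : G → ℂ) 1) := by
  haveI hMp : M.IsPrime := Helper77.isPrime_of_isPModular hM
  obtain ⟨hA, hA'⟩ := omega_orbInd_unit N hM C Q hQN hQ hCQ θ hθ ψ hψ hy
  rw [omega_orbInd N (irr_isClassFunction ψ) y, mul_div_assoc] at hA hA'
  have hc : ¬ p ∣ (conjOrb N y).card := not_dvd_card_conjOrb N C Q hQN hQ hCQ hy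
  have hcI : ¬ MemLocalIdeal M ((conjOrb N y).card : ℂ) :=
    fun hh => hc ((Helper77.memLocalIdeal_natCast_iff hM _).mp hh)
  have hcR : MemLocalRing M ((conjOrb N y).card : ℂ) := Helper77.memLocalRing_natCast M _
  have hc0 : ((conjOrb N y).card : ℂ) ≠ 0 := fun h0 => hcI (h0 ▸ Helper77.memLocalIdeal_zero M)
  have hinv := Helper77.memLocalRing_inv M hcR hcI
  have hμ : (ψ : G → ℂ) y / (ψ : G → ℂ) 1 =
      ((conjOrb N y).card : ℂ)⁻¹ * (((conjOrb N y).card : ℂ) * ((ψ : G → ℂ) y / (ψ : G → ℂ) 1)) := by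
    rw [← mul_assoc, inv_mul_cancel₀ hc0, one_mul]
  refine ⟨?_, ?_⟩
  · rw [hμ]; exact Helper77.memLocalRing_mul M hinv hA
  · intro hI
    exact hA' (Helper77.memLocalIdeal_mul_left M hcR hI)

/-- Cancelling a unit natural number modulo the local ideal. -/
theorem memLocalIdeal_of_natCast_mul (hM : IsPModular p M) {c : ℕ} (hc : ¬ p ∣ c) {x : ℂ}
    (hx : MemLocalRing M x) (h : MemLocalIdeal M ((c : ℂ) * x)) : MemLocalIdeal M x := by
  haveI hMp : M.IsPrime := Helper77.isPrime_of_isPModular hM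
  rcases Helper77.memLocalIdeal_or_of_mul M (Helper77.memLocalRing_natCast M c) hx h with h1 | h1
  · exact absurd ((Helper77.memLocalIdeal_natCast_iff hM c).mp h1) hc
  · exact h1

/-- For `y ∈ C ∩ N`, `μ(y) ≡ 1`. -/
theorem div_one_sub_one_of_mem [Fact p.Prime] (hM : IsPModular p M)
    (C Q : Subgroup G) (hQN : Q ≤ N) (hQ : ¬ p ∣ Q.relIndex N)
    (hCQ : C ≤ Subgroup.centralizer (Q : Set G)) (θ : IrrCharacter N)
    (hθ : θ ∈ principalBlock M N) (ψ : IrrCharacter G)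
    (hψ : ∀ n : N, (ψ : G → ℂ) n = (θ : N → ℂ) n) {y : G} (hy : y ∈ C) (hyN : y ∈ N) :
    MemLocalIdeal M ((ψ : G → ℂ) y / (ψ : G → ℂ) 1 - 1) := by
  haveI hMp : M.IsPrime := Helper77.isPrime_of_isPModular hM
  have hs : SuppCoset N 1 (orbInd N y) := by
    have := suppCoset_orbInd N y
    rwa [(QuotientGroup.eq_one_iff y).mpr hyN] at this
  have h1 := omega_sub_sum_memLocalIdeal N θ hθ ψ hψ (invUnder_orbInd N y) (rValued_orbInd N y) hs
  rw [sum_orbInd, omega_orbInd N (irr_isClassFunction ψ) y, mul_div_assoc] at h1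
  have hc : ¬ p ∣ (conjOrb N y).card := not_dvd_card_conjOrb N C Q hQN hQ hCQ hy
  obtain ⟨hμR, -⟩ := div_one_unit N hM C Q hQN hQ hCQ θ hθ ψ hψ hy
  apply memLocalIdeal_of_natCast_mul hM hc
    (Helper77.memLocalRing_sub M hμR (Helper77.memLocalRing_natCast M 1 |> fun h => by simpa using h))
  have : ((conjOrb N y).card : ℂ) * ((ψ : G → ℂ) y / (ψ : G → ℂ) 1 - 1) =
      ((conjOrb N y).card : ℂ) * ((ψ : G → ℂ) y / (ψ : G → ℂ) 1) - ((conjOrb N y).card : ℂ) := by ring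
  rw [this]
  exact h1

/-- `μ` is multiplicative on `C` modulo the local ideal. -/
theorem div_one_mul_congr [Fact p.Prime] (hM : IsPModular p M)
    (C Q : Subgroup G) (hQN : Q ≤ N) (hQ : ¬ p ∣ Q.relIndex N)
    (hCQ : C ≤ Subgroup.centralizer (Q : Set G)) (θ : IrrCharacter N)
    (hθ : θ ∈ principalBlock M N) (ψ : IrrCharacter G)
    (hψ : ∀ n : N, (ψ : G → ℂ) n = (θ : N → ℂ) n) {y y' : G} (hy : y ∈ C) (hy' : y' ∈ C) :
    MemLocalIdeal M ((ψ : G → ℂ) (y * y') / (ψ : G → ℂ) 1 -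
      ((ψ : G → ℂ) y / (ψ : G → ℂ) 1) * ((ψ : G → ℂ) y' / (ψ : G → ℂ) 1)) := by
  haveI hMp : M.IsPrime := Helper77.isPrime_of_isPModular hM
  have hres : IsIrrCharacter N (fun n : N => (ψ : G → ℂ) n) := by
    have : (fun n : N => (ψ : G → ℂ) n) = (θ : N → ℂ) := funext hψ
    rw [this]; exact θ.2
  set z : G := (y * y')⁻¹ with hzdef
  have hyy' : y * y' ∈ C := C.mul_mem hy hy'
  have hz : z ∈ C := C.inv_mem hyy'
  -- notation
  set μ : G → ℂ := fun g => (ψ : G → ℂ) g / (ψ : G → ℂ) 1 with hμdef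
  set cy : ℕ := (conjOrb N y).card with hcy
  set cy' : ℕ := (conjOrb N y').card with hcy'
  set cw : ℕ := (conjOrb N (y * y')).card with hcw
  set cz : ℕ := (conjOrb N z).card with hcz
  have hAeq : ∀ g : G, omega (ψ : G → ℂ) (orbInd N g) = ((conjOrb N g).card : ℂ) * μ g := by
    intro g
    rw [omega_orbInd N (irr_isClassFunction ψ) g, mul_div_assoc]
  have hncy : ¬ p ∣ cy := not_dvd_card_conjOrb N C Q hQN hQ hCQ hy
  have hncy' : ¬ p ∣ cy' := not_dvd_card_conjOrb N C Q hQN hQ hCQ hy'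
  have hncw : ¬ p ∣ cw := not_dvd_card_conjOrb N C Q hQN hQ hCQ hyy'
  have hncz : ¬ p ∣ cz := not_dvd_card_conjOrb N C Q hQN hQ hCQ hz
  obtain ⟨hμy, -⟩ := div_one_unit N hM C Q hQN hQ hCQ θ hθ ψ hψ hy
  obtain ⟨hμy', -⟩ := div_one_unit N hM C Q hQN hQ hCQ θ hθ ψ hψ hy'
  obtain ⟨hμw, -⟩ := div_one_unit N hM C Q hQN hQ hCQ θ hθ ψ hψ hyy'
  obtain ⟨hμz, hμz'⟩ := div_one_unit N hM C Q hQN hQ hCQ θ hθ ψ hψ hz
  -- first congruence: triple product
  have hγ1 : ((QuotientGroup.mk y : G ⧸ N) * QuotientGroup.mk y') * QuotientGroup.mk z = 1 := by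
    rw [hzdef, QuotientGroup.mk_inv, QuotientGroup.mk_mul, mul_inv_cancel]
  have hE1 := omega_mul_omega_sub_memLocalIdeal N θ hθ ψ hψ hγ1
    (Helper77.invUnder_conv (invUnder_orbInd N y) (invUnder_orbInd N y'))
    (rValued_conv (rValued_orbInd N y) (rValued_orbInd N y'))
    (suppCoset_conv N (suppCoset_orbInd N y) (suppCoset_orbInd N y'))
    (invUnder_orbInd N z) (rValued_orbInd N z) (suppCoset_orbInd N z)
  rw [omega_conv_of_invUnder N ψ hres (invUnder_orbInd N y) (invUnder_orbInd N y'), sum_conv_eq,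
    sum_orbInd, sum_orbInd, sum_orbInd, hAeq, hAeq, hAeq] at hE1
  -- second congruence
  have hγ2 : (QuotientGroup.mk (y * y') : G ⧸ N) * QuotientGroup.mk z = 1 := by
    rw [hzdef, QuotientGroup.mk_inv, mul_inv_cancel]
  have hE2 := omega_mul_omega_sub_memLocalIdeal N θ hθ ψ hψ hγ2 (invUnder_orbInd N (y * y'))
    (rValued_orbInd N (y * y')) (suppCoset_orbInd N (y * y')) (invUnder_orbInd N z)
    (rValued_orbInd N z) (suppCoset_orbInd N z)
  rw [sum_orbInd, sum_orbInd, hAeq, hAeq] at hE2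
  -- combine: `cy cy' cw cz μ(z) (μ y μ y' - μ (y y')) ∈ ideal`
  have hcomb : MemLocalIdeal M (((cy * cy' * cw * cz : ℕ) : ℂ) *
      (μ z * (μ (y * y') - μ y * μ y'))) := by
    have e : ((cy * cy' * cw * cz : ℕ) : ℂ) * (μ z * (μ (y * y') - μ y * μ y')) =
        ((cy : ℂ) * (cy' : ℂ)) * ((cw : ℂ) * μ (y * y') * ((cz : ℂ) * μ z) - (cw : ℂ) * (cz : ℂ)) -
        (cw : ℂ) * ((cy : ℂ) * μ y * ((cy' : ℂ) * μ y') * ((cz : ℂ) * μ z) -
          (cy : ℂ) * (cy' : ℂ) * (cz : ℂ)) := by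
      push_cast; ring
    rw [e]
    exact Helper77.memLocalIdeal_sub M
      (Helper77.memLocalIdeal_mul_left M
        (Helper77.memLocalRing_mul M (Helper77.memLocalRing_natCast M cy)
          (Helper77.memLocalRing_natCast M cy')) hE2)
      (Helper77.memLocalIdeal_mul_left M (Helper77.memLocalRing_natCast M cw) hE1)
  have hpr : p.Prime := hM.1
  have hnc : ¬ p ∣ cy * cy' * cw * cz := by
    intro h
    rcases (Nat.Prime.dvd_mul hpr).mp h with h | h
    · rcases (Nat.Prime.dvd_mul hpr).mp h with h | h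
      · rcases (Nat.Prime.dvd_mul hpr).mp h with h | h
        · exact hncy h
        · exact hncy' h
      · exact hncw h
    · exact hncz h
  have hdiffR : MemLocalRing M (μ (y * y') - μ y * μ y') :=
    Helper77.memLocalRing_sub M hμw (Helper77.memLocalRing_mul M hμy hμy')
  have h1 := memLocalIdeal_of_natCast_mul hM hnc (Helper77.memLocalRing_mul M hμz hdiffR) hcomb
  rcases Helper77.memLocalIdeal_or_of_mul M hμz hdiffR h1 with h2 | h2
  · exact absurd h2 hμz'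
  · exact h2

theorem memLocalIdeal_sub_of_resMap_eq [hMp : M.IsPrime] {z w : ℂ} (hz : MemLocalRing M z)
    (hw : MemLocalRing M w) (h : resMap M z = resMap M w) : MemLocalIdeal M (z - w) := by
  rw [resMap_of_mem hz, resMap_of_mem hw] at h
  exact Ideal.Quotient.eq.mp h

/-- `μ` depends only on the coset modulo `N`, modulo the local ideal. -/
theorem div_one_congr_of_mk_eq [Fact p.Prime] (hM : IsPModular p M)
    (C Q : Subgroup G) (hQN : Q ≤ N) (hQ : ¬ p ∣ Q.relIndex N)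
    (hCQ : C ≤ Subgroup.centralizer (Q : Set G)) (θ : IrrCharacter N)
    (hθ : θ ∈ principalBlock M N) (ψ : IrrCharacter G)
    (hψ : ∀ n : N, (ψ : G → ℂ) n = (θ : N → ℂ) n) {y y' : G} (hy : y ∈ C) (hy' : y' ∈ C)
    (hmk : (QuotientGroup.mk y : G ⧸ N) = QuotientGroup.mk y') :
    MemLocalIdeal M ((ψ : G → ℂ) y' / (ψ : G → ℂ) 1 - (ψ : G → ℂ) y / (ψ : G → ℂ) 1) := by
  haveI hMp : M.IsPrime := Helper77.isPrime_of_isPModular hM
  set w : G := y⁻¹ * y' with hwdef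
  have hwC : w ∈ C := C.mul_mem (C.inv_mem hy) hy'
  have hwN : w ∈ N := by
    rw [← QuotientGroup.eq_one_iff, hwdef, QuotientGroup.mk_mul, QuotientGroup.mk_inv, hmk,
      inv_mul_cancel]
  have hyw : y * w = y' := by rw [hwdef, mul_inv_cancel_left]
  have h1 := div_one_mul_congr N hM C Q hQN hQ hCQ θ hθ ψ hψ hy hwC
  have h2 := div_one_sub_one_of_mem N hM C Q hQN hQ hCQ θ hθ ψ hψ hwC hwN
  obtain ⟨hμy, -⟩ := div_one_unit N hM C Q hQN hQ hCQ θ hθ ψ hψ hy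
  rw [hyw] at h1
  have e : (ψ : G → ℂ) y' / (ψ : G → ℂ) 1 - (ψ : G → ℂ) y / (ψ : G → ℂ) 1 =
      ((ψ : G → ℂ) y' / (ψ : G → ℂ) 1 -
        (ψ : G → ℂ) y / (ψ : G → ℂ) 1 * ((ψ : G → ℂ) w / (ψ : G → ℂ) 1)) +
      (ψ : G → ℂ) y / (ψ : G → ℂ) 1 * ((ψ : G → ℂ) w / (ψ : G → ℂ) 1 - 1) := by ring
  rw [e]
  exact Helper77.memLocalIdeal_add M h1 (Helper77.memLocalIdeal_mul_left M hμy h2)

/-- **(A)** Existence of the twist. -/
theorem exists_twist_congr_one [Fact p.Prime] (hM : IsPModular p M)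
    (C Q : Subgroup G) (hsup : N ⊔ C = ⊤) (hQN : Q ≤ N) (hQ : ¬ p ∣ Q.relIndex N)
    (hCQ : C ≤ Subgroup.centralizer (Q : Set G)) (θ : IrrCharacter N)
    (hθ : θ ∈ principalBlock M N) (ψ : IrrCharacter G)
    (hψ : ∀ n : N, (ψ : G → ℂ) n = (θ : N → ℂ) n) :
    ∃ lam : G →* ℂˣ, (∀ n ∈ N, lam n = 1) ∧
      ∀ y ∈ C, MemLocalIdeal M (((lam y : ℂˣ) : ℂ) * (ψ : G → ℂ) y / (ψ : G → ℂ) 1 - 1) := by
  classical
  haveI hMp : M.IsPrime := Helper77.isPrime_of_isPModular hM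
  set μ : G → ℂ := fun g => (ψ : G → ℂ) g / (ψ : G → ℂ) 1 with hμdef
  have hunit : ∀ y ∈ C, MemLocalRing M (μ y) ∧ ¬ MemLocalIdeal M (μ y) := fun y hy =>
    div_one_unit N hM C Q hQN hQ hCQ θ hθ ψ hψ hy
  have hmul : ∀ y ∈ C, ∀ y' ∈ C, MemLocalIdeal M (μ (y * y') - μ y * μ y') := fun y hy y' hy' =>
    div_one_mul_congr N hM C Q hQN hQ hCQ θ hθ ψ hψ hy hy'
  have hindep : ∀ y ∈ C, ∀ y' ∈ C, (QuotientGroup.mk y : G ⧸ N) = QuotientGroup.mk y' →
      MemLocalIdeal M (μ y' - μ y) := fun y hy y' hy' hmk =>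
    div_one_congr_of_mk_eq N hM C Q hQN hQ hCQ θ hθ ψ hψ hy hy' hmk
  -- coset representatives in `C`
  let rep : G → G := fun g => Classical.choose (exists_mem_mk_eq N C hsup g)
  have hrepC : ∀ g, rep g ∈ C := fun g => (Classical.choose_spec (exists_mem_mk_eq N C hsup g)).1
  have hrepmk : ∀ g, (QuotientGroup.mk (rep g) : G ⧸ N) = QuotientGroup.mk g :=
    fun g => (Classical.choose_spec (exists_mem_mk_eq N C hsup g)).2
  let f : G → ResField M := fun g => resMap M (μ (rep g))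
  have hf0 : ∀ g, f g ≠ 0 := by
    intro g h0
    exact (hunit _ (hrepC g)).2 ((resMap_eq_zero_iff (hunit _ (hrepC g)).1).mp h0)
  have hfmul : ∀ g g', f (g * g') = f g * f g' := by
    intro g g'
    have hC2 : rep g * rep g' ∈ C := C.mul_mem (hrepC g) (hrepC g')
    have hmk : (QuotientGroup.mk (rep g * rep g') : G ⧸ N) = QuotientGroup.mk (rep (g * g')) := by
      rw [QuotientGroup.mk_mul, hrepmk, hrepmk, hrepmk, QuotientGroup.mk_mul]
    have h1 : f (g * g') = resMap M (μ (rep g * rep g')) :=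
      resMap_eq_of_sub (hunit _ (hrepC _)).1 (hunit _ hC2).1 (hindep _ hC2 _ (hrepC _) hmk)
    have h2 : resMap M (μ (rep g * rep g')) = resMap M (μ (rep g) * μ (rep g')) :=
      resMap_eq_of_sub (hunit _ hC2).1
        (Helper77.memLocalRing_mul M (hunit _ (hrepC g)).1 (hunit _ (hrepC g')).1)
        (hmul _ (hrepC g) _ (hrepC g'))
    rw [h1, h2, resMap_mul (hunit _ (hrepC g)).1 (hunit _ (hrepC g')).1]
  let ν : G →* (ResField M)ˣ := MonoidHom.mk' (fun g => Units.mk0 (f g) (hf0 g)) (by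
    intro g g'
    apply Units.ext
    show f (g * g') = f g * f g'
    exact hfmul g g')
  have hνval : ∀ g, ((ν g : (ResField M)ˣ) : ResField M) = f g := fun g => rfl
  obtain ⟨lam₀, hker, hlam⟩ := Cfsg.Agent.Helper67.Teich.exists_monoidHom_lift hM ν
  refine ⟨lam₀⁻¹, ?_, ?_⟩
  · intro n hn
    have hrN : rep n ∈ N := by
      rw [← QuotientGroup.eq_one_iff, hrepmk]
      exact (QuotientGroup.eq_one_iff n).mpr hn
    have h1 := div_one_sub_one_of_mem N hM C Q hQN hQ hCQ θ hθ ψ hψ (hrepC n) hrN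
    have h2 : f n = 1 := by
      show resMap M (μ (rep n)) = 1
      rw [← resMap_one (M := M)]
      exact resMap_eq_of_sub (hunit _ (hrepC n)).1 ((Helper77.localRing M).one_mem) h1
    have h3 : ν n = 1 := Units.ext (by rw [hνval, h2]; rfl)
    rw [MonoidHom.inv_apply, hker n h3, inv_one]
  · intro y hy
    obtain ⟨hLR, hLres⟩ := hlam y
    obtain ⟨hLinvR, -⟩ := hlam y⁻¹
    rw [hνval] at hLres
    have hfy : f y = resMap M (μ y) :=
      resMap_eq_of_sub (hunit _ (hrepC y)).1 (hunit _ hy).1 (hindep _ hy _ (hrepC y) (hrepmk y).symm)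
    rw [hfy] at hLres
    have hdiff := memLocalIdeal_sub_of_resMap_eq hLR (hunit _ hy).1 hLres
    have hLinv : ((lam₀⁻¹ y : ℂˣ) : ℂ) = ((lam₀ y⁻¹ : ℂˣ) : ℂ) := by
      rw [MonoidHom.inv_apply, map_inv]
    have hL0 : ((lam₀ y : ℂˣ) : ℂ) ≠ 0 := Units.ne_zero _
    have e : ((lam₀⁻¹ y : ℂˣ) : ℂ) * (ψ : G → ℂ) y / (ψ : G → ℂ) 1 - 1 =
        ((lam₀ y⁻¹ : ℂˣ) : ℂ) * (-(((lam₀ y : ℂˣ) : ℂ) - μ y)) := by
      have hinv : ((lam₀ y⁻¹ : ℂˣ) : ℂ) = (((lam₀ y : ℂˣ) : ℂ))⁻¹ := by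
        rw [map_inv, Units.val_inv_eq_inv_val]
      rw [hLinv, hinv, hμdef]
      field_simp
      ring
    rw [e]
    exact Helper77.memLocalIdeal_mul_left M hLinvR (Helper77.memLocalIdeal_neg hdiff)

end RelTwist

end Cfsg.Agent.Helper78
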