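import Cfsg.Agent.Helper77.LocalRing
import Mathlib.LinearAlgebra.Matrix.NonsingularInverse
import Mathlib.LinearAlgebra.Basis.VectorSpace
import Mathlib.LinearAlgebra.Dimension.StrongRankCondition
import Mathlib.LinearAlgebra.Dimension.Constructions
import Mathlib.LinearAlgebra.Matrix.ToLin

/-!
# Linear algebra over the residue field of the local ring at `M`

From a family of vectors with entries in the local ring whose reductions span `F^r`, extract `r` of
them whose determinant is a unit.
-/

set_option autoImplicit false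
set_option linter.unusedSectionVars false
set_option linter.unusedVariables false

namespace Cfsg.Agent.Helper78

open Cfsg Cfsg.Agent.Helper77

variable (M : Ideal AlgInt) [hMp : M.IsPrime]

include hMp in
theorem localIdeal_isMaximal : (localIdeal M).IsMaximal := by
  rw [Ideal.isMaximal_iff]
  refine ⟨fun h => not_memLocalIdeal_one M h, ?_⟩
  intro I x hJI hxJ hxI
  have hxJ' : ¬ MemLocalIdeal M (x : ℂ) := hxJ
  have hxinv : MemLocalRing M (x : ℂ)⁻¹ := memLocalRing_inv M x.2 hxJ'
  have hx0 : (x : ℂ) ≠ 0 := fun h0 => hxJ' (h0 ▸ memLocalIdeal_zero M)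
  have h1 : (⟨(x : ℂ)⁻¹, hxinv⟩ : localRing M) * x = 1 := Subtype.ext (inv_mul_cancel₀ hx0)
  rw [← h1]
  exact I.mul_mem_left _ hxI

include hMp in
/-- Selection of `r` rows with unit determinant. -/
theorem exists_injective_det_not_memLocalIdeal {ι : Type*} {r : ℕ} (Y : ι → Fin r → ℂ)
    (hY : ∀ a i, MemLocalRing M (Y a i))
    (hdual : ∀ c : Fin r → ℂ, (∀ i, MemLocalRing M (c i)) → (∃ i, ¬ MemLocalIdeal M (c i)) →
      ∃ a, ¬ MemLocalIdeal M (∑ i, c i * Y a i)) :
    ∃ f : Fin r → ι, (∀ k l, (∀ i, MemLocalIdeal M (Y (f k) i - Y (f l) i)) → k = l) ∧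
      (∀ k, ∃ i, ¬ MemLocalIdeal M (Y (f k) i)) ∧
      ¬ MemLocalIdeal M (Matrix.det (Matrix.of fun k i => Y (f k) i)) := by
  classical
  haveI hmax := localIdeal_isMaximal M
  letI : Field (localRing M ⧸ localIdeal M) := Ideal.Quotient.field _
  let q : localRing M →+* (localRing M ⧸ localIdeal M) := Ideal.Quotient.mk (localIdeal M)
  let YR : ι → Fin r → localRing M := fun a i => ⟨Y a i, hY a i⟩
  let Yb : ι → (Fin r → (localRing M ⧸ localIdeal M)) := fun a i => q (YR a i)
  have hq0 : ∀ z : localRing M, q z = 0 ↔ MemLocalIdeal M (z : ℂ) := fun z =>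
    Ideal.Quotient.eq_zero_iff_mem
  -- the reductions span
  have hspan : Submodule.span (localRing M ⧸ localIdeal M) (Set.range Yb) = ⊤ := by
    by_contra hne
    have hlt : Submodule.span (localRing M ⧸ localIdeal M) (Set.range Yb) < ⊤ :=
      lt_top_iff_ne_top.mpr hne
    obtain ⟨φ, hφ0, hφ⟩ := Submodule.exists_le_ker_of_lt_top _ hlt
    have hφsum : ∀ v : Fin r → (localRing M ⧸ localIdeal M),
        φ v = ∑ i, v i * φ (Pi.single i 1) := by
      intro v
      have := LinearMap.pi_apply_eq_sum_univ φ v
      rw [this]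
      refine Finset.sum_congr rfl (fun i _ => ?_)
      rw [smul_eq_mul]
      congr 2
      funext j
      simp [Pi.single_apply, eq_comm]
    have hex : ∃ i, φ (Pi.single i 1) ≠ 0 := by
      by_contra h
      push Not at h
      apply hφ0
      apply LinearMap.ext
      intro v
      rw [hφsum]
      simp [h]
    obtain ⟨i₀, hi₀⟩ := hex
    choose c hc using fun i => Ideal.Quotient.mk_surjective (φ (Pi.single i 1))
    obtain ⟨a, ha⟩ := hdual (fun i => ((c i : localRing M) : ℂ)) (fun i => (c i).2)
      ⟨i₀, fun h => hi₀ (by rw [← hc i₀]; exact (hq0 _).mpr h)⟩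
    apply ha
    have h0 : φ (Yb a) = 0 := hφ (Submodule.subset_span ⟨a, rfl⟩)
    rw [hφsum] at h0
    have h1 : q (∑ i, c i * YR a i) = 0 := by
      rw [map_sum, ← h0]
      refine Finset.sum_congr rfl (fun i _ => ?_)
      rw [map_mul, mul_comm]
      show q (YR a i) * q (c i) = Yb a i * φ (Pi.single i 1)
      rw [← hc i]
    have h2 := (hq0 _).mp h1
    have h3 : ((∑ i, c i * YR a i : localRing M) : ℂ) = ∑ i, ((c i : localRing M) : ℂ) * Y a i := by
      push_cast
      rfl
    rwa [h3] at h2
  -- extract `r` independent rows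
  obtain ⟨g, hg_mem, hg_span, hg_li⟩ :=
    Submodule.exists_fun_fin_finrank_span_eq (localRing M ⧸ localIdeal M) (Set.range Yb)
  have hfr : Module.finrank (localRing M ⧸ localIdeal M)
      (Submodule.span (localRing M ⧸ localIdeal M) (Set.range Yb)) = r := by
    rw [hspan, finrank_top, Module.finrank_fin_fun]
  choose a ha using hg_mem
  let f : Fin r → ι := fun k => a (finCongr hfr.symm k)
  have hf_li : LinearIndependent (localRing M ⧸ localIdeal M) (fun k => Yb (f k)) := by
    have h1 : (fun k => Yb (f k)) = g ∘ (finCongr hfr.symm) := by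
      funext k
      exact ha _
    rw [h1]
    exact hg_li.comp _ (finCongr hfr.symm).injective
  refine ⟨f, ?_, ?_, ?_⟩
  · intro k l hkl
    apply hf_li.injective
    funext i
    have h1 : q (YR (f k) i - YR (f l) i) = 0 := (hq0 _).mpr (by
      have : ((YR (f k) i - YR (f l) i : localRing M) : ℂ) = Y (f k) i - Y (f l) i := by
        push_cast; rfl
      rw [this]
      exact hkl i)
    rw [map_sub, sub_eq_zero] at h1
    exact h1
  · intro k
    by_contra h
    push Not at h
    apply hf_li.ne_zero k
    funext i
    exact (hq0 _).mpr (h i)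
  · intro hdet
    have hunit : IsUnit (Matrix.of (fun k i => Yb (f k) i) :
        Matrix (Fin r) (Fin r) (localRing M ⧸ localIdeal M)) := by
      rw [← Matrix.linearIndependent_rows_iff_isUnit]
      exact hf_li
    rw [Matrix.isUnit_iff_isUnit_det] at hunit
    apply hunit.ne_zero
    have h1 : (Matrix.of (fun k i => Yb (f k) i) :
        Matrix (Fin r) (Fin r) (localRing M ⧸ localIdeal M)) =
        q.mapMatrix (Matrix.of (fun k i => YR (f k) i)) := by
      ext k i
      rfl
    rw [h1, ← RingHom.map_det, hq0]
    have h2 : (((Matrix.of (fun k i => YR (f k) i) :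
        Matrix (Fin r) (Fin r) (localRing M)).det : localRing M) : ℂ) =
        Matrix.det (Matrix.of fun k i => Y (f k) i) := by
      have := RingHom.map_det (localRing M).subtype
        (Matrix.of (fun k i => YR (f k) i) : Matrix (Fin r) (Fin r) (localRing M))
      rw [show ((Matrix.of (fun k i => YR (f k) i) :
        Matrix (Fin r) (Fin r) (localRing M)).det : ℂ) =
          (localRing M).subtype (Matrix.of (fun k i => YR (f k) i) :
            Matrix (Fin r) (Fin r) (localRing M)).det from rfl, this]
      congr 1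
    rw [h2]
    exact hdet

include hMp in
/-- Entrywise congruent matrices over the local ring have congruent determinants. -/
theorem det_sub_det_memLocalIdeal {n : Type*} [Fintype n] [DecidableEq n] (A B : Matrix n n ℂ)
    (hA : ∀ i j, MemLocalRing M (A i j)) (hB : ∀ i j, MemLocalRing M (B i j))
    (h : ∀ i j, MemLocalIdeal M (A i j - B i j)) : MemLocalIdeal M (A.det - B.det) := by
  classical
  let q : localRing M →+* (localRing M ⧸ localIdeal M) := Ideal.Quotient.mk (localIdeal M)
  let AR : Matrix n n (localRing M) := Matrix.of fun i j => ⟨A i j, hA i j⟩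
  let BR : Matrix n n (localRing M) := Matrix.of fun i j => ⟨B i j, hB i j⟩
  have h1 : q.mapMatrix AR = q.mapMatrix BR := by
    ext i j
    show q (AR i j) = q (BR i j)
    rw [Ideal.Quotient.eq]
    exact h i j
  have h2 : q AR.det = q BR.det := by
    rw [RingHom.map_det, RingHom.map_det, h1]
  rw [Ideal.Quotient.eq] at h2
  have h3 : ∀ (C : Matrix n n ℂ) (hC : ∀ i j, MemLocalRing M (C i j)),
      (((Matrix.of fun i j => (⟨C i j, hC i j⟩ : localRing M)).det : localRing M) : ℂ) = C.det := by
    intro C hC
    have := RingHom.map_det (localRing M).subtype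
      (Matrix.of fun i j => (⟨C i j, hC i j⟩ : localRing M))
    rw [show (((Matrix.of fun i j => (⟨C i j, hC i j⟩ : localRing M)).det : localRing M) : ℂ) =
      (localRing M).subtype (Matrix.of fun i j => (⟨C i j, hC i j⟩ : localRing M)).det from rfl,
      this]
    congr 1
  have h4 : ((AR.det - BR.det : localRing M) : ℂ) = A.det - B.det := by
    rw [← h3 A hA, ← h3 B hB]
    rfl
  rw [← h4]
  exact h2

end Cfsg.Agent.Helper78
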