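import Cfsg.Agent.Helper78.RobinsonCount
import Cfsg.Agent.Helper78.Residue
import Cfsg.Agent.Helper78.ExtFirstMain
import Cfsg.Agent.Helper77.BlockOrth
import Cfsg.Agent.Helper77.BlockPartition
import Cfsg.Agent.Helper77.NormalP
import Cfsg.Agent.Helper77.DefectOrder
import Cfsg.Agent.Helper16.MinMax
import Cfsg.Agent.Helper16.Defect
import Cfsg.Agent.Helper16.SylowIn

/-!
# Blocks with a normal defect group `D` and the classes of defect `D`

Block-theoretic input for Robinson's rank theorem (normal defect group case).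
-/

set_option autoImplicit false
set_option linter.unusedSectionVars false
set_option linter.unusedVariables false

namespace Cfsg.Agent.Helper78

open Cfsg
open scoped ComplexConjugate

universe u

variable {G : Type u} [Group G] [Fintype G] {M : Ideal AlgInt} {p : ℕ}

/-- `D` is (the image of) a Sylow `p`-subgroup of `C_G(x)`. -/
def SylCent (p : ℕ) (D : Subgroup G) (x : G) : Prop :=
  D ≤ Subgroup.centralizer ({x} : Set G) ∧
    Nat.card D = p ^ (Nat.card (Subgroup.centralizer ({x} : Set G))).factorization p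

theorem sylCent_iff [Fact p.Prime] (D : Subgroup G) (x : G) :
    SylCent p D x ↔ ∃ Q : Sylow p (Subgroup.centralizer ({x} : Set G)),
      (Q : Subgroup (Subgroup.centralizer ({x} : Set G))).map
        (Subgroup.centralizer ({x} : Set G)).subtype = D :=
  (Helper16.sylowIn_iff p _ D).symm

theorem sylCent_of_isConj [Fact p.Prime] {D : Subgroup G} [hDn : D.Normal] {x x' : G}
    (h : IsConj x x') (hx : SylCent p D x) : SylCent p D x' := by
  obtain ⟨c, rfl⟩ := isConj_iff.mp h
  refine ⟨?_, ?_⟩
  · intro d hd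
    rw [Subgroup.mem_centralizer_singleton_iff]
    have h1 : c⁻¹ * d * c ∈ D := by
      have := hDn.conj_mem d hd c⁻¹
      simpa using this
    have h2 := hx.1 h1
    rw [Subgroup.mem_centralizer_singleton_iff] at h2
    have h3 : c * (c⁻¹ * d * c * x) * c⁻¹ = c * (x * (c⁻¹ * d * c)) * c⁻¹ := by rw [h2]
    simpa [mul_assoc] using h3
  · rw [Helper16.card_centralizer_conj]
    exact hx.2

/-- The order of a `p`-subgroup of `C_G(x)` divides the `p`-part of `|C_G(x)|`. -/
theorem card_dvd_of_pGroup_le_centralizer [hp : Fact p.Prime] {Q : Subgroup G} (hQ : IsPGroup p Q)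
    (x : G) (hQx : Q ≤ Subgroup.centralizer ({x} : Set G)) :
    Nat.card Q ∣ p ^ (Nat.card (Subgroup.centralizer ({x} : Set G))).factorization p := by
  obtain ⟨k, hk⟩ := IsPGroup.iff_card.mp hQ
  have h1 : Nat.card Q ∣ Nat.card (Subgroup.centralizer ({x} : Set G)) :=
    Subgroup.card_dvd_of_le hQx
  rw [hk] at h1 ⊢
  have hne : Nat.card (Subgroup.centralizer ({x} : Set G)) ≠ 0 := Nat.card_pos.ne'
  exact pow_dvd_pow p ((hp.out.pow_dvd_iff_le_factorization hne).mp h1)

/-- If the idempotent coefficient of a block `B` with normal defect group `D` and some central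
character are both units at `h`, then `h` is `p`-regular and `D` is a Sylow subgroup of `C(h)`. -/
theorem sylCent_of_not_memLocalIdeal [hp : Fact p.Prime] (hM : IsPModular p M) (D : Subgroup G)
    [D.Normal] (hD : IsPGroup p D) {B : Set (IrrCharacter G)} (hB : IsPBlock M B)
    (hBD : IsDefectGroup p M B D) (h : G) (hb : ¬ MemLocalIdeal M (blockCoeff B h))
    (χ' : IrrCharacter G) (hω : ¬ MemLocalIdeal M (centralChar (χ' : G → ℂ) h)) :
    ¬ p ∣ orderOf h ∧ SylCent p D h := by
  haveI hMp : M.IsPrime := hM.2.1.isPrime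
  have hDh : D ≤ Subgroup.centralizer ({h} : Set G) := by
    have hh : h ∈ Subgroup.centralizer (D : Set G) := by
      by_contra hcon
      exact hω (Helper77.centralChar_memLocalIdeal_of_not_mem_centralizer hM D hD h hcon χ')
    intro d hd
    rw [Subgroup.mem_centralizer_singleton_iff]
    exact hh d hd
  refine ⟨?_, hDh, ?_⟩
  · intro hdvd
    apply hb
    rw [Helper77.blockCoeff_eq_zero_of_dvd_orderOf hM hB h hdvd]
    exact Helper77.memLocalIdeal_zero M
  · have h1 := card_dvd_of_pGroup_le_centralizer hD h hDh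
    obtain ⟨g, hg, P, hP⟩ := hBD
    obtain ⟨χ₀, rfl⟩ := hB
    obtain ⟨Q⟩ : Nonempty (Sylow p (Subgroup.centralizer ({h} : Set G))) := inferInstance
    set Q' : Subgroup G := (Q : Subgroup (Subgroup.centralizer ({h} : Set G))).map
      (Subgroup.centralizer ({h} : Set G)).subtype with hQ'
    have hQ'p : IsPGroup p Q' := Q.isPGroup'.map _
    have hQ'h : Q' ≤ Subgroup.centralizer ({h} : Set G) := Subgroup.map_subtype_le _
    have hQ'card : Nat.card Q' =
        p ^ (Nat.card (Subgroup.centralizer ({h} : Set G))).factorization p := by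
      rw [hQ', Subgroup.card_map_of_injective (Subgroup.subtype_injective _)]
      exact Q.card_eq_multiplicity
    obtain ⟨x, hx, hQx⟩ := Helper16.minmax_core hM.2.2 χ₀ g h hg.2.2 hb Q' hQ'p hQ'h
    have h2 := card_dvd_of_pGroup_le_centralizer hQ'p x hQx
    rw [Helper16.card_centralizer_of_isConj hx] at h2
    have hDcard : Nat.card D =
        p ^ (Nat.card (Subgroup.centralizer ({g} : Set G))).factorization p := by
      rw [hP, Subgroup.card_map_of_injective (Subgroup.subtype_injective _)]
      exact P.card_eq_multiplicity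
    rw [hQ'card, ← hDcard] at h2
    exact Nat.dvd_antisymm h1 h2

/-- If a central character is a unit at a class of defect `D` (normal), its block has defect
group `D`. -/
theorem isDefectGroup_of_centralChar_not_mem [hp : Fact p.Prime] (hM : IsPModular p M)
    (D : Subgroup G) [D.Normal] (hD : IsPGroup p D) {x : G} (hx : SylCent p D x)
    (χ : IrrCharacter G) (hω : ¬ MemLocalIdeal M (centralChar (χ : G → ℂ) x)) :
    IsDefectGroup p M (blockOf M (χ : G → ℂ)) D := by
  haveI hMp : M.IsPrime := hM.2.1.isPrime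
  obtain ⟨D', hD'⟩ := Helper16.exists_defectGroup (M := M) p χ
  have hle : D ≤ D' := normal_pGroup_le_defectGroup hM D hD (isPBlock_blockOf χ) hD'
  have hD'' := hD'
  obtain ⟨g, hg, P, hP⟩ := hD'
  have hD'p : IsPGroup p D' := by rw [hP]; exact P.isPGroup'.map _
  have hD'g : D' ≤ Subgroup.centralizer ({g} : Set G) := by
    rw [hP]; exact Subgroup.map_subtype_le _
  have hk : ∀ ψ ∈ blockOf M (χ : G → ℂ), ¬ MemLocalIdeal M (centralChar (ψ : G → ℂ) x) := by
    intro ψ hψ hcon
    apply hω
    have h1 : MemLocalIdeal M (centralChar (χ : G → ℂ) x - centralChar (ψ : G → ℂ) x) := hψ x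
    have := Helper77.memLocalIdeal_add M h1 hcon
    simpa using this
  obtain ⟨x', hx', hD'x'⟩ := Helper16.minmax_core hM.2.2 χ x g hk hg.2.1 D' hD'p hD'g
  have h2 := card_dvd_of_pGroup_le_centralizer hD'p x' hD'x'
  rw [Helper16.card_centralizer_of_isConj hx', ← hx.2] at h2
  have hcard : Nat.card D' ≤ Nat.card D := Nat.le_of_dvd Nat.card_pos h2
  have heq : D = D' := Subgroup.eq_of_le_of_card_ge hle hcard
  rw [heq]
  exact hD''

open Classical in
/-- Weak block orthogonality summed over a Sylow subgroup. -/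
theorem sum_block_conj_mul_eq [hp : Fact p.Prime] (hM : IsPModular p M)
    {B : Set (IrrCharacter G)} (hB : IsPBlock M B) (P : Sylow p G) [Fintype ↥(P : Subgroup G)]
    (m : IrrCharacter G → ℕ)
    (hm : ∀ χ : IrrCharacter G, ∑ u : (P : Subgroup G), (χ : G → ℂ) u =
      (Nat.card (P : Subgroup G) : ℂ) * m χ) (x : G) (hx : ¬ p ∣ orderOf x) :
    (Nat.card (P : Subgroup G) : ℂ) *
      ∑ χ ∈ Finset.univ.filter (fun χ : IrrCharacter G => χ ∈ B),
        conj ((χ : G → ℂ) x) * (m χ : ℂ) = (Nat.card G : ℂ) * blockCoeff B x := by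
  have hG : (Nat.card G : ℂ) ≠ 0 := Helper16.card_ne_zero'
  rw [Finset.mul_sum]
  have h1 : ∀ χ : IrrCharacter G, (Nat.card (P : Subgroup G) : ℂ) *
      (conj ((χ : G → ℂ) x) * (m χ : ℂ)) =
      ∑ u : (P : Subgroup G), (χ : G → ℂ) u * conj ((χ : G → ℂ) x) := by
    intro χ
    rw [← Finset.sum_mul, hm χ]
    ring
  rw [Finset.sum_congr rfl (fun χ _ => h1 χ), Finset.sum_comm]
  rw [Finset.sum_eq_single (1 : (P : Subgroup G))]
  · rw [Helper16.blockCoeff_eq_sum, ← mul_assoc, mul_inv_cancel₀ hG, one_mul, Finset.sum_filter]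
    refine Finset.sum_congr rfl (fun χ _ => ?_)
    by_cases hχ : χ ∈ B
    · rw [if_pos hχ, if_pos hχ, one_mul]
      rfl
    · rw [if_neg hχ, if_neg hχ, zero_mul, zero_mul]
  · intro u _ hu
    have hup : p ∣ orderOf (u : G) := by
      obtain ⟨k, hk⟩ := (IsPGroup.iff_orderOf.mp P.2) u
      rw [Subgroup.orderOf_coe, hk]
      rcases Nat.eq_zero_or_pos k with h0 | h0
      · exfalso
        rw [h0, pow_zero, orderOf_eq_one_iff] at hk
        exact hu hk
      · exact dvd_pow_self p h0.ne'
    have h2 := Helper77.weak_block_orthogonality' hM hB x (u : G) hx hup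
    rw [finsum_mem_eq_finite_toFinset_sum _ (Set.toFinite B)] at h2
    have h3 := congrArg conj h2
    rw [map_sum, map_zero] at h3
    rw [← h3]
    refine Finset.sum_congr ?_ (fun χ _ => ?_)
    · ext χ
      simp
    · simp [mul_comm]
  · intro h
    exact absurd (Finset.mem_univ _) h

/-- The idempotent/central character orthogonality as a sum over classes. -/
theorem sum_classes_blockCoeff_mul_centralChar [hMp : M.IsPrime] [Fintype (ConjClasses G)]
    {B : Set (IrrCharacter G)}
    (hB : IsPBlock M B) (χ' : IrrCharacter G) [Decidable (χ' ∈ B)] :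
    ∑ C : ConjClasses G, blockCoeff B (Helper16.classRep C) *
      centralChar (χ' : G → ℂ) (Helper16.classRep C) = if χ' ∈ B then 1 else 0 := by
  classical
  have h1 := Helper16.omega_eq_sum_classes (χ' : G → ℂ) (blockCoeff B)
    (Helper16.irr_isClassFunction χ') (Helper77.blockCoeff_isClassFunction hB)
  have h2 := Helper77.omega_blockCoeff hB χ'
  rw [h1] at h2
  convert h2

end Cfsg.Agent.Helper78
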