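import Cfsg.Agent.Helper78.SeparatedClasses

/-!
# Counting pairs of conjugates whose quotient lies in a Sylow subgroup

`#{(y', z') ∈ cl(x) × cl(y) : z' y'⁻¹ ∈ P} · |C(x)| = |P| ∑_χ ω_χ(y) conj(χ x) m_χ`
where `∑_{u ∈ P} χ(u) = |P| m_χ`.
-/

set_option autoImplicit false
set_option linter.unusedSectionVars false
set_option linter.unusedVariables false

namespace Cfsg.Agent.Helper78

open Cfsg
open scoped ComplexConjugate

universe u

variable {G : Type u} [Group G] [Fintype G] {p : ℕ}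

open Classical in
/-- The indicator of a subgroup as a sum over its elements. -/
theorem indicator_subgroup_eq_sum (P : Subgroup G) [Fintype P] (w : G) :
    (if w ∈ P then (1 : ℂ) else 0) = ∑ s : P, if (s : G) = w then (1 : ℂ) else 0 := by
  by_cases hw : w ∈ P
  · rw [if_pos hw, Finset.sum_eq_single (⟨w, hw⟩ : P)]
    · simp
    · intro s _ hs
      rw [if_neg]
      intro h
      exact hs (Subtype.ext h)
    · intro h
      exact absurd (Finset.mem_univ _) h
  · rw [if_neg hw]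
    symm
    apply Finset.sum_eq_zero
    intro s _
    rw [if_neg]
    intro h
    exact hw (h ▸ s.2)

open Classical in
/-- Double sum over conjugates, first form. -/
theorem sum_sum_indicator_conj (P : Subgroup G) (x y : G) :
    ∑ a : G, ∑ b : G, (if (a * y * a⁻¹) * (b * x⁻¹ * b⁻¹) ∈ P then (1 : ℂ) else 0) =
      (Nat.card (Subgroup.centralizer ({x} : Set G)) : ℂ) *
        (Nat.card (Subgroup.centralizer ({y} : Set G)) : ℂ) *
        ∑ c ∈ Finset.univ.filter (fun c => IsConj x c),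
          ∑ d ∈ Finset.univ.filter (fun d => IsConj y d),
            (if d * c⁻¹ ∈ P then (1 : ℂ) else 0) := by
  -- reindex `a ↦ a⁻¹`, `b ↦ b⁻¹`
  have h1 : ∑ a : G, ∑ b : G, (if (a * y * a⁻¹) * (b * x⁻¹ * b⁻¹) ∈ P then (1 : ℂ) else 0) =
      ∑ a : G, ∑ b : G, (if (a⁻¹ * y * a) * (b⁻¹ * x * b)⁻¹ ∈ P then (1 : ℂ) else 0) := by
    rw [← Equiv.sum_comp (Equiv.inv G)]
    refine Finset.sum_congr rfl (fun a _ => ?_)
    rw [← Equiv.sum_comp (Equiv.inv G)]
    refine Finset.sum_congr rfl (fun b _ => ?_)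
    simp only [Equiv.inv_apply, inv_inv, mul_inv_rev, mul_assoc]
  rw [h1]
  have h2 : ∀ a : G, ∑ b : G, (if (a⁻¹ * y * a) * (b⁻¹ * x * b)⁻¹ ∈ P then (1 : ℂ) else 0) =
      (Nat.card (Subgroup.centralizer ({x} : Set G)) : ℂ) *
        ∑ c ∈ Finset.univ.filter (fun c => IsConj x c),
          (if (a⁻¹ * y * a) * c⁻¹ ∈ P then (1 : ℂ) else 0) := by
    intro a
    convert Helper16.sum_conj_eq_card_mul x
      (fun c => if (a⁻¹ * y * a) * c⁻¹ ∈ P then (1 : ℂ) else 0)
  rw [Finset.sum_congr rfl (fun a _ => h2 a), ← Finset.mul_sum, Finset.sum_comm]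
  have h3 : ∀ c : G, ∑ a : G, (if (a⁻¹ * y * a) * c⁻¹ ∈ P then (1 : ℂ) else 0) =
      (Nat.card (Subgroup.centralizer ({y} : Set G)) : ℂ) *
        ∑ d ∈ Finset.univ.filter (fun d => IsConj y d),
          (if d * c⁻¹ ∈ P then (1 : ℂ) else 0) := by
    intro c
    convert Helper16.sum_conj_eq_card_mul y (fun d => if d * c⁻¹ ∈ P then (1 : ℂ) else 0)
  rw [Finset.sum_congr rfl (fun c _ => h3 c), ← Finset.mul_sum, mul_assoc]

open Classical in
/-- Double sum over conjugates, second form, through the class multiplication constants. -/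
theorem sum_sum_indicator_conj' [Fact p.Prime] (P : Sylow p G) [Fintype ↥(P : Subgroup G)]
    (m : IrrCharacter G → ℕ)
    (hm : ∀ χ : IrrCharacter G, ∑ u : (P : Subgroup G), (χ : G → ℂ) u =
      (Nat.card (P : Subgroup G) : ℂ) * m χ) (x y : G) :
    ∑ a : G, ∑ b : G,
        (if (a * y * a⁻¹) * (b * x⁻¹ * b⁻¹) ∈ (P : Subgroup G) then (1 : ℂ) else 0) =
      (Nat.card G : ℂ) * (Nat.card (P : Subgroup G) : ℂ) *
        ∑ χ : IrrCharacter G, (χ : G → ℂ) y * conj ((χ : G → ℂ) x) * (m χ : ℂ) /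
          (χ : G → ℂ) 1 := by
  have h1 : ∀ a b : G,
      (if (a * y * a⁻¹) * (b * x⁻¹ * b⁻¹) ∈ (P : Subgroup G) then (1 : ℂ) else 0) =
      ∑ s : (P : Subgroup G),
        if (s : G) = (a * y * a⁻¹) * (b * x⁻¹ * b⁻¹) then (1 : ℂ) else 0 :=
    fun a b => indicator_subgroup_eq_sum (P : Subgroup G) _
  simp only [h1]
  have h2 : ∑ a : G, ∑ b : G, ∑ s : (P : Subgroup G),
      (if (s : G) = (a * y * a⁻¹) * (b * x⁻¹ * b⁻¹) then (1 : ℂ) else 0) =
      ∑ s : (P : Subgroup G), ∑ a : G, ∑ b : G,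
        (if (a * y * a⁻¹) * (b * x⁻¹ * b⁻¹) = (s : G) then (1 : ℂ) else 0) := by
    calc ∑ a : G, ∑ b : G, ∑ s : (P : Subgroup G),
          (if (s : G) = (a * y * a⁻¹) * (b * x⁻¹ * b⁻¹) then (1 : ℂ) else 0)
        = ∑ a : G, ∑ s : (P : Subgroup G), ∑ b : G,
          (if (s : G) = (a * y * a⁻¹) * (b * x⁻¹ * b⁻¹) then (1 : ℂ) else 0) :=
          Finset.sum_congr rfl (fun a _ => Finset.sum_comm)
      _ = ∑ s : (P : Subgroup G), ∑ a : G, ∑ b : G,
          (if (s : G) = (a * y * a⁻¹) * (b * x⁻¹ * b⁻¹) then (1 : ℂ) else 0) := Finset.sum_comm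
      _ = _ := by
          refine Finset.sum_congr rfl (fun s _ => Finset.sum_congr rfl (fun a _ =>
            Finset.sum_congr rfl (fun b _ => ?_)))
          simp only [eq_comm]
  rw [h2]
  have h3 : ∀ s : (P : Subgroup G), ∑ a : G, ∑ b : G,
      (if (a * y * a⁻¹) * (b * x⁻¹ * b⁻¹) = (s : G) then (1 : ℂ) else 0) =
      (Nat.card G : ℂ) * ∑ χ : IrrCharacter G,
        (χ : G → ℂ) y * (χ : G → ℂ) x⁻¹ * conj ((χ : G → ℂ) (s : G)) / (χ : G → ℂ) 1 := by
    intro s
    rw [← Helper79.card_conj_mul_conj_eq y x⁻¹ (s : G), Finset.card_filter]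
    push_cast
    rw [← Finset.sum_product']
    rfl
  rw [Finset.sum_congr rfl (fun s _ => h3 s), ← Finset.mul_sum, Finset.sum_comm, mul_assoc]
  congr 1
  rw [Finset.mul_sum]
  refine Finset.sum_congr rfl (fun χ _ => ?_)
  have h4 : ∑ s : (P : Subgroup G), (χ : G → ℂ) y * (χ : G → ℂ) x⁻¹ *
      conj ((χ : G → ℂ) (s : G)) / (χ : G → ℂ) 1 =
      (χ : G → ℂ) y * (χ : G → ℂ) x⁻¹ / (χ : G → ℂ) 1 *
        conj (∑ s : (P : Subgroup G), (χ : G → ℂ) (s : G)) := by
    rw [map_sum, Finset.mul_sum]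
    refine Finset.sum_congr rfl (fun s _ => ?_)
    ring
  rw [h4, hm χ, map_mul, Complex.conj_natCast, Complex.conj_natCast, Helper79.irr_inv]
  ring

open Classical in
/-- The counting identity: pairs of conjugates whose quotient lies in the Sylow subgroup. -/
theorem card_pairs_mul_card_centralizer [Fact p.Prime] (P : Sylow p G)
    [Fintype ↥(P : Subgroup G)] (m : IrrCharacter G → ℕ)
    (hm : ∀ χ : IrrCharacter G, ∑ u : (P : Subgroup G), (χ : G → ℂ) u =
      (Nat.card (P : Subgroup G) : ℂ) * m χ) (C₁ C₂ : ConjClasses G) (x y : G)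
    (hx : ConjClasses.mk x = C₁) (hy : ConjClasses.mk y = C₂) :
    (Nat.card {yz : G × G // yz.1 ∈ C₁.carrier ∧ yz.2 ∈ C₂.carrier ∧
        yz.2 * yz.1⁻¹ ∈ (P : Subgroup G)} : ℂ) *
      (Nat.card (Subgroup.centralizer ({x} : Set G)) : ℂ) =
    (Nat.card (P : Subgroup G) : ℂ) *
      ∑ χ : IrrCharacter G, centralChar (χ : G → ℂ) y * conj ((χ : G → ℂ) x) * (m χ : ℂ) := by
  have hA := sum_sum_indicator_conj (P : Subgroup G) x y
  have hB := sum_sum_indicator_conj' P m hm x y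
  rw [hA] at hB
  -- the double sum over the classes is the cardinality
  have hcard : ∑ c ∈ Finset.univ.filter (fun c => IsConj x c),
      ∑ d ∈ Finset.univ.filter (fun d => IsConj y d),
        (if d * c⁻¹ ∈ (P : Subgroup G) then (1 : ℂ) else 0) =
      (Nat.card {yz : G × G // yz.1 ∈ C₁.carrier ∧ yz.2 ∈ C₂.carrier ∧
        yz.2 * yz.1⁻¹ ∈ (P : Subgroup G)} : ℂ) := by
    rw [Nat.card_eq_fintype_card, Fintype.card_subtype, Finset.card_filter]
    push_cast
    rw [Finset.sum_filter]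
    rw [← Finset.univ_product_univ, Finset.sum_product]
    refine Finset.sum_congr rfl (fun c _ => ?_)
    rw [Finset.sum_filter]
    have hc : c ∈ C₁.carrier ↔ IsConj x c := by
      rw [ConjClasses.mem_carrier_iff_mk_eq, ← hx, ConjClasses.mk_eq_mk_iff_isConj]
      exact ⟨fun h => h.symm, fun h => h.symm⟩
    by_cases hcx : IsConj x c
    · rw [if_pos hcx]
      refine Finset.sum_congr rfl (fun d _ => ?_)
      have hd : d ∈ C₂.carrier ↔ IsConj y d := by
        rw [ConjClasses.mem_carrier_iff_mk_eq, ← hy, ConjClasses.mk_eq_mk_iff_isConj]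
        exact ⟨fun h => h.symm, fun h => h.symm⟩
      by_cases hdy : IsConj y d
      · rw [if_pos hdy]
        by_cases hP : d * c⁻¹ ∈ (P : Subgroup G)
        · rw [if_pos hP, if_pos ⟨hc.mpr hcx, hd.mpr hdy, hP⟩]
        · rw [if_neg hP, if_neg (fun h => hP h.2.2)]
      · rw [if_neg hdy, if_neg (fun h => hdy (hd.mp h.2.1))]
    · rw [if_neg hcx]
      symm
      apply Finset.sum_eq_zero
      intro d _
      rw [if_neg (fun h => hcx (hc.mp h.1))]
  rw [hcard] at hB
  have hCy : (Nat.card (Subgroup.centralizer ({y} : Set G)) : ℂ) ≠ 0 :=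
    Helper16.card_centralizer_ne_zero y
  have hidx : (Nat.card (Subgroup.centralizer ({y} : Set G)) : ℂ) *
      ((Subgroup.centralizer ({y} : Set G)).index : ℂ) = (Nat.card G : ℂ) := by
    exact_mod_cast Subgroup.card_mul_index _
  have hsum : ∑ χ : IrrCharacter G, centralChar (χ : G → ℂ) y * conj ((χ : G → ℂ) x) * (m χ : ℂ) =
      ((Subgroup.centralizer ({y} : Set G)).index : ℂ) *
        ∑ χ : IrrCharacter G, (χ : G → ℂ) y * conj ((χ : G → ℂ) x) * (m χ : ℂ) /
          (χ : G → ℂ) 1 := by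
    rw [Finset.mul_sum]
    refine Finset.sum_congr rfl (fun χ _ => ?_)
    unfold centralChar
    ring
  rw [hsum]
  apply mul_left_cancel₀ hCy
  rw [← hidx] at hB
  linear_combination hB

end Cfsg.Agent.Helper78
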