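import Cfsg.Agent.Helper78.RobinsonBlocks
import Cfsg.Agent.Helper78.RankField

/-!
# Robinson's rank theorem for blocks with a given normal defect group
-/

set_option autoImplicit false
set_option linter.unusedSectionVars false
set_option linter.unusedVariables false

namespace Cfsg.Agent.Helper78

open Cfsg
open scoped ComplexConjugate

universe u

variable {G : Type u} [Group G] [Fintype G] {M : Ideal AlgInt} {p : ℕ}

open Classical in
/-- A sum over the irreducible characters, grouped by blocks. -/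
theorem sum_irr_eq_sum_blocks [hMp : M.IsPrime] {A : Type*} [AddCommMonoid A]
    (F : IrrCharacter G → A) :
    ∑ χ : IrrCharacter G, F χ = ∑ B ∈ Helper77.blocksFinset M G,
      ∑ χ ∈ Finset.univ.filter (fun χ : IrrCharacter G => χ ∈ B), F χ := by
  have hmaps : ∀ χ ∈ (Finset.univ : Finset (IrrCharacter G)),
      blockOf M (χ : G → ℂ) ∈ Helper77.blocksFinset M G :=
    fun χ _ => Helper77.mem_blocksFinset.mpr ⟨χ, rfl⟩
  rw [← Finset.sum_fiberwise_of_maps_to hmaps]
  refine Finset.sum_congr rfl (fun B hB => ?_)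
  have hB' := Helper77.mem_blocksFinset.mp hB
  refine Finset.sum_congr ?_ (fun _ _ => rfl)
  ext χ
  simp only [Finset.mem_filter, Finset.mem_univ, true_and]
  constructor
  · intro h
    rw [← h]
    exact mem_blockOf_self hMp χ
  · intro h
    exact (isPBlock_eq_blockOf_of_mem hMp hB' h).symm

open Classical in
/-- A canonical member of a nonempty set of irreducible characters. -/
noncomputable def repIrr (B : Set (IrrCharacter G)) : IrrCharacter G :=
  if h : B.Nonempty then h.some else Helper79.principalIrr G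

theorem repIrr_mem {B : Set (IrrCharacter G)} (h : B.Nonempty) : repIrr B ∈ B := by
  unfold repIrr
  rw [dif_pos h]
  exact h.some_mem

theorem repIrr_mem_of_isPBlock [hMp : M.IsPrime] {B : Set (IrrCharacter G)} (hB : IsPBlock M B) :
    repIrr B ∈ B := repIrr_mem (isPBlock_nonempty hMp hB)

/-- The residue of the central character is constant on a block. -/
theorem resMap_centralChar_eq [hMp : M.IsPrime] {B : Set (IrrCharacter G)} (hB : IsPBlock M B)
    {χ ψ : IrrCharacter G} (hχ : χ ∈ B) (hψ : ψ ∈ B) (g : G) :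
    resMap M (centralChar (χ : G → ℂ) g) = resMap M (centralChar (ψ : G → ℂ) g) := by
  apply resMap_eq_of_sub
  · exact Helper77.memLocalRing_of_isIntegral M (isIntegral_centralChar χ.2 g)
  · exact Helper77.memLocalRing_of_isIntegral M (isIntegral_centralChar ψ.2 g)
  · exact sameBlock_of_mem_of_mem hMp hB hχ hψ g

open Classical in
/-- The block decomposition of the residue of the counting sum. -/
theorem resMap_sum_centralChar_mul [hp : Fact p.Prime] (hM : IsPModular p M) (D : Subgroup G)
    [D.Normal] (hD : IsPGroup p D) (P : Sylow p G) [Fintype ↥(P : Subgroup G)]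
    (m : IrrCharacter G → ℕ)
    (hm : ∀ χ : IrrCharacter G, ∑ u : (P : Subgroup G), (χ : G → ℂ) u =
      (Nat.card (P : Subgroup G) : ℂ) * m χ) (gp : ℕ)
    (hgp : Nat.card G = Nat.card (P : Subgroup G) * gp)
    (xi xj : G) (hxi : ¬ p ∣ orderOf xi) (hxj : SylCent p D xj) :
    haveI hMp : M.IsPrime := hM.2.1.isPrime
    resMap M (∑ χ : IrrCharacter G,
        centralChar (χ : G → ℂ) xj * conj ((χ : G → ℂ) xi) * (m χ : ℂ)) =
      (gp : ResField M) *
        ∑ B ∈ (Helper77.blocksFinset M G).filter (fun B => IsDefectGroup p M B D),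
          resMap M (blockCoeff B xi) * resMap M (centralChar (repIrr B : G → ℂ) xj) := by
  haveI hMp : M.IsPrime := hM.2.1.isPrime
  have hω : ∀ (χ : IrrCharacter G) (g : G), MemLocalRing M (centralChar (χ : G → ℂ) g) :=
    fun χ g => Helper77.memLocalRing_of_isIntegral M (isIntegral_centralChar χ.2 g)
  have hτ : ∀ χ : IrrCharacter G, MemLocalRing M (conj ((χ : G → ℂ) xi) * (m χ : ℂ)) := by
    intro χ
    refine Helper77.memLocalRing_mul M ?_ (Helper77.memLocalRing_natCast M _)
    have h1 : IsIntegral ℤ ((χ : G → ℂ) xi⁻¹) := isIntegral_irrChar_apply χ.2 _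
    rw [Helper79.irr_inv] at h1
    exact Helper77.memLocalRing_of_isIntegral M h1
  have h1 : resMap M (∑ χ : IrrCharacter G,
      centralChar (χ : G → ℂ) xj * conj ((χ : G → ℂ) xi) * (m χ : ℂ)) =
      ∑ χ : IrrCharacter G, resMap M (centralChar (χ : G → ℂ) xj) *
        resMap M (conj ((χ : G → ℂ) xi) * (m χ : ℂ)) := by
    rw [resMap_sum]
    · refine Finset.sum_congr rfl (fun χ _ => ?_)
      rw [mul_assoc, resMap_mul (hω χ xj) (hτ χ)]
    · intro χ _
      rw [mul_assoc]
      exact Helper77.memLocalRing_mul M (hω χ xj) (hτ χ)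
  rw [h1, sum_irr_eq_sum_blocks (M := M), Finset.sum_filter, Finset.mul_sum]
  refine Finset.sum_congr rfl (fun B hB => ?_)
  have hB' : IsPBlock M B := Helper77.mem_blocksFinset.mp hB
  have hrep : repIrr B ∈ B := repIrr_mem_of_isPBlock hB'
  -- the inner sum
  have h2 : ∑ χ ∈ Finset.univ.filter (fun χ : IrrCharacter G => χ ∈ B),
      resMap M (centralChar (χ : G → ℂ) xj) * resMap M (conj ((χ : G → ℂ) xi) * (m χ : ℂ)) =
      resMap M (centralChar (repIrr B : G → ℂ) xj) *
        ((gp : ResField M) * resMap M (blockCoeff B xi)) := by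
    have h3 : ∀ χ ∈ Finset.univ.filter (fun χ : IrrCharacter G => χ ∈ B),
        resMap M (centralChar (χ : G → ℂ) xj) * resMap M (conj ((χ : G → ℂ) xi) * (m χ : ℂ)) =
        resMap M (centralChar (repIrr B : G → ℂ) xj) *
          resMap M (conj ((χ : G → ℂ) xi) * (m χ : ℂ)) := by
      intro χ hχ
      simp only [Finset.mem_filter, Finset.mem_univ, true_and] at hχ
      rw [resMap_centralChar_eq hB' hχ hrep]
    rw [Finset.sum_congr rfl h3, ← Finset.mul_sum, ← resMap_sum _ _ (fun χ _ => hτ χ)]
    congr 1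
    have h4 := sum_block_conj_mul_eq hM hB' P m hm xi hxi
    have hP0 : (Nat.card (P : Subgroup G) : ℂ) ≠ 0 := by
      exact_mod_cast (Nat.card_pos (α := (P : Subgroup G))).ne'
    have h5 : ∑ χ ∈ Finset.univ.filter (fun χ : IrrCharacter G => χ ∈ B),
        conj ((χ : G → ℂ) xi) * (m χ : ℂ) = (gp : ℂ) * blockCoeff B xi := by
      apply mul_left_cancel₀ hP0
      rw [h4, hgp]
      push_cast
      ring
    rw [h5, resMap_mul (Helper77.memLocalRing_natCast M gp) (Helper16.osima hB' xi),
      resMap_natCast]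
  rw [h2]
  by_cases hBD : IsDefectGroup p M B D
  · rw [if_pos hBD]
    ring
  · rw [if_neg hBD]
    have h0 : resMap M (centralChar (repIrr B : G → ℂ) xj) = 0 := by
      by_contra hne
      apply hBD
      have h6 : ¬ MemLocalIdeal M (centralChar (repIrr B : G → ℂ) xj) := by
        intro hmem
        exact hne ((resMap_eq_zero_iff (hω _ _)).mpr hmem)
      have h7 := isDefectGroup_of_centralChar_not_mem hM D hD hxj (repIrr B) h6
      rwa [← isPBlock_eq_blockOf_of_mem hMp hB' hrep] at h7
    rw [h0, zero_mul, mul_zero]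

open Classical in
/-- Orthogonality between the idempotent coefficients of a block with normal defect group `D` and
the central characters, on the classes of defect `D`. -/
theorem sum_resMap_blockCoeff_mul_centralChar [hp : Fact p.Prime] (hM : IsPModular p M)
    (D : Subgroup G) [D.Normal] (hD : IsPGroup p D) {ι : Type*} [Fintype ι]
    (K : ι → ConjClasses G) (hKinj : Function.Injective K)
    (hK : ∀ C : ConjClasses G, (∃ i, K i = C) ↔ ∃ x ∈ C.carrier, ¬ p ∣ orderOf x ∧
      ∃ Q : Sylow p (Subgroup.centralizer ({x} : Set G)),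
        (Q : Subgroup (Subgroup.centralizer ({x} : Set G))).map
          (Subgroup.centralizer ({x} : Set G)).subtype = D)
    {B : Set (IrrCharacter G)} (hB : IsPBlock M B) (hBD : IsDefectGroup p M B D)
    (χ' : IrrCharacter G) :
    haveI hMp : M.IsPrime := hM.2.1.isPrime
    ∑ i : ι, resMap M (blockCoeff B (Helper16.classRep (K i))) *
      resMap M (centralChar (χ' : G → ℂ) (Helper16.classRep (K i))) =
      if χ' ∈ B then 1 else 0 := by
  haveI hMp : M.IsPrime := hM.2.1.isPrime
  have hω : ∀ (χ : IrrCharacter G) (g : G), MemLocalRing M (centralChar (χ : G → ℂ) g) :=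
    fun χ g => Helper77.memLocalRing_of_isIntegral M (isIntegral_centralChar χ.2 g)
  have hb : ∀ g : G, MemLocalRing M (blockCoeff B g) := fun g => Helper16.osima hB g
  have h := sum_classes_blockCoeff_mul_centralChar hB χ'
  have h1 := congrArg (resMap M) h
  rw [resMap_sum _ _ (fun C _ => Helper77.memLocalRing_mul M (hb _) (hω _ _))] at h1
  have h2 : resMap M (if χ' ∈ B then (1 : ℂ) else 0) = if χ' ∈ B then 1 else 0 := by
    split_ifs
    · exact resMap_one
    · exact resMap_zero
  rw [h2] at h1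
  rw [← h1]
  have h3 : ∀ C : ConjClasses G, resMap M (blockCoeff B (Helper16.classRep C) *
      centralChar (χ' : G → ℂ) (Helper16.classRep C)) =
      resMap M (blockCoeff B (Helper16.classRep C)) *
        resMap M (centralChar (χ' : G → ℂ) (Helper16.classRep C)) :=
    fun C => resMap_mul (hb _) (hω _ _)
  rw [Finset.sum_congr rfl (fun C _ => h3 C)]
  rw [← Finset.sum_image (s := Finset.univ) (g := K)
    (f := fun C => resMap M (blockCoeff B (Helper16.classRep C)) *
        resMap M (centralChar (χ' : G → ℂ) (Helper16.classRep C)))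
    (fun a _ b _ hab => hKinj hab)]
  apply Finset.sum_subset (Finset.subset_univ _)
  intro C _ hC
  by_contra hne
  apply hC
  rw [Finset.mem_image]
  have hne1 : resMap M (blockCoeff B (Helper16.classRep C)) ≠ 0 := fun h0 => hne (by rw [h0, zero_mul])
  have hne2 : resMap M (centralChar (χ' : G → ℂ) (Helper16.classRep C)) ≠ 0 :=
    fun h0 => hne (by rw [h0, mul_zero])
  have h4 : ¬ MemLocalIdeal M (blockCoeff B (Helper16.classRep C)) :=
    fun hmem => hne1 ((resMap_eq_zero_iff (hb _)).mpr hmem)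
  have h5 : ¬ MemLocalIdeal M (centralChar (χ' : G → ℂ) (Helper16.classRep C)) :=
    fun hmem => hne2 ((resMap_eq_zero_iff (hω _ _)).mpr hmem)
  obtain ⟨hreg, hsyl⟩ := sylCent_of_not_memLocalIdeal hM D hD hB hBD _ h4 χ' h5
  obtain ⟨i, hi⟩ := (hK C).mpr ⟨Helper16.classRep C,
    ConjClasses.mem_carrier_iff_mk_eq.mpr (Helper16.mk_classRep C), hreg,
    (sylCent_iff D _).mp hsyl⟩
  exact ⟨i, Finset.mem_univ _, hi⟩

open Classical in
/-- **Robinson's rank theorem** for a normal `p`-subgroup `D`: the number of blocks with defect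
group `D` is the rank mod `p` of the matrix counting pairs of conjugates with quotient in a Sylow
subgroup. -/
theorem robinson_rank [hp : Fact p.Prime] (hM : IsPModular p M) (D : Subgroup G) [D.Normal]
    (hD : IsPGroup p D) (S : Sylow p G) {ι : Type*} [Fintype ι] [DecidableEq ι]
    (K : ι → ConjClasses G) (hKinj : Function.Injective K)
    (hK : ∀ C : ConjClasses G, (∃ i, K i = C) ↔ ∃ x ∈ C.carrier, ¬ p ∣ orderOf x ∧
      ∃ Q : Sylow p (Subgroup.centralizer ({x} : Set G)),
        (Q : Subgroup (Subgroup.centralizer ({x} : Set G))).map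
          (Subgroup.centralizer ({x} : Set G)).subtype = D) :
    Nat.card {B : Set (IrrCharacter G) // IsPBlock M B ∧ IsDefectGroup p M B D} =
      (Matrix.of fun i j : ι => ((Nat.card {yz : G × G // yz.1 ∈ (K i).carrier ∧
        yz.2 ∈ (K j).carrier ∧ yz.2 * yz.1⁻¹ ∈ (S : Subgroup G)} /
          p ^ ((Nat.card G).factorization p - (Nat.card D).factorization p) : ℕ) :
            ZMod p)).rank := by
  haveI hMp : M.IsPrime := hM.2.1.isPrime
  haveI : Fintype ↥(S : Subgroup G) := Fintype.ofFinite _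
  have hpp : p.Prime := hp.out
  -- the numbers
  obtain ⟨a, ha⟩ : ∃ a, a = (Nat.card G).factorization p := ⟨_, rfl⟩
  obtain ⟨d, hd⟩ : ∃ d, d = (Nat.card D).factorization p := ⟨_, rfl⟩
  rw [← ha, ← hd]
  have hDcard : Nat.card D = p ^ d := by
    obtain ⟨k, hk⟩ := IsPGroup.iff_card.mp hD
    rw [hd, hk, Nat.Prime.factorization_pow hpp]
    simp
  have hScard : Nat.card (S : Subgroup G) = p ^ a := by
    rw [ha]; exact S.card_eq_multiplicity
  have hda : d ≤ a := by
    have h1 : p ^ d ∣ Nat.card G := hDcard ▸ Subgroup.card_subgroup_dvd_card D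
    rw [ha]
    exact (hpp.pow_dvd_iff_le_factorization Nat.card_pos.ne').mp h1
  obtain ⟨gp, hgp, hgpcop⟩ : ∃ gp, Nat.card G = Nat.card (S : Subgroup G) * gp ∧ ¬ p ∣ gp := by
    refine ⟨Nat.card G / p ^ (Nat.card G).factorization p, ?_,
      Nat.not_dvd_ordCompl hpp Nat.card_pos.ne'⟩
    rw [hScard, ha]
    exact (Nat.ordProj_mul_ordCompl_eq_self _ p).symm
  choose m hm using fun χ : IrrCharacter G => exists_nat_sum_subgroup (S : Subgroup G) χ
  -- representatives
  obtain ⟨x, hx⟩ : ∃ x : ι → G, x = fun i => Helper16.classRep (K i) := ⟨_, rfl⟩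
  have hxK : ∀ i, ConjClasses.mk (x i) = K i := fun i => by rw [hx]; exact Helper16.mk_classRep _
  have hx' : ∀ i, ¬ p ∣ orderOf (x i) ∧ SylCent p D (x i) := by
    intro i
    obtain ⟨x₀, hx₀, hreg, hQ⟩ := (hK (K i)).mp ⟨i, rfl⟩
    have hconj : IsConj x₀ (x i) := by
      rw [← ConjClasses.mk_eq_mk_iff_isConj, hxK i]
      exact ConjClasses.mem_carrier_iff_mk_eq.mp hx₀
    refine ⟨?_, sylCent_of_isConj hconj ((sylCent_iff D x₀).mpr hQ)⟩
    obtain ⟨c, hc⟩ := isConj_iff.mp hconj
    rw [← hc]
    have h1 := MulEquiv.orderOf_eq (MulAut.conj c) x₀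
    rw [MulAut.conj_apply] at h1
    rw [h1]
    exact hreg
  have hcex : ∀ i, ∃ c : ℕ, Nat.card (Subgroup.centralizer ({x i} : Set G)) = p ^ d * c ∧
      ¬ p ∣ c := by
    intro i
    have h1 := (hx' i).2.2
    rw [hDcard] at h1
    have h2 : d = (Nat.card (Subgroup.centralizer ({x i} : Set G))).factorization p :=
      Nat.pow_right_injective hpp.two_le h1
    refine ⟨Nat.card (Subgroup.centralizer ({x i} : Set G)) /
      p ^ (Nat.card (Subgroup.centralizer ({x i} : Set G))).factorization p, ?_,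
      Nat.not_dvd_ordCompl hpp Nat.card_pos.ne'⟩
    rw [h2]
    exact (Nat.ordProj_mul_ordCompl_eq_self _ p).symm
  choose c hc hccop using hcex
  -- the counting numbers
  obtain ⟨N, hN⟩ : ∃ N : ι → ι → ℕ, N = fun i j => Nat.card {yz : G × G // yz.1 ∈ (K i).carrier ∧
        yz.2 ∈ (K j).carrier ∧ yz.2 * yz.1⁻¹ ∈ (S : Subgroup G)} := ⟨_, rfl⟩
  obtain ⟨Z, hZ⟩ : ∃ Z : ι → ι → ℂ, Z = fun i j => ∑ χ : IrrCharacter G,
      centralChar (χ : G → ℂ) (x j) * conj ((χ : G → ℂ) (x i)) * (m χ : ℂ) := ⟨_, rfl⟩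
  have hp0 : (p : ℂ) ≠ 0 := by exact_mod_cast hpp.ne_zero
  have hNc : ∀ i j, (N i j : ℂ) * (c i : ℂ) = (p : ℂ) ^ (a - d) * Z i j := by
    intro i j
    have h1 := card_pairs_mul_card_centralizer S m hm (K i) (K j) (x i) (x j) (hxK i) (hxK j)
    rw [hc i, hScard] at h1
    have h2 : (N i j : ℂ) * (((p ^ d * c i : ℕ)) : ℂ) = ((p ^ a : ℕ) : ℂ) * Z i j := by
      rw [hN, hZ]
      exact h1
    have hpa : (p : ℂ) ^ a = (p : ℂ) ^ d * (p : ℂ) ^ (a - d) := by
      rw [← pow_add]
      congr 1
      omega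
    have hpd : (p : ℂ) ^ d ≠ 0 := pow_ne_zero _ hp0
    apply mul_left_cancel₀ hpd
    push_cast at h2
    rw [hpa] at h2
    linear_combination h2
  have hZR : ∀ i j, MemLocalRing M (Z i j) := by
    intro i j
    rw [hZ]
    refine Helper77.memLocalRing_sum M _ _ (fun χ _ => ?_)
    refine Helper77.memLocalRing_mul M (Helper77.memLocalRing_mul M ?_ ?_)
      (Helper77.memLocalRing_natCast M _)
    · exact Helper77.memLocalRing_of_isIntegral M (isIntegral_centralChar χ.2 _)
    · have h1 : IsIntegral ℤ ((χ : G → ℂ) (x i)⁻¹) := isIntegral_irrChar_apply χ.2 _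
      rw [Helper79.irr_inv] at h1
      exact Helper77.memLocalRing_of_isIntegral M h1
  have hdvd : ∀ i j, p ^ (a - d) ∣ N i j := by
    intro i j
    have hpe : p ^ (a - d) ≠ 0 := pow_ne_zero _ hpp.ne_zero
    have h1 : MemLocalRing M (((N i j * c i : ℕ) : ℂ) / ((p ^ (a - d) : ℕ) : ℂ)) := by
      have : ((N i j * c i : ℕ) : ℂ) / ((p ^ (a - d) : ℕ) : ℂ) = Z i j := by
        push_cast
        rw [hNc i j]
        field_simp
      rw [this]
      exact hZR i j
    have h2 := pow_dvd_of_memLocalRing_div hM hpe dvd_rfl h1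
    have hcop : Nat.Coprime (p ^ (a - d)) (c i) :=
      Nat.Coprime.pow_left _ ((Nat.Prime.coprime_iff_not_dvd hpp).mpr (hccop i))
    exact hcop.dvd_of_dvd_mul_right h2
  have hnc : ∀ i j, ((N i j / p ^ (a - d) : ℕ) : ℂ) * (c i : ℂ) = Z i j := by
    intro i j
    obtain ⟨n, hn⟩ := hdvd i j
    have hpe : p ^ (a - d) ≠ 0 := pow_ne_zero _ hpp.ne_zero
    have h1 : N i j / p ^ (a - d) = n := by
      rw [hn]; exact Nat.mul_div_cancel_left n (Nat.pos_of_ne_zero hpe)
    rw [h1]
    have h2 := hNc i j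
    rw [hn] at h2
    push_cast at h2
    have hpe' : (p : ℂ) ^ (a - d) ≠ 0 := pow_ne_zero _ hp0
    apply mul_left_cancel₀ hpe'
    linear_combination h2
  -- pass to the residue field
  haveI : CharP (ResField M) p := resField_charP hM
  let f : ZMod p →+* ResField M := ZMod.castHom (dvd_refl p) (ResField M)
  have hmat : (Matrix.of fun i j : ι => ((Nat.card {yz : G × G // yz.1 ∈ (K i).carrier ∧
        yz.2 ∈ (K j).carrier ∧ yz.2 * yz.1⁻¹ ∈ (S : Subgroup G)} / p ^ (a - d) : ℕ) : ZMod p)) =
      Matrix.of (fun i j : ι => ((N i j / p ^ (a - d) : ℕ) : ZMod p)) := by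
    rw [hN]
  rw [hmat, ← rank_map_of_field f]
  haveI : Fintype {B : Set (IrrCharacter G) // IsPBlock M B ∧ IsDefectGroup p M B D} :=
    Fintype.ofFinite _
  rw [Nat.card_eq_fintype_card]
  symm
  have hgpF : (gp : ResField M) ≠ 0 := fun h0 => hgpcop ((resMap_natCast_eq_zero_iff hM gp).mp h0)
  refine rank_eq_card_of_biorthogonal _ (fun i => (c i : ResField M) * (gp : ResField M)⁻¹) ?_
    (fun B i => resMap M (blockCoeff B.1 (x i)))
    (fun B j => resMap M (centralChar (repIrr B.1 : G → ℂ) (x j))) ?_ ?_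
  · intro i
    refine mul_ne_zero ?_ (inv_ne_zero hgpF)
    exact fun h0 => hccop i ((resMap_natCast_eq_zero_iff hM (c i)).mp h0)
  · intro i j
    have h1 : (Matrix.of (fun i j : ι => ((N i j / p ^ (a - d) : ℕ) : ZMod p))).map f i j =
        ((N i j / p ^ (a - d) : ℕ) : ResField M) := by
      rw [Matrix.map_apply, Matrix.of_apply, map_natCast]
    rw [h1]
    have h2 : ((N i j / p ^ (a - d) : ℕ) : ResField M) * (c i : ResField M) =
        resMap M (Z i j) := by
      rw [← hnc i j, resMap_mul (Helper77.memLocalRing_natCast M _)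
        (Helper77.memLocalRing_natCast M _), resMap_natCast, resMap_natCast]
    have h3 := resMap_sum_centralChar_mul hM D hD S m hm gp hgp (x i) (x j) (hx' i).1 (hx' j).2
    have h4 : resMap M (Z i j) = (gp : ResField M) *
        ∑ B ∈ (Helper77.blocksFinset M G).filter (fun B => IsDefectGroup p M B D),
          resMap M (blockCoeff B (x i)) * resMap M (centralChar (repIrr B : G → ℂ) (x j)) := by
      rw [hZ]
      exact h3
    have h5 : ∑ B ∈ (Helper77.blocksFinset M G).filter (fun B => IsDefectGroup p M B D),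
          resMap M (blockCoeff B (x i)) * resMap M (centralChar (repIrr B : G → ℂ) (x j)) =
        ∑ B : {B : Set (IrrCharacter G) // IsPBlock M B ∧ IsDefectGroup p M B D},
          resMap M (blockCoeff B.1 (x i)) *
            resMap M (centralChar (repIrr B.1 : G → ℂ) (x j)) := by
      refine Finset.sum_subtype _ (fun B => ?_) _
      rw [Finset.mem_filter, Helper77.mem_blocksFinset]
    rw [← h5]
    calc ((N i j / p ^ (a - d) : ℕ) : ResField M) * ((c i : ResField M) * (gp : ResField M)⁻¹)
        = (((N i j / p ^ (a - d) : ℕ) : ResField M) * (c i : ResField M)) *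
            (gp : ResField M)⁻¹ := by ring
      _ = _ := by
          rw [h2, h4]
          field_simp
  · intro B B'
    have h1 := sum_resMap_blockCoeff_mul_centralChar hM D hD K hKinj hK B.2.1 B.2.2 (repIrr B'.1)
    have h2 : ∀ i, resMap M (blockCoeff B.1 (x i)) *
        resMap M (centralChar (repIrr B'.1 : G → ℂ) (x i)) =
        resMap M (blockCoeff B.1 (Helper16.classRep (K i))) *
          resMap M (centralChar (repIrr B'.1 : G → ℂ) (Helper16.classRep (K i))) := by
      intro i
      rw [hx]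
    rw [Finset.sum_congr rfl (fun i _ => h2 i), h1]
    have hrep' : repIrr B'.1 ∈ B'.1 := repIrr_mem_of_isPBlock B'.2.1
    by_cases hBB : B = B'
    · rw [if_pos hBB, if_pos (hBB ▸ hrep')]
    · rw [if_neg hBB, if_neg]
      intro hmem
      apply hBB
      apply Subtype.ext
      exact (isPBlock_eq_blockOf_of_mem hMp B.2.1 hmem).trans
        (isPBlock_eq_blockOf_of_mem hMp B'.2.1 hrep').symm

end Cfsg.Agent.Helper78
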