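import Cfsg.Agent.Helper79.ClassMult
import Cfsg.Agent.Helper74.CharCount
import Cfsg.Agent.Helper78.ResidueLinAlg
import Cfsg.Agent.Helper78.FirstMain
import Cfsg.Agent.Helper16.Height
import Cfsg.Agent.Helper16.SylowIn
import Cfsg.Agent.Helper15.IndChar
import Cfsg.Agent.S0911

/-!
# Blocks with a given defect group from `p`-separated classes

If `x₁, …, x_r` are pairwise non-conjugate with a common Sylow `p`-subgroup `D` of their centralizers
and no quotient `g h⁻¹` of conjugates is a non-identity `p`-element, then there are `r` blocks with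
defect group `D` whose height-zero characters give a matrix `(χᵢ(xⱼ))` of unit determinant.
-/

set_option autoImplicit false
set_option linter.unusedSectionVars false
set_option linter.unusedVariables false

namespace Cfsg.Agent.Helper78

open Cfsg
open scoped ComplexConjugate

universe u

section Identity

variable {G : Type u} [Group G] [Fintype G] {p : ℕ}

/-- `∑_{u ∈ P} χ(u) = |P| m` with `m` a natural number. -/
theorem exists_nat_sum_subgroup (P : Subgroup G) [Fintype P] (χ : IrrCharacter G) :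
    ∃ m : ℕ, ∑ u : P, (χ : G → ℂ) u = (Nat.card P : ℂ) * m := by
  have hres : IsCharacter P (fun u : P => (χ : G → ℂ) u) :=
    Helper80.IsCharacter.comp_hom (Helper74.irr_isCharacter χ) P.subtype
  have hone : IsCharacter P (fun _ : P => (1 : ℂ)) :=
    Helper74.irr_isCharacter (Helper79.principalIrr P)
  obtain ⟨m, hm⟩ := Helper15.isCharacter_inner_nat hres hone
  refine ⟨m, ?_⟩
  unfold classInner at hm
  simp only [map_one, mul_one] at hm
  have hP0 : (Nat.card P : ℂ) ≠ 0 := by exact_mod_cast (Nat.card_pos (α := P)).ne'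
  rw [← hm]
  field_simp

theorem conj_irr_one (χ : IrrCharacter G) : conj ((χ : G → ℂ) 1) = (χ : G → ℂ) 1 := by
  rw [irrChar_one_eq_charDegree χ.2, Complex.conj_natCast]

/-- Summing the class multiplication formula over a Sylow `p`-subgroup. -/
theorem sum_mul_sylow_eq [Fact p.Prime] [Fintype (IrrCharacter G)] (P : Sylow p G)
    [Fintype ↥(P : Subgroup G)]
    (m : IrrCharacter G → ℕ)
    (hm : ∀ χ : IrrCharacter G, ∑ u : (P : Subgroup G), (χ : G → ℂ) u =
      (Nat.card (P : Subgroup G) : ℂ) * m χ)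
    (g₁ g₂ : G)
    (hsep : ∀ a b : G, ∀ k : ℕ, 0 < k → orderOf (a * g₁ * a⁻¹ * (b * g₂ * b⁻¹)) ≠ p ^ k) :
    (Nat.card (P : Subgroup G) : ℂ) * ∑ χ : IrrCharacter G,
        (χ : G → ℂ) g₁ * (χ : G → ℂ) g₂ * (m χ : ℂ) / (χ : G → ℂ) 1 =
      ∑ χ : IrrCharacter G, (χ : G → ℂ) g₁ * (χ : G → ℂ) g₂ := by
  classical
  have hG : (Nat.card G : ℂ) ≠ 0 := by exact_mod_cast (Nat.card_pos (α := G)).ne'
  set T : G → ℂ := fun u => ∑ χ : IrrCharacter G,
    (χ : G → ℂ) g₁ * (χ : G → ℂ) g₂ * conj ((χ : G → ℂ) u) / (χ : G → ℂ) 1 with hT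
  have hT0 : ∀ u : (P : Subgroup G), u ≠ 1 → T (u : G) = 0 := by
    intro u hu
    have h1 := Helper79.card_conj_mul_conj_eq g₁ g₂ (u : G)
    have hempty : Finset.univ.filter
        (fun ab : G × G => ab.1 * g₁ * ab.1⁻¹ * (ab.2 * g₂ * ab.2⁻¹) = (u : G)) = ∅ := by
      rw [Finset.filter_eq_empty_iff]
      rintro ⟨a, b⟩ _ hab
      obtain ⟨k, hk⟩ := (IsPGroup.iff_orderOf.mp P.2) u
      have hk0 : 0 < k := by
        rcases Nat.eq_zero_or_pos k with h0 | h0
        · exfalso
          rw [h0, pow_zero, orderOf_eq_one_iff] at hk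
          exact hu hk
        · exact h0
      apply hsep a b k hk0
      simp only at hab
      rw [hab, Subgroup.orderOf_coe, hk]
    rw [hempty, Finset.card_empty, Nat.cast_zero] at h1
    rcases mul_eq_zero.mp h1.symm with h2 | h2
    · exact absurd h2 hG
    · exact h2
  have hT1 : T 1 = ∑ χ : IrrCharacter G, (χ : G → ℂ) g₁ * (χ : G → ℂ) g₂ := by
    rw [hT]
    refine Finset.sum_congr rfl (fun χ _ => ?_)
    rw [conj_irr_one, mul_div_assoc, div_self (Helper16.irr_one_ne_zero χ), mul_one]
  have hsum : ∑ u : (P : Subgroup G), T (u : G) = T 1 := by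
    rw [Finset.sum_eq_single (1 : (P : Subgroup G))]
    · rfl
    · intro u _ hu
      exact hT0 u hu
    · intro h
      exact absurd (Finset.mem_univ _) h
  rw [← hT1, ← hsum]
  simp only [hT]
  rw [Finset.sum_comm, Finset.mul_sum]
  refine Finset.sum_congr rfl (fun χ _ => ?_)
  have h2 : ∑ u : (P : Subgroup G), (χ : G → ℂ) g₁ * (χ : G → ℂ) g₂ *
      conj ((χ : G → ℂ) (u : G)) / (χ : G → ℂ) 1 =
      (χ : G → ℂ) g₁ * (χ : G → ℂ) g₂ / (χ : G → ℂ) 1 *
        conj (∑ u : (P : Subgroup G), (χ : G → ℂ) (u : G)) := by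
    rw [map_sum, Finset.mul_sum]
    refine Finset.sum_congr rfl (fun u _ => ?_)
    ring
  rw [h2, hm χ, map_mul, Complex.conj_natCast, Complex.conj_natCast]
  ring

end Identity

section Main

variable {G : Type u} [Group G] [Fintype G] {M : Ideal AlgInt} {p : ℕ}

theorem centralizer_singleton_inv_eq (g : G) :
    Subgroup.centralizer ({g⁻¹} : Set G) = Subgroup.centralizer ({g} : Set G) := by
  ext c
  rw [Subgroup.mem_centralizer_singleton_iff, Subgroup.mem_centralizer_singleton_iff]
  constructor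
  · intro h
    have : c * g = g * (g⁻¹ * c) * g := by group
    rw [this, ← h]
    group
  · intro h
    have : c * g⁻¹ = g⁻¹ * (g * c) * g⁻¹ := by group
    rw [this, ← h]
    group

/-- If `p^(e+1)` divides `χ(1)` where the class size of `g` is `p^e t` with `p ∤ t`, then `χ(g)`
lies in the local ideal. -/
theorem irr_apply_memLocalIdeal_of_pow_dvd [Fact p.Prime] (hM : IsPModular p M)
    (χ : IrrCharacter G) (g : G) (e t : ℕ)
    (hidx : (Subgroup.centralizer ({g} : Set G)).index = p ^ e * t) (ht : ¬ p ∣ t)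
    (hdvd : p ^ (e + 1) ∣ charDegree (χ : G → ℂ)) : MemLocalIdeal M ((χ : G → ℂ) g) := by
  haveI hMp : M.IsPrime := isPrime_of_isPModular hM
  have hp : p.Prime := Fact.out
  obtain ⟨s, hs⟩ := hdvd
  have hχ1 : (χ : G → ℂ) 1 = ((p ^ (e + 1) * s : ℕ) : ℂ) := by
    rw [irrChar_one_eq_charDegree χ.2, hs]
  have hχ10 := Helper16.irr_one_ne_zero χ
  have hω : MemLocalRing M (centralChar (χ : G → ℂ) g) :=
    Helper16.memLocalRing_of_isIntegral (Helper16.irr_isIntegral_centralChar χ g)
  have ht0 : (t : ℂ) ≠ 0 := by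
    intro h0
    have : t = 0 := by exact_mod_cast h0
    exact ht (this ▸ dvd_zero p)
  have hp0 : (p : ℂ) ≠ 0 := by exact_mod_cast hp.ne_zero
  have hs0 : (s : ℂ) ≠ 0 := by
    intro h0
    apply hχ10
    rw [hχ1]
    have : s = 0 := by exact_mod_cast h0
    rw [this]
    simp
  have heq : (χ : G → ℂ) g = (p : ℂ) * (centralChar (χ : G → ℂ) g * (s : ℂ) * (t : ℂ)⁻¹) := by
    unfold centralChar
    rw [hidx, hχ1]
    push_cast
    field_simp
    ring
  rw [heq]
  exact Helper16.memLocalIdeal_mul_right (memLocalIdeal_prime hM)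
    (Helper16.memLocalRing_mul (Helper16.memLocalRing_mul hω (Helper16.memLocalRing_natCast s))
      (Helper16.memLocalRing_inv_natCast hM ht))

/-- **Blocks from `p`-separated classes.** -/
theorem separated_classes [Fact p.Prime] (hM : IsPModular p M) (D : Subgroup G) {r : ℕ}
    (x : Fin r → G) (hx : ∀ i j : Fin r, IsConj (x i) (x j) → i = j)
    (hD : ∀ i : Fin r, ∃ S : Sylow p ↥(Subgroup.centralizer ({x i} : Set G)),
      (S : Subgroup ↥(Subgroup.centralizer ({x i} : Set G))).map
        (Subgroup.centralizer ({x i} : Set G)).subtype = D)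
    (hsep : ∀ i j : Fin r, ∀ g h : G, IsConj (x i) g → IsConj (x j) h → ∀ k : ℕ, 0 < k →
      orderOf (g * h⁻¹) ≠ p ^ k) :
    ∃ B : Fin r → Set (IrrCharacter G), Function.Injective B ∧
      (∀ i : Fin r, IsPBlock M (B i) ∧ IsDefectGroup p M (B i) D) ∧
      ∀ χ : Fin r → IrrCharacter G,
        (∀ i : Fin r, χ i ∈ B i ∧ blockHeight p (B i) (χ i : G → ℂ) = 0) →
        ¬ MemLocalIdeal M (Matrix.det (Matrix.of fun i j : Fin r => (χ i : G → ℂ) (x j))) := by
  classical
  haveI hMp : M.IsPrime := isPrime_of_isPModular hM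
  have hp : p.Prime := Fact.out
  haveI : Fintype (IrrCharacter G) := Fintype.ofFinite _
  rcases Nat.eq_zero_or_pos r with hr0 | hrpos
  · subst hr0
    refine ⟨fun i => i.elim0, fun i => i.elim0, fun i => i.elim0, fun χ _ => ?_⟩
    rw [Matrix.det_isEmpty]
    exact Helper16.not_memLocalIdeal_one
  -- numerology
  have hGpos : Nat.card G ≠ 0 := Nat.card_pos.ne'
  set a := (Nat.card G).factorization p with ha
  set n' := Nat.card G / p ^ a with hn'
  have hGn : Nat.card G = p ^ a * n' := (Nat.ordProj_mul_ordCompl_eq_self (Nat.card G) p).symm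
  have hn'p : ¬ p ∣ n' := Nat.not_dvd_ordCompl hp hGpos
  set d := (Nat.card D).factorization p with hd
  have hDi : ∀ i, D ≤ Subgroup.centralizer ({x i} : Set G) ∧
      Nat.card D = p ^ (Nat.card (Subgroup.centralizer ({x i} : Set G))).factorization p :=
    fun i => (Helper16.sylowIn_iff p _ D).mp (hD i)
  have hcardD : Nat.card D = p ^ d := by
    obtain ⟨_, h⟩ := hDi ⟨0, hrpos⟩
    rw [hd, h, Nat.Prime.factorization_pow hp]
    simp
  have hdi : ∀ i, (Nat.card (Subgroup.centralizer ({x i} : Set G))).factorization p = d := by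
    intro i
    have := (hDi i).2
    rw [hcardD] at this
    exact (Nat.pow_right_injective hp.two_le this).symm
  set c : Fin r → ℕ := fun i => Nat.card (Subgroup.centralizer ({x i} : Set G)) / p ^ d with hc
  have hCc : ∀ i, Nat.card (Subgroup.centralizer ({x i} : Set G)) = p ^ d * c i := by
    intro i
    rw [hc]
    simp only
    rw [← hdi i]
    exact (Nat.ordProj_mul_ordCompl_eq_self _ p).symm
  have hcp : ∀ i, ¬ p ∣ c i := by
    intro i
    rw [hc]
    simp only
    rw [← hdi i]
    exact Nat.not_dvd_ordCompl hp Nat.card_pos.ne'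
  have hda : d ≤ a := by
    have h1 : p ^ d ∣ Nat.card G := by
      rw [← hcardD]
      exact Subgroup.card_subgroup_dvd_card D
    exact (hp.pow_dvd_iff_le_factorization hGpos).mp h1
  have hidx : ∀ i, (Subgroup.centralizer ({x i} : Set G)).index * c i = p ^ (a - d) * n' := by
    intro i
    have h1 := Subgroup.index_mul_card (Subgroup.centralizer ({x i} : Set G))
    rw [hCc i, hGn] at h1
    have h2 : p ^ a = p ^ d * p ^ (a - d) := by
      rw [← pow_add]
      congr 1
      omega
    rw [h2] at h1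
    have h3 : p ^ d * ((Subgroup.centralizer ({x i} : Set G)).index * c i) =
        p ^ d * (p ^ (a - d) * n') := by
      calc p ^ d * ((Subgroup.centralizer ({x i} : Set G)).index * c i)
          = (Subgroup.centralizer ({x i} : Set G)).index * (p ^ d * c i) := by ring
        _ = p ^ d * p ^ (a - d) * n' := h1
        _ = p ^ d * (p ^ (a - d) * n') := by ring
    exact Nat.eq_of_mul_eq_mul_left (pow_pos hp.pos d) h3
  -- a Sylow subgroup and the multiplicities
  obtain ⟨P⟩ : Nonempty (Sylow p G) := inferInstance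
  haveI : Fintype ↥(P : Subgroup G) := Fintype.ofFinite _
  have hPcard : Nat.card (P : Subgroup G) = p ^ a := P.card_eq_multiplicity
  choose m hm using fun χ : IrrCharacter G => exists_nat_sum_subgroup (P : Subgroup G) χ
  -- the basic matrices
  set Y : IrrCharacter G → Fin r → ℂ := fun χ i => centralChar (χ : G → ℂ) (x i) with hYdef
  set X : IrrCharacter G → Fin r → ℂ := fun χ j => (χ : G → ℂ) (x j)⁻¹ * (m χ : ℂ) with hXdef
  have hYR : ∀ χ i, MemLocalRing M (Y χ i) := fun χ i =>
    Helper16.memLocalRing_of_isIntegral (Helper16.irr_isIntegral_centralChar χ (x i))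
  have hXR : ∀ χ j, MemLocalRing M (X χ j) := fun χ j =>
    Helper16.memLocalRing_mul
      (Helper16.memLocalRing_of_isIntegral (isIntegral_irrChar_apply χ.2 _))
      (Helper16.memLocalRing_natCast _)
  have hn'0 : (n' : ℂ) ≠ 0 := by
    intro h0
    have : n' = 0 := by exact_mod_cast h0
    exact hn'p (this ▸ dvd_zero p)
  have hpa0 : ((p : ℂ) ^ a) ≠ 0 := pow_ne_zero _ (by exact_mod_cast hp.ne_zero)
  have hkey : ∀ i j : Fin r, ∑ χ : IrrCharacter G, Y χ i * X χ j =
      if i = j then (n' : ℂ) else 0 := by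
    intro i j
    have hsep' : ∀ a' b' : G, ∀ k : ℕ, 0 < k →
        orderOf (a' * x i * a'⁻¹ * (b' * (x j)⁻¹ * b'⁻¹)) ≠ p ^ k := by
      intro a' b' k hk
      have h1 : b' * (x j)⁻¹ * b'⁻¹ = (b' * x j * b'⁻¹)⁻¹ := by group
      rw [h1]
      exact hsep i j _ _ (isConj_iff.mpr ⟨a', rfl⟩) (isConj_iff.mpr ⟨b', rfl⟩) k hk
    have h1 := sum_mul_sylow_eq P m hm (x i) (x j)⁻¹ hsep'
    have h2 : ∑ χ : IrrCharacter G, (χ : G → ℂ) (x i) * (χ : G → ℂ) (x j)⁻¹ =
        if IsConj (x i) (x j) then
          (Nat.card (Subgroup.centralizer ({x j} : Set G)) : ℂ) else 0 := by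
      rw [← Helper74.second_orthogonality (x i) (x j)]
      refine Finset.sum_congr rfl (fun χ _ => ?_)
      rw [Helper79.irr_inv]
    rw [h2, hPcard] at h1
    have h3 : ∑ χ : IrrCharacter G, Y χ i * X χ j =
        ((Subgroup.centralizer ({x i} : Set G)).index : ℂ) *
          ∑ χ : IrrCharacter G, (χ : G → ℂ) (x i) * (χ : G → ℂ) (x j)⁻¹ * (m χ : ℂ) /
            (χ : G → ℂ) 1 := by
      rw [Finset.mul_sum]
      refine Finset.sum_congr rfl (fun χ _ => ?_)
      simp only [hYdef, hXdef]
      unfold centralChar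
      ring
    rw [h3]
    by_cases hij : i = j
    · subst hij
      rw [if_pos rfl]
      rw [if_pos (IsConj.refl _)] at h1
      have h4 : ((Subgroup.centralizer ({x i} : Set G)).index : ℂ) *
          (Nat.card (Subgroup.centralizer ({x i} : Set G)) : ℂ) = ((p : ℂ) ^ a) * (n' : ℂ) := by
        have := Subgroup.index_mul_card (Subgroup.centralizer ({x i} : Set G))
        rw [hGn] at this
        exact_mod_cast this
      have h5 : ∑ χ : IrrCharacter G, (χ : G → ℂ) (x i) * (χ : G → ℂ) (x i)⁻¹ * (m χ : ℂ) /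
          (χ : G → ℂ) 1 = (Nat.card (Subgroup.centralizer ({x i} : Set G)) : ℂ) / (p : ℂ) ^ a := by
        rw [eq_div_iff hpa0, mul_comm]
        exact_mod_cast h1
      rw [h5, ← mul_div_assoc, h4]
      field_simp
    · rw [if_neg hij]
      rw [if_neg (fun hc' => hij (hx i j hc'))] at h1
      have h5 : ∑ χ : IrrCharacter G, (χ : G → ℂ) (x i) * (χ : G → ℂ) (x j)⁻¹ * (m χ : ℂ) /
          (χ : G → ℂ) 1 = 0 := by
        have hpa0' : (((p ^ a : ℕ) : ℂ)) ≠ 0 := by exact_mod_cast pow_ne_zero a hp.ne_zero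
        rcases mul_eq_zero.mp h1 with h6 | h6
        · exact absurd h6 hpa0'
        · exact h6
      rw [h5, mul_zero]
  -- characters of too large degree contribute nothing
  have hXJ : ∀ χ : IrrCharacter G, p ^ (a - d + 1) ∣ charDegree (χ : G → ℂ) →
      ∀ j, MemLocalIdeal M (X χ j) := by
    intro χ hdvd j
    have hidx' : (Subgroup.centralizer ({(x j)⁻¹} : Set G)).index * c j = p ^ (a - d) * n' := by
      rw [centralizer_singleton_inv_eq]
      exact hidx j
    -- class size of `x j⁻¹` is `p^(a-d) t` with `t` prime to `p`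
    have hpd : p ^ (a - d) ∣ (Subgroup.centralizer ({(x j)⁻¹} : Set G)).index := by
      have h1 : p ^ (a - d) ∣ (Subgroup.centralizer ({(x j)⁻¹} : Set G)).index * c j :=
        ⟨n', hidx'⟩
      exact (Nat.Coprime.pow_left _ ((Nat.Prime.coprime_iff_not_dvd hp).mpr (hcp j))).dvd_of_dvd_mul_right h1
    obtain ⟨t, ht⟩ := hpd
    have htp : ¬ p ∣ t := by
      intro hpt
      rw [ht, mul_assoc] at hidx'
      have h2 : t * c j = n' := Nat.eq_of_mul_eq_mul_left (pow_pos hp.pos _) hidx'
      exact hn'p (h2 ▸ Dvd.dvd.mul_right hpt _)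
    have h3 := irr_apply_memLocalIdeal_of_pow_dvd hM χ (x j)⁻¹ (a - d) t ht htp hdvd
    exact Helper16.memLocalIdeal_mul_right h3 (Helper16.memLocalRing_natCast _)
  -- selection of `r` characters
  set ι := {χ : IrrCharacter G // ¬ p ^ (a - d + 1) ∣ charDegree (χ : G → ℂ)} with hι
  have hdual : ∀ cc : Fin r → ℂ, (∀ i, MemLocalRing M (cc i)) → (∃ i, ¬ MemLocalIdeal M (cc i)) →
      ∃ χ : ι, ¬ MemLocalIdeal M (∑ i, cc i * Y χ.1 i) := by
    intro cc hccR ⟨i₀, hi₀⟩
    by_contra hcon
    push Not at hcon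
    have hS : ∑ χ : IrrCharacter G, (∑ i, cc i * Y χ i) * X χ i₀ = cc i₀ * (n' : ℂ) := by
      have h1 : ∑ χ : IrrCharacter G, (∑ i, cc i * Y χ i) * X χ i₀ =
          ∑ i, cc i * ∑ χ : IrrCharacter G, Y χ i * X χ i₀ := by
        simp_rw [Finset.sum_mul, Finset.mul_sum]
        rw [Finset.sum_comm]
        refine Finset.sum_congr rfl (fun i _ => Finset.sum_congr rfl (fun χ _ => ?_))
        ring
      rw [h1]
      simp_rw [hkey]
      rw [Finset.sum_eq_single i₀]
      · rw [if_pos rfl]
      · intro i _ hi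
        rw [if_neg hi, mul_zero]
      · intro h
        exact absurd (Finset.mem_univ _) h
    have hSJ : MemLocalIdeal M (∑ χ : IrrCharacter G, (∑ i, cc i * Y χ i) * X χ i₀) := by
      refine Helper16.memLocalIdeal_sum _ _ (fun χ _ => ?_)
      by_cases hχ : p ^ (a - d + 1) ∣ charDegree (χ : G → ℂ)
      · refine Helper16.memLocalIdeal_mul_left ?_ (hXJ χ hχ i₀)
        exact Helper16.memLocalRing_sum _ _ (fun i _ =>
          Helper16.memLocalRing_mul (hccR i) (hYR χ i))
      · exact Helper16.memLocalIdeal_mul_right (hcon ⟨χ, hχ⟩) (hXR χ i₀)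
    rw [hS] at hSJ
    exact Helper16.not_memLocalIdeal_mul (hccR i₀) hi₀
      (Helper16.not_memLocalIdeal_natCast hM hn'p) hSJ
  obtain ⟨f, hf1, hf2, hf3⟩ := exists_injective_det_not_memLocalIdeal M
    (fun (χ : ι) i => Y χ.1 i) (fun χ i => hYR χ.1 i) hdual
  -- the defect groups
  have hDk : ∀ k : Fin r, IsDefectGroup p M (blockOf M ((f k).1 : G → ℂ)) D := by
    intro k
    obtain ⟨i, hi⟩ := hf2 k
    obtain ⟨DB, hDB⟩ := Helper16.exists_defectGroup (M := M) p (f k).1
    have hBblock : IsPBlock M (blockOf M ((f k).1 : G → ℂ)) := ⟨(f k).1, rfl⟩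
    have hDB' := hDB
    obtain ⟨g, hg, S, hS⟩ := hDB'
    obtain ⟨y, Q, hyQ⟩ := (Cfsg.Agent.S0911.result p M hM _ hBblock g hg S (x i)).2
      ⟨(f k).1, Helper16.sameBlock_refl _, hi⟩
    have hQ := (Helper16.sylowIn_iff p (Subgroup.centralizer ({x i} : Set G)) _).mp ⟨Q, rfl⟩
    obtain ⟨t, ht, htQ⟩ := Helper16.exists_conj_of_card p (Subgroup.centralizer ({x i} : Set G)) D
      _ (hDi i).1 hQ.1 (hDi i).2 hQ.2
    have hle : DB.map (MulAut.conj (t * y)).toMonoidHom ≤ D := by
      rw [← htQ, hS]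
      rintro _ ⟨w, hw, rfl⟩
      refine ⟨y * w * y⁻¹, hyQ ⟨w, hw, rfl⟩, ?_⟩
      simp [MulAut.conj_apply, mul_assoc]
    have hcardDB : Nat.card DB = p ^ blockDefect p (blockOf M ((f k).1 : G → ℂ)) :=
      Helper77.card_defectGroup hM hBblock DB hDB
    have hdef : d ≤ blockDefect p (blockOf M ((f k).1 : G → ℂ)) := by
      rw [Helper16.blockDefect_eq]
      have h1 : Helper16.minExp p (blockOf M ((f k).1 : G → ℂ)) ≤
          (charDegree ((f k).1 : G → ℂ)).factorization p :=
        Helper16.minExp_le_of_mem p (Helper16.sameBlock_refl (M := M) _)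
      have h2 : (charDegree ((f k).1 : G → ℂ)).factorization p ≤ a - d := by
        by_contra hcon
        push Not at hcon
        apply (f k).2
        rw [hp.pow_dvd_iff_le_factorization (Helper16.irr_charDegree_ne_zero _)]
        omega
      omega
    have heq : DB.map (MulAut.conj (t * y)).toMonoidHom = D :=
      Subgroup.eq_of_le_of_card_ge hle (by
        rw [Subgroup.card_map_of_injective (MulAut.conj _).injective, hcardDB, hcardD]
        exact Nat.pow_le_pow_right hp.pos hdef)
    rw [← heq]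
    exact isDefectGroup_map_conj (f k).1 hDB (t * y)
  refine ⟨fun k => blockOf M ((f k).1 : G → ℂ), ?_, fun k => ⟨⟨(f k).1, rfl⟩, hDk k⟩, ?_⟩
  · intro k l hkl
    apply hf1 k l
    intro i
    have hkl' : blockOf M ((f k).1 : G → ℂ) = blockOf M ((f l).1 : G → ℂ) := hkl
    have hmem : (f l).1 ∈ blockOf M ((f k).1 : G → ℂ) := by
      rw [hkl']
      exact Helper16.sameBlock_refl (M := M) _
    exact hmem (x i)
  · intro χ' hχ'
    have hdefk : ∀ k, blockDefect p (blockOf M ((f k).1 : G → ℂ)) = d := by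
      intro k
      have := Helper77.card_defectGroup hM ⟨(f k).1, rfl⟩ D (hDk k)
      rw [hcardD] at this
      exact (Nat.pow_right_injective hp.two_le this).symm
    have hdeg : ∀ k, ∃ s : ℕ, ¬ p ∣ s ∧ charDegree ((χ' k : IrrCharacter G) : G → ℂ) =
        p ^ (a - d) * s := by
      intro k
      have hmem : χ' k ∈ blockOf M ((f k).1 : G → ℂ) := (hχ' k).1
      have hht : blockHeight p (blockOf M ((f k).1 : G → ℂ))
          ((χ' k : IrrCharacter G) : G → ℂ) = 0 := (hχ' k).2
      have h0 : (charDegree ((χ' k : IrrCharacter G) : G → ℂ)).factorization p =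
          Helper16.minExp p (blockOf M ((f k).1 : G → ℂ)) :=
        (Helper16.blockHeight_eq_zero_iff p hmem).mp hht
      have h1 : a - Helper16.minExp p (blockOf M ((f k).1 : G → ℂ)) = d := by
        have := hdefk k
        rw [Helper16.blockDefect_eq] at this
        exact this
      have h2 : Helper16.minExp p (blockOf M ((f k).1 : G → ℂ)) ≤ a :=
        Helper16.minExp_le_card p ⟨_, hmem⟩
      have h3 : (charDegree ((χ' k : IrrCharacter G) : G → ℂ)).factorization p = a - d := by
        omega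
      refine ⟨charDegree ((χ' k : IrrCharacter G) : G → ℂ) / p ^ (a - d), ?_, ?_⟩
      · rw [← h3]
        exact Nat.not_dvd_ordCompl hp (Helper16.irr_charDegree_ne_zero _)
      · rw [← h3]
        exact (Nat.ordProj_mul_ordCompl_eq_self _ p).symm
    choose s hs1 hs2 using hdeg
    set ω' : Matrix (Fin r) (Fin r) ℂ :=
      Matrix.of fun k j => centralChar ((χ' k : IrrCharacter G) : G → ℂ) (x j) with hω'
    have hentry : ∀ k j, ((χ' k : IrrCharacter G) : G → ℂ) (x j) =
        (s k : ℂ) * (((c j : ℂ) * (n' : ℂ)⁻¹) * ω' k j) := by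
      intro k j
      have hI : ((Subgroup.centralizer ({x j} : Set G)).index : ℂ) * (c j : ℂ) =
          (p : ℂ) ^ (a - d) * (n' : ℂ) := by exact_mod_cast hidx j
      have hc0 : (c j : ℂ) ≠ 0 := by
        intro h0
        have : c j = 0 := by exact_mod_cast h0
        exact hcp j (this ▸ dvd_zero p)
      have hs0 : (s k : ℂ) ≠ 0 := by
        intro h0
        have : s k = 0 := by exact_mod_cast h0
        exact hs1 k (this ▸ dvd_zero p)
      have hpd0 : ((p : ℂ) ^ (a - d)) ≠ 0 := pow_ne_zero _ (by exact_mod_cast hp.ne_zero)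
      have hI' : ((Subgroup.centralizer ({x j} : Set G)).index : ℂ) =
          (p : ℂ) ^ (a - d) * (n' : ℂ) / (c j : ℂ) := by
        rw [eq_div_iff hc0]
        exact hI
      show _ = (s k : ℂ) * (((c j : ℂ) * (n' : ℂ)⁻¹) *
        centralChar ((χ' k : IrrCharacter G) : G → ℂ) (x j))
      unfold centralChar
      rw [irrChar_one_eq_charDegree (χ' k).2, hs2 k, hI']
      push_cast
      field_simp
    have hmat : (Matrix.of fun i j : Fin r => ((χ' i : IrrCharacter G) : G → ℂ) (x j)) =
        Matrix.of fun k j => (s k : ℂ) *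
          (Matrix.of (fun k j => ((c j : ℂ) * (n' : ℂ)⁻¹) * ω' k j) : Matrix (Fin r) (Fin r) ℂ) k j := by
      ext k j
      exact hentry k j
    rw [hmat, Matrix.det_mul_column, Matrix.det_mul_row]
    -- the determinant of `ω'`
    have hω'det : ¬ MemLocalIdeal M ω'.det := by
      have hsub := det_sub_det_memLocalIdeal M ω'
        (Matrix.of fun k i => Y (f k).1 i)
        (fun k j => Helper16.memLocalRing_of_isIntegral
          (Helper16.irr_isIntegral_centralChar (χ' k) (x j)))
        (fun k j => hYR (f k).1 j)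
        (fun k j => Helper16.sameBlock_symm (hχ' k).1 (x j))
      have h1 : ω'.det = (Matrix.of fun k i => Y (f k).1 i).det +
          (ω'.det - (Matrix.of fun k i => Y (f k).1 i).det) := by ring
      rw [h1]
      exact Helper16.not_memLocalIdeal_add hf3 hsub
    have hs_R : MemLocalRing M (∏ k, (s k : ℂ)) :=
      Helper16.memLocalRing_prod _ _ (fun k _ => Helper16.memLocalRing_natCast _)
    have hs_J : ¬ MemLocalIdeal M (∏ k, (s k : ℂ)) :=
      Helper16.not_memLocalIdeal_prod _ _ (fun k _ => Helper16.memLocalRing_natCast _)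
        (fun k _ => Helper16.not_memLocalIdeal_natCast hM (hs1 k))
    have hc_R : MemLocalRing M (∏ j, ((c j : ℂ) * (n' : ℂ)⁻¹)) :=
      Helper16.memLocalRing_prod _ _ (fun j _ => Helper16.memLocalRing_mul
        (Helper16.memLocalRing_natCast _) (Helper16.memLocalRing_inv_natCast hM hn'p))
    have hc_J : ¬ MemLocalIdeal M (∏ j, ((c j : ℂ) * (n' : ℂ)⁻¹)) :=
      Helper16.not_memLocalIdeal_prod _ _ (fun j _ => Helper16.memLocalRing_mul
        (Helper16.memLocalRing_natCast _) (Helper16.memLocalRing_inv_natCast hM hn'p))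
        (fun j _ => Helper16.not_memLocalIdeal_mul (Helper16.memLocalRing_natCast _)
          (Helper16.not_memLocalIdeal_natCast hM (hcp j))
          (Helper16.not_memLocalIdeal_inv (Helper16.memLocalRing_natCast _)
            (Helper16.not_memLocalIdeal_natCast hM hn'p)))
    exact Helper16.not_memLocalIdeal_mul hs_R hs_J
      (Helper16.not_memLocalIdeal_mul hc_R hc_J hω'det)

end Main

end Cfsg.Agent.Helper78
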