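import Cfsg.Agent.Helper16.SubsectionCount
import Cfsg.Agent.Helper78.BlockBasic

/-!
# The `p`-regular rank of a union of blocks

For a set `A` of irreducible characters closed under `SameBlock` (a union of `p`-blocks):
`|G| * blockRank p A = ∑_{x p-regular} ∑_{χ ∈ A} |χ x|²` and
`|G| * (|A| - blockRank p A) = ∑_{x p-singular} ∑_{χ ∈ A} |χ x|²`.
-/

set_option autoImplicit false
set_option linter.unusedSectionVars false
set_option linter.unusedVariables false

namespace Cfsg.Agent.Helper78

open Cfsg
open scoped ComplexConjugate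

section UnionRank

variable {G : Type*} [Group G] [Fintype G] {M : Ideal AlgInt} {p : ℕ}

/-- A set of irreducible characters closed under `SameBlock`: a union of blocks. -/
def IsBlockClosed (M : Ideal AlgInt) (A : Set (IrrCharacter G)) : Prop :=
  ∀ χ ∈ A, ∀ ψ : IrrCharacter G, SameBlock M (χ : G → ℂ) (ψ : G → ℂ) → ψ ∈ A

open Classical in
/-- The norm sum of a set of irreducible characters at an element. -/
noncomputable def normSum (A : Set (IrrCharacter G)) (x : G) : ℂ :=
  ∑ ζ : IrrCharacter G, (if ζ ∈ A then (1 : ℂ) else 0) *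
    ((ζ : G → ℂ) x * conj ((ζ : G → ℂ) x))

open Classical in
theorem finsum_mem_eq_sum_ite' {α : Type*} [Fintype α] (A : Set α) (f : α → ℂ) :
    ∑ᶠ a ∈ A, f a = ∑ a : α, if a ∈ A then f a else 0 := by
  rw [finsum_mem_eq_finite_toFinset_sum f (Set.toFinite A), ← Finset.sum_filter]
  congr 1
  ext a
  simp

open Classical in
/-- Sums over a union of blocks split into sums over the blocks. -/
theorem sum_ite_closed [hMp : M.IsPrime] {A : Set (IrrCharacter G)} (hA : IsBlockClosed M A)
    (g : IrrCharacter G → ℂ) :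
    ∑ χ : IrrCharacter G, (if χ ∈ A then g χ else 0) =
      ∑ B ∈ (Helper77.blocksFinset M G).filter (fun B => B ⊆ A),
        ∑ χ : IrrCharacter G, (if χ ∈ B then g χ else 0) := by
  rw [Finset.sum_comm]
  refine Finset.sum_congr rfl (fun χ _ => ?_)
  by_cases hχ : χ ∈ A
  · rw [if_pos hχ]
    have hmem : blockOf M (χ : G → ℂ) ∈
        (Helper77.blocksFinset M G).filter (fun B => B ⊆ A) := by
      rw [Finset.mem_filter, Helper77.mem_blocksFinset]
      refine ⟨isPBlock_blockOf χ, ?_⟩
      intro ψ hψ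
      exact hA χ hχ ψ hψ
    rw [Finset.sum_eq_single (blockOf M (χ : G → ℂ))]
    · rw [if_pos (mem_blockOf_self hMp χ)]
    · intro B hB hne
      rw [Finset.mem_filter, Helper77.mem_blocksFinset] at hB
      rw [if_neg]
      intro hχB
      exact hne (isPBlock_eq_blockOf_of_mem hMp hB.1 hχB)
    · intro h; exact absurd hmem h
  · rw [if_neg hχ]
    symm
    refine Finset.sum_eq_zero (fun B hB => ?_)
    rw [Finset.mem_filter] at hB
    rw [if_neg]
    intro hχB
    exact hχ (hB.2 hχB)

/-- Weak block orthogonality for a union of blocks. -/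
theorem weak_orth_closed [Fact p.Prime] (hM : IsPModular p M) {A : Set (IrrCharacter G)}
    (hA : IsBlockClosed M A) (x y : G) (hx : ¬ p ∣ orderOf x) (hy : p ∣ orderOf y) :
    ∑ᶠ χ ∈ A, (χ : G → ℂ) x * conj ((χ : G → ℂ) y) = 0 := by
  classical
  haveI hMp : M.IsPrime := hM.2.1.isPrime
  rw [finsum_mem_eq_sum_ite', sum_ite_closed hA]
  refine Finset.sum_eq_zero (fun B hB => ?_)
  rw [Finset.mem_filter, Helper77.mem_blocksFinset] at hB
  rw [← finsum_mem_eq_sum_ite']
  exact Helper77.weak_block_orthogonality' hM hB.1 x y hx hy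

/-- The projection formula from weak orthogonality. -/
theorem sum_inner_pRegularPart_of_orth {A : Set (IrrCharacter G)}
    (hw : ∀ x y : G, ¬ p ∣ orderOf x → p ∣ orderOf y →
      ∑ᶠ χ ∈ A, (χ : G → ℂ) x * conj ((χ : G → ℂ) y) = 0)
    (ψ : IrrCharacter G) (hψ : ψ ∈ A) (x : G) :
    ∑ χ ∈ (Set.toFinite A).toFinset,
      classInner (pRegularPart p (ψ : G → ℂ)) (pRegularPart p (χ : G → ℂ)) *
        pRegularPart p (χ : G → ℂ) x = pRegularPart p (ψ : G → ℂ) x := by
  classical
  by_cases hx : p ∣ orderOf x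
  · simp only [Helper77.pRegularPart_of_sing hx, mul_zero, Finset.sum_const_zero]
  · simp only [Helper77.pRegularPart_of_reg hx]
    have h1 : ∑ χ ∈ (Set.toFinite A).toFinset,
        classInner (pRegularPart p (ψ : G → ℂ)) (pRegularPart p (χ : G → ℂ)) * (χ : G → ℂ) x =
        ∑ χ ∈ (Set.toFinite A).toFinset,
          classInner (ψ : G → ℂ) (χ : G → ℂ) * (χ : G → ℂ) x := by
      simp only [classInner, mul_assoc, Finset.sum_mul]
      rw [← Finset.mul_sum, ← Finset.mul_sum]
      congr 1
      rw [Finset.sum_comm]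
      conv_rhs => rw [Finset.sum_comm]
      refine Finset.sum_congr rfl (fun y _ => ?_)
      by_cases hy : p ∣ orderOf y
      · simp only [Helper77.pRegularPart_of_sing hy, zero_mul, Finset.sum_const_zero]
        have h2 := hw x y hx hy
        rw [finsum_mem_eq_finite_toFinset_sum _ (Set.toFinite A)] at h2
        symm
        calc ∑ χ ∈ (Set.toFinite A).toFinset,
            (ψ : G → ℂ) y * (conj ((χ : G → ℂ) y) * (χ : G → ℂ) x)
            = (ψ : G → ℂ) y * ∑ χ ∈ (Set.toFinite A).toFinset,
              (χ : G → ℂ) x * conj ((χ : G → ℂ) y) := by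
              rw [Finset.mul_sum]
              refine Finset.sum_congr rfl (fun χ _ => ?_)
              ring
          _ = 0 := by rw [h2, mul_zero]
      · simp only [Helper77.pRegularPart_of_reg hy]
    rw [h1]
    rw [Finset.sum_eq_single ψ]
    · rw [Helper79.classInner_irr_self, one_mul]
    · intro χ _ hne
      rw [Helper79.classInner_irr_ne (Ne.symm hne), zero_mul]
    · intro h
      exfalso
      apply h
      simpa using hψ

theorem blockProj_isProj_of_orth {A : Set (IrrCharacter G)}
    (hw : ∀ x y : G, ¬ p ∣ orderOf x → p ∣ orderOf y →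
      ∑ᶠ χ ∈ A, (χ : G → ℂ) x * conj ((χ : G → ℂ) y) = 0) :
    LinearMap.IsProj
      (Submodule.span ℂ ((fun χ : IrrCharacter G => pRegularPart p (χ : G → ℂ)) '' A))
      (Helper77.blockProj p A) := by
  classical
  constructor
  · intro f
    rw [Helper77.blockProj_apply]
    refine Submodule.sum_mem _ (fun χ hχ => ?_)
    refine Submodule.smul_mem _ _ (Submodule.subset_span ?_)
    exact ⟨χ, by simpa using hχ, rfl⟩
  · intro f hf
    induction hf using Submodule.span_induction with
    | mem f hf =>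
      obtain ⟨ψ, hψ, rfl⟩ := hf
      funext x
      rw [Helper77.blockProj_apply, Finset.sum_apply]
      simp only [Pi.smul_apply, smul_eq_mul]
      exact sum_inner_pRegularPart_of_orth hw ψ hψ x
    | zero => exact map_zero _
    | add f g _ _ hf hg => rw [map_add, hf, hg]
    | smul c f _ hf => rw [map_smul, hf]

/-- The rank formula from weak orthogonality. -/
theorem blockRank_formula_of_orth {A : Set (IrrCharacter G)}
    (hw : ∀ x y : G, ¬ p ∣ orderOf x → p ∣ orderOf y →
      ∑ᶠ χ ∈ A, (χ : G → ℂ) x * conj ((χ : G → ℂ) y) = 0) :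
    (Nat.card G : ℂ) * (blockRank p A : ℂ) =
      ∑ x : G, ∑ᶠ χ ∈ A, pRegularPart p (χ : G → ℂ) x * (χ : G → ℂ) x⁻¹ := by
  classical
  have hcard : (Nat.card G : ℂ) ≠ 0 := Helper79.card_ne_zero_complex
  have h1 := (blockProj_isProj_of_orth hw).trace
  rw [Helper77.blockProj_trace] at h1
  unfold blockRank
  rw [← h1]
  simp only [classInner]
  rw [← Finset.mul_sum, ← mul_assoc, mul_inv_cancel₀ hcard, one_mul, Finset.sum_comm]
  refine Finset.sum_congr rfl (fun x _ => ?_)
  rw [finsum_mem_eq_finite_toFinset_sum _ (Set.toFinite A)]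
  refine Finset.sum_congr rfl (fun χ _ => ?_)
  by_cases hx : p ∣ orderOf x
  · simp only [Helper77.pRegularPart_of_sing hx, zero_mul]
  · simp only [Helper77.pRegularPart_of_reg hx]
    obtain ⟨χ, n, ρ, hirr, rfl⟩ := χ
    show ρ.character x * conj (ρ.character x) = ρ.character x * ρ.character x⁻¹
    rw [Helper79.char_inv]

open Classical in
/-- `|G| * l(A)` as the sum of the norm sums over the `p`-regular elements. -/
theorem card_mul_blockRank_closed [Fact p.Prime] (hM : IsPModular p M)
    {A : Set (IrrCharacter G)} (hA : IsBlockClosed M A) :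
    (Nat.card G : ℂ) * (blockRank p A : ℂ) =
      ∑ x : G, if ¬ p ∣ orderOf x then normSum A x else 0 := by
  rw [blockRank_formula_of_orth (weak_orth_closed hM hA)]
  refine Finset.sum_congr rfl (fun x _ => ?_)
  rw [finsum_mem_eq_sum_ite']
  by_cases hx : p ∣ orderOf x
  · rw [if_neg (not_not.mpr hx)]
    refine Finset.sum_eq_zero (fun χ _ => ?_)
    rw [Helper77.pRegularPart_of_sing hx, zero_mul, ite_self]
  · rw [if_pos hx]
    unfold normSum
    refine Finset.sum_congr rfl (fun χ _ => ?_)
    rw [Helper77.pRegularPart_of_reg hx]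
    obtain ⟨χ, n, ρ, hirr, rfl⟩ := χ
    by_cases hm : (⟨ρ.character, n, ρ, hirr, rfl⟩ : IrrCharacter G) ∈ A
    · rw [if_pos hm, if_pos hm, one_mul]
      show ρ.character x * ρ.character x⁻¹ = ρ.character x * conj (ρ.character x)
      rw [Helper79.char_inv]
    · rw [if_neg hm, if_neg hm, zero_mul]

open Classical in
/-- `|G| * |A|` as the sum of the norm sums over all elements. -/
theorem card_mul_card_eq_sum_normSum (A : Set (IrrCharacter G)) :
    (Nat.card G : ℂ) * (Nat.card A : ℂ) = ∑ x : G, normSum A x := by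
  have hcard : (Nat.card G : ℂ) ≠ 0 := Helper79.card_ne_zero_complex
  unfold normSum
  rw [Finset.sum_comm]
  have h0 : ∀ ζ : IrrCharacter G, ∑ g : G, (if ζ ∈ A then (1 : ℂ) else 0) *
      ((ζ : G → ℂ) g * conj ((ζ : G → ℂ) g)) =
      (if ζ ∈ A then (1 : ℂ) else 0) * (Nat.card G : ℂ) := by
    intro ζ
    rw [← Finset.mul_sum]
    congr 1
    have := Helper79.classInner_irr_self ζ
    unfold classInner at this
    calc ∑ g : G, (ζ : G → ℂ) g * conj ((ζ : G → ℂ) g)
        = (Nat.card G : ℂ) * ((Nat.card G : ℂ)⁻¹ *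
          ∑ g : G, (ζ : G → ℂ) g * conj ((ζ : G → ℂ) g)) := by
          rw [← mul_assoc, mul_inv_cancel₀ hcard, one_mul]
      _ = (Nat.card G : ℂ) := by rw [this, mul_one]
  rw [Finset.sum_congr rfl (fun ζ _ => h0 ζ), ← Finset.sum_mul, mul_comm,
    Helper16.sum_boole_block]

open Classical in
/-- `|G| * (k(A) - l(A))` as the sum of the norm sums over the `p`-singular elements. -/
theorem card_mul_card_sub_blockRank_closed [Fact p.Prime] (hM : IsPModular p M)
    {A : Set (IrrCharacter G)} (hA : IsBlockClosed M A) :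
    (Nat.card G : ℂ) * ((Nat.card A : ℂ) - (blockRank p A : ℂ)) =
      ∑ x : G, if p ∣ orderOf x then normSum A x else 0 := by
  rw [mul_sub, card_mul_card_eq_sum_normSum, card_mul_blockRank_closed hM hA,
    ← Finset.sum_sub_distrib]
  refine Finset.sum_congr rfl (fun x _ => ?_)
  by_cases hx : p ∣ orderOf x
  · rw [if_pos hx, if_neg (not_not.mpr hx), sub_zero]
  · rw [if_neg hx, if_pos hx, sub_self]

end UnionRank

end Cfsg.Agent.Helper78
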